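import Groth.Agent.L22.C1.Basic
import Groth.Agent.L22.QuotLength
import Groth.Agent.L22.IntMult.SheafFormula
import Groth.Agent.L11.LenSpec.Alg

/-!
The cycle of the zero scheme of a section as a cap with the fundamental cycle.
-/

set_option autoImplicit false
set_option linter.style.haveILetI false
set_option backward.isDefEq.respectTransparency false

universe u

open CategoryTheory AlgebraicGeometry TopologicalSpace IsLocalRing Groth.L22.QuotLength

noncomputable section

namespace Groth.L22.C1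

open Groth.L22.IntMult (ptPrime ptPrime_asIdeal specializes_fromSpecStalk eq_ptPrime fromSpecStalk_ptPrime)

variable {X : Scheme.{u}} {L : X.Modules}

theorem subschemeFun_id (δ : X → ℤ) (r : ℤ) (x : X) :
    Cyc.subschemeFun δ r (𝟙 X) x =
      if δ x = r then ((Module.length (X.presheaf.stalk x) (X.presheaf.stalk x)).toNat : ℤ) else 0 := by
  unfold Cyc.subschemeFun
  split_ifs
  · rw [show {z : X | (𝟙 X : X ⟶ X) z = x} = {x} from Set.ext fun z => Iff.rfl, finsum_mem_singleton]
  · rfl

theorem locLen_self {x ξ : X} (h : ξ ⤳ x) :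
    locLen (X.presheaf.stalk x) (ptPrime h) = Module.length (X.presheaf.stalk ξ) (X.presheaf.stalk ξ) := by
  letI := (X.presheaf.stalkSpecializes h).hom.toAlgebra
  haveI : (RingHom.ker (Cyc.specMap x ξ h)).IsPrime := RingHom.ker_isPrime _
  haveI : IsLocalization (ptPrime h).asIdeal.primeCompl (X.presheaf.stalk ξ) := by
    have h1 := Groth.L22.Cyc.isLocalization_stalkSpecializes h
    have hS : (ptPrime h).asIdeal.primeCompl = (RingHom.ker (Cyc.specMap x ξ h)).primeCompl :=
      Submonoid.ext fun a => by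
        show a ∉ (ptPrime h).asIdeal ↔ a ∉ RingHom.ker (Cyc.specMap x ξ h)
        rw [ptPrime_asIdeal]
    rw [hS]
    exact h1
  haveI : IsLocalizedModule (ptPrime h).asIdeal.primeCompl
      (Algebra.linearMap (X.presheaf.stalk x) (X.presheaf.stalk ξ)) :=
    (isLocalizedModule_iff_isLocalization (S := (ptPrime h).asIdeal.primeCompl)).2 inferInstance
  exact Groth.L11.LenSpec.length_eq_of_isLocalizedModule (ptPrime h).asIdeal.primeCompl
    (Localization.AtPrime (ptPrime h).asIdeal) (X.presheaf.stalk ξ)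
    (LocalizedModule.mkLinearMap (ptPrime h).asIdeal.primeCompl (X.presheaf.stalk x))
    (Algebra.linearMap (X.presheaf.stalk x) (X.presheaf.stalk ξ))

variable [IsLocallyNoetherian X] {δ : X → ℤ} (hδ : Cyc.IsDimFun X δ) (hL : PicF.IsInvertible L)

theorem ord_quot_congr {A : Type u} [CommRing A] {I J : Ideal A} (e : I = J) (a : A) :
    Ring.ord (A ⧸ I) (Ideal.Quotient.mk I a) = Ring.ord (A ⧸ J) (Ideal.Quotient.mk J a) := by
  subst e; rfl

include hδ in
theorem delta_lt_of_lt {y : X} {p q : PrimeSpectrum (X.presheaf.stalk y)} (h : p < q) :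
    δ (X.fromSpecStalk y q) < δ (X.fromSpecStalk y p) :=
  (hδ _ _ (((PrimeSpectrum.le_iff_specializes p q).1 h.le).map (X.fromSpecStalk y).continuous) fun e =>
    h.ne ((X.fromSpecStalk y).isEmbedding.injective e)).1

include hδ hL in
/-- At a point of dimension `k`, the multiplicity of the zero scheme is the cap of the fundamental cycle. -/
theorem cap_fundamental_apply (k : ℤ) (hdim : ∀ y : X, δ y ≤ k + 1) (s : L.presheaf.obj (Opposite.op ⊤))
    (hZ : ∀ y : X, mk L (L.presheaf.germ ⊤ y trivial s) = 0 → δ y ≤ k) (y : X) (hy : δ y = k)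
    {t : L.presheaf.stalk y} (ht : IsGen L t) {f : X.presheaf.stalk y}
    (hf : L.presheaf.germ ⊤ y trivial s = f • t) (hreg : Function.Injective fun a : X.presheaf.stalk y => f * a) :
    Cyc.c1CapFun δ L (Cyc.subschemeFun δ (k + 1) (𝟙 X)) (fun ξ => mk L (L.presheaf.germ ⊤ ξ trivial s)) y =
      ((Module.length (X.presheaf.stalk y) (X.presheaf.stalk y ⧸ Ideal.span {f})).toNat : ℤ) := by
  classical
  -- the point of a prime
  have hpt : ∀ p : PrimeSpectrum (X.presheaf.stalk y), X.fromSpecStalk y p ⤳ y := fun p => specializes_fromSpecStalk p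
  have htop : ∀ p : PrimeSpectrum (X.presheaf.stalk y), p.asIdeal ≠ maximalIdeal (X.presheaf.stalk y) → δ (X.fromSpecStalk y p) = k + 1 := fun p hp => by
    have h1 := delta_lt_of_lt hδ (show p < closedPoint (X.presheaf.stalk y) from
      lt_of_le_of_ne (le_maximalIdeal p.2.ne_top) fun h => hp (congrArg PrimeSpectrum.asIdeal h))
    rw [Scheme.fromSpecStalk_closedPoint, hy] at h1
    have := hdim (X.fromSpecStalk y p)
    omega
  have hdim1 : Ring.KrullDimLE 1 (X.presheaf.stalk y) := Ring.krullDimLE_one_iff.2 fun I hI => by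
    by_contra hne
    rw [not_or] at hne
    obtain ⟨J, hJ, hJI⟩ := Ideal.exists_minimalPrimes_le (bot_le : (⊥ : Ideal (X.presheaf.stalk y)) ≤ I)
    have hlt : (⟨J, hJ.1.1⟩ : PrimeSpectrum (X.presheaf.stalk y)) < ⟨I, hI⟩ :=
      lt_of_le_of_ne hJI fun h => hne.1 (by
        have e : J = I := congrArg PrimeSpectrum.asIdeal h
        exact e ▸ hJ)
    have h2 := delta_lt_of_lt hδ hlt
    have h3 := htop ⟨I, hI⟩ fun h => hne.2 ((show I = maximalIdeal (X.presheaf.stalk y) from h) ▸ maximalIdeal.isMaximal (X.presheaf.stalk y))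
    have h4 := hdim (X.fromSpecStalk y ⟨J, hJ.1.1⟩)
    omega
  have hsd : Module.supportDim (X.presheaf.stalk y) (X.presheaf.stalk y) ≤ 1 := by
    rw [Module.supportDim_self_eq_ringKrullDim]
    exact Ring.krullDimLE_iff.1 hdim1
  have hsec : ∀ (ξ : X) (h : ξ ⤳ y), mk L (L.presheaf.germ ⊤ ξ trivial s) =
      (X.presheaf.stalkSpecializes h f) • mk L (L.presheaf.stalkSpecializes h t) := fun ξ h => by
    rw [← TopCat.Presheaf.germ_stalkSpecializes_apply L.presheaf (U := ⊤) (y := y) trivial h s, hf,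
      Groth.L15.SecOrd.stalkSpecializes_smul]
    exact Submodule.Quotient.mk_smul _ _ _
  have hne : ∀ (ξ : X) (h : ξ ⤳ y), δ ξ = k + 1 → Cyc.specMap y ξ h f ≠ 0 := fun ξ h hξ h0 => by
    have := hZ ξ (by
      rw [hsec ξ h, ← Submodule.Quotient.mk_smul]
      exact (mk_smul_eq_zero_iff hL (ht.specializes hL h) _).2 h0)
    omega
  have h0 : ∀ p ∈ Module.support (X.presheaf.stalk y) (X.presheaf.stalk y), f ∈ p.asIdeal → p.asIdeal = maximalIdeal (X.presheaf.stalk y) := fun p _ hfp => by
    by_contra hp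
    refine hne _ (hpt p) (htop p hp) ?_
    rw [eq_ptPrime rfl (hpt p), ptPrime_asIdeal] at hfp
    exact hfp
  have hker : LinearMap.ker (LinearMap.lsmul (X.presheaf.stalk y) (X.presheaf.stalk y) f) = ⊥ := LinearMap.ker_eq_bot.2 hreg
  have hrange : LinearMap.range (LinearMap.lsmul (X.presheaf.stalk y) (X.presheaf.stalk y) f) = Ideal.span {f} := by
    ext a
    rw [LinearMap.mem_range, Ideal.mem_span_singleton']
    exact exists_congr fun b => by rw [mul_comm b f]; rfl
  have hterm : ∀ p ∈ supp' (R := X.presheaf.stalk y) (X.presheaf.stalk y), term f (X.presheaf.stalk y) p ≠ ⊤ ∧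
      (((term f (X.presheaf.stalk y) p).toNat : ℤ) = Cyc.subschemeFun δ (k + 1) (𝟙 X) (X.fromSpecStalk y p) *
        Cyc.secDivFun δ L (X.fromSpecStalk y p) (mk L (L.presheaf.germ ⊤ _ trivial s)) y) := by
    intro p hp
    obtain ⟨ξ, hξd⟩ : ∃ ξ, X.fromSpecStalk y p = ξ := ⟨_, rfl⟩
    rw [hξd]
    have h : ξ ⤳ y := hξd ▸ hpt p
    have hξ : δ ξ = k + 1 := hξd ▸ htop p hp.2
    have hpp : p = ptPrime h := eq_ptPrime hξd h
    have hord : Ring.ord ((X.presheaf.stalk y) ⧸ p.asIdeal) (Ideal.Quotient.mk p.asIdeal f) =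
        Ring.ord (Cyc.LocQuot y ξ h) (Ideal.Quotient.mk _ f) :=
      ord_quot_congr (by rw [hpp]; exact ptPrime_asIdeal h) f
    have hlen : locLen (X.presheaf.stalk y) p = Module.length (X.presheaf.stalk ξ) (X.presheaf.stalk ξ) := by
      conv_lhs => rw [hpp]
      exact locLen_self h
    have ho := Groth.L22.Cyc.ord_locQuot_ne_top hδ (h := h) (by omega) (hne ξ h hξ)
    haveI : IsNoetherianRing (X.presheaf.stalk ξ) := inferInstance
    have hfl : Module.length (X.presheaf.stalk ξ) (X.presheaf.stalk ξ) ≠ ⊤ := by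
      refine length_ne_top_of_support _ fun q _ => ?_
      by_contra hq
      have h1 := delta_lt_of_lt hδ (show q < closedPoint (X.presheaf.stalk ξ) from
        lt_of_le_of_ne (le_maximalIdeal q.2.ne_top) fun e => hq (congrArg PrimeSpectrum.asIdeal e))
      rw [Scheme.fromSpecStalk_closedPoint, hξ] at h1
      have := hdim (X.fromSpecStalk ξ q)
      omega
    refine ⟨?_, ?_⟩
    · rw [term, hord, hlen]
      exact WithTop.mul_ne_top ho hfl
    · rw [term, hord, hlen, subschemeFun_id, if_pos hξ, Cyc.secDivFun, dif_pos ⟨h, by omega⟩, hsec ξ h,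
        secOrdAt_gen hδ hL h (by omega) ht, ← Groth.L22.Cyc.specMap_eq_residue]
      have h5 := Groth.L22.Cyc.ordAt_div_gen hδ y ξ h (by omega) (a := f) (b := 1) (hne ξ h hξ)
        (by rw [map_one]; exact one_ne_zero)
      rw [map_one, div_one, map_one, Ring.ord_one] at h5
      rw [h5, ENat.toNat_mul, Nat.cast_mul]
      rw [ENat.toNat_zero]
      push_cast
      ring
  have hfin := finite_supp' (R := X.presheaf.stalk y) (X.presheaf.stalk y) hsd
  have main := length_quot_eq (R := X.presheaf.stalk y) (X.presheaf.stalk y) f hsd h0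
  rw [hker, Module.length_bot, zero_add, (Submodule.quotEquivOfEq _ _ hrange).length_eq] at main
  rw [main, finsum_mem_eq_finite_toFinset_sum _ hfin,
    ENat.toNat_sum fun p hp => (hterm p (hfin.mem_toFinset.1 hp)).1, Nat.cast_sum,
    Finset.sum_congr rfl fun p hp => (hterm p (hfin.mem_toFinset.1 hp)).2]
  refine (finsum_eq_sum_of_support_subset (fun ξ => Cyc.subschemeFun δ (k + 1) (𝟙 X) ξ *
      Cyc.secDivFun δ L ξ (mk L (L.presheaf.germ ⊤ ξ trivial s)) y)
      (s := hfin.toFinset.image (fun p => X.fromSpecStalk y p)) fun ξ hξ => ?_).trans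
    (Finset.sum_image fun a _ b _ e => (X.fromSpecStalk y).isEmbedding.injective e)
  obtain ⟨h1, h2⟩ := mul_ne_zero_iff.1 hξ
  obtain ⟨h, hd⟩ := secDivFun_ne_zero δ h2
  refine Finset.mem_coe.2 (Finset.mem_image.2 ⟨ptPrime h, hfin.mem_toFinset.2
    ⟨Module.mem_support_iff'.2 ⟨1, fun r hr h0 => hr (by rw [smul_eq_mul, mul_one] at h0; rw [h0]; exact Submodule.zero_mem _)⟩, fun hm => ?_⟩, fromSpecStalk_ptPrime h⟩)
  have : ptPrime h = closedPoint (X.presheaf.stalk y) := PrimeSpectrum.ext hm
  have he := fromSpecStalk_ptPrime h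
  rw [this, Scheme.fromSpecStalk_closedPoint] at he
  rw [← he] at hd
  omega

include hδ hL in
theorem zeroSectionFun_eq (k : ℤ) (hdim : ∀ y : X, δ y ≤ k + 1) (s : L.presheaf.obj (Opposite.op ⊤))
    (hZ : ∀ y : X, mk L (L.presheaf.germ ⊤ y trivial s) = 0 → δ y ≤ k)
    (hreg : ∀ y : X, δ y = k → Function.Injective fun a : X.presheaf.stalk y => a • L.presheaf.germ ⊤ y trivial s) :
    Cyc.zeroSectionFun δ k L s =
      Cyc.c1CapFun δ L (Cyc.subschemeFun δ (k + 1) (𝟙 X)) (fun ξ => mk L (L.presheaf.germ ⊤ ξ trivial s)) := by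
  classical
  funext y
  by_cases hy : δ y = k
  · have ht : ∃ t : L.presheaf.stalk y, Submodule.span (X.presheaf.stalk y) {t} = ⊤ := exists_isGen hL y
    have hf : ∃ f : X.presheaf.stalk y, L.presheaf.germ ⊤ y trivial s = f • Classical.choose ht :=
      ((show IsGen L (Classical.choose ht) from Classical.choose_spec ht).exists_smul _).imp fun f h => h.symm
    rw [Cyc.zeroSectionFun, if_pos hy, dif_pos ht, dif_pos hf]
    refine (cap_fundamental_apply hδ hL k hdim s hZ y hy (Classical.choose_spec ht) (Classical.choose_spec hf)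
      fun a b hab => hreg y hy ?_).symm
    show a • _ = b • _
    rw [Classical.choose_spec hf, smul_smul, smul_smul, mul_comm a, mul_comm b]
    exact congrArg (· • _) hab
  · rw [Cyc.zeroSectionFun, if_neg hy]
    refine (finsum_eq_zero_of_forall_eq_zero fun ξ => ?_).symm
    by_contra h
    obtain ⟨h1, h2⟩ := mul_ne_zero_iff.1 h
    obtain ⟨-, hd⟩ := secDivFun_ne_zero δ h2
    rw [subschemeFun_id] at h1
    split_ifs at h1 with h3
    · omega
    · exact h1 rfl

end Groth.L22.C1
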