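import Groth.Agent.L22.C1.PullCap
import Groth.Agent.L22.C1.ZeroSection
import Groth.Agent.L22.Cyc.ClosedSub

/-!
The first Chern class cap on a closed subscheme.
-/

set_option autoImplicit false
set_option linter.style.haveILetI false
set_option backward.isDefEq.respectTransparency false

universe u

open CategoryTheory CategoryTheory.Limits AlgebraicGeometry TopologicalSpace

noncomputable section

namespace Groth.L22.C1

variable {X D : Scheme.{u}} (i : D ⟶ X) [IsClosedImmersion i] (δ : X → ℤ)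

theorem deltaCompat_closedImmersion : Cyc.DeltaCompat i (fun d => δ (i d)) δ := fun d => ⟨0, by
  letI := (i.residueFieldMap d).hom.toAlgebra
  haveI : Algebra.IsAlgebraic (X.residueField (i d)) (D.residueField d) :=
    ⟨fun z => by
      obtain ⟨a, rfl⟩ := (Groth.L22.Cyc.residueFieldMap_bijective' i d).2 z
      exact isAlgebraic_algebraMap a⟩
  show Algebra.trdeg (X.residueField (i d)) (D.residueField d) = ((0 : ℕ) : Cardinal.{u})
  rw [Nat.cast_zero]
  exact trdeg_eq_zero, by simp⟩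

theorem mapCoeff_closedImmersion (d : D) : AlgebraicCycle.mapCoeff i (fun d => δ (i d)) δ d = 1 :=
  (if_pos rfl).trans (Groth.L22.Cyc.residueDegree_eq_one i d (Groth.L22.Cyc.residueFieldMap_bijective' i d))

theorem map_apply_closedImmersion (α : AlgebraicCycle D ℤ) (d : D) :
    AlgebraicCycle.map i (fun d => δ (i d)) δ α (i d) = α d := by
  show (∑ᶠ e ∈ i ⁻¹' {i d}, α e * ((AlgebraicCycle.mapCoeff i (fun d => δ (i d)) δ e : ℕ) : ℤ)) = _
  rw [show i ⁻¹' {i d} = {d} from Set.ext fun e => ⟨fun h => i.isClosedEmbedding.injective h,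
    fun h => by rw [Set.mem_singleton_iff.1 h]; rfl⟩, finsum_mem_singleton, mapCoeff_closedImmersion,
    Nat.cast_one, mul_one]

theorem mem_range_of_map_ne_zero (α : AlgebraicCycle D ℤ) {x : X}
    (h : AlgebraicCycle.map i (fun d => δ (i d)) δ α x ≠ 0) : x ∈ Set.range i := by
  obtain ⟨d, hd, -⟩ := exists_ne_zero_of_finsum_mem_ne_zero
    (f := fun e => α e * ((AlgebraicCycle.mapCoeff i (fun d => δ (i d)) δ e : ℕ) : ℤ)) h
  exact ⟨d, hd⟩

variable [IsLocallyNoetherian X] [IsLocallyNoetherian D] {L : X.Modules}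

theorem c1Cap_map_self (hδ : Cyc.IsDimFun X δ) (hL : PicF.IsInvertible L) (s : L.presheaf.obj (Opposite.op ⊤))
    (hD : Cyc.IsZeroSchemeOf i L s) (k : ℤ) (α : AlgebraicCycle D ℤ)
    (hα : α ∈ Cyc.Zk D (fun d => δ (i d)) k) (w : (ξ : X) → Cyc.secFibre L ξ) (hw : ∀ ξ, w ξ ≠ 0)
    (t : (d : D) → Cyc.secFibre ((Scheme.Modules.pullback i).obj L) d) (ht : ∀ d, t d ≠ 0)
    (ζ₁ ζ₂ : AlgebraicCycle D ℤ)
    (h₁ : ∀ d, ζ₁ d = Cyc.c1CapFun δ L ⇑(AlgebraicCycle.map i (fun d => δ (i d)) δ α) (Cyc.gysinChoice L s w) (i d))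
    (h₂ : ⇑ζ₂ = Cyc.c1CapFun (fun d => δ (i d)) ((Scheme.Modules.pullback i).obj L) ⇑α t) :
    Cyc.RatEquiv (fun d => δ (i d)) (k - 1) ζ₁ ζ₂ := by
  classical
  have hdD := Groth.L22.Cyc.isDimFun_closedImmersion i hδ
  have hL' : PicF.IsInvertible ((Scheme.Modules.pullback i).obj L) := Groth.L18.Ample.isInvertible_pullback i hL
  refine c1Cap_ratEquiv _ hdD hL' (k - 1) α (fun d hd => hα d fun e => hd (by omega)) (pullSec i w) t
    (fun d => pullSec_ne_zero i hL hL' w d (hw _)) ht ζ₁ ζ₂ ?_ h₂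
  funext d
  rw [h₁ d, c1CapFun_eq_sum, c1CapFun_eq_sum]
  have hE : (finite_gen (AlgebraicCycle.map i (fun d => δ (i d)) δ α) (i d)).toFinset =
      (finite_gen α d).toFinset.image i := by
    ext ξ
    simp only [Set.Finite.mem_toFinset, Finset.mem_image]
    constructor
    · rintro ⟨h1, h2⟩
      obtain ⟨e, rfl⟩ := mem_range_of_map_ne_zero i δ α h2
      rw [map_apply_closedImmersion] at h2
      exact ⟨e, ⟨(Groth.L22.Cyc.specializes_iff_closedImmersion i).1 h1, h2⟩, rfl⟩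
    · rintro ⟨e, ⟨h1, h2⟩, rfl⟩
      exact ⟨h1.map i.continuous, by rw [map_apply_closedImmersion]; exact h2⟩
  rw [hE, Finset.sum_image fun a _ b _ h => i.isClosedEmbedding.injective h]
  refine Finset.sum_congr rfl fun ξ _ => ?_
  have hz : mk L (L.presheaf.germ ⊤ (i ξ) trivial s) = 0 := hD.1.le ⟨ξ, rfl⟩
  rw [map_apply_closedImmersion, show Cyc.gysinChoice L s w (i ξ) = w (i ξ) from if_neg fun h => h hz]
  congr 1
  obtain ⟨g, hg, hY, hX⟩ := exists_local_fun i (δX := fun d => δ (i d)) hdD hδ hL hL' w (i ξ) (i d) (hw _)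
  rw [hY, hX d rfl ξ rfl, Scheme.residueFieldCongr_refl]
  exact (Groth.L22.Cyc.divFun_closedImmersion i hδ ξ g hg d).symm

theorem c1Cap_subscheme (hδ : Cyc.IsDimFun X δ) (hL : PicF.IsInvertible L) (k : ℤ) (hY : ∀ y : D, δ (i y) ≤ k + 1)
    (s : ((Scheme.Modules.pullback i).obj L).presheaf.obj (Opposite.op ⊤))
    (hZ : ∀ y : D, mk _ (((Scheme.Modules.pullback i).obj L).presheaf.germ ⊤ y trivial s) = 0 → δ (i y) ≤ k)
    (hreg : ∀ y : D, δ (i y) = k → Function.Injective fun a : D.presheaf.stalk y =>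
      a • ((Scheme.Modules.pullback i).obj L).presheaf.germ ⊤ y trivial s)
    (v : (ξ : X) → Cyc.secFibre L ξ) (hv : ∀ ξ, v ξ ≠ 0) (γ : AlgebraicCycle X ℤ)
    (hγ : ⇑γ = Cyc.c1CapFun δ L (Cyc.subschemeFun δ (k + 1) i) v) (ζ : AlgebraicCycle D ℤ)
    (hζ : ⇑ζ = Cyc.zeroSectionFun (fun y => δ (i y)) k ((Scheme.Modules.pullback i).obj L) s) :
    Cyc.RatEquiv δ k γ (AlgebraicCycle.map i (fun y => δ (i y)) δ ζ) := by
  classical
  have hdD := Groth.L22.Cyc.isDimFun_closedImmersion i hδ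
  have hL' : PicF.IsInvertible ((Scheme.Modules.pullback i).obj L) := Groth.L18.Ample.isInvertible_pullback i hL
  obtain ⟨φ, hφ⟩ : ∃ φ : AlgebraicCycle D ℤ, ⇑φ = Cyc.subschemeFun (fun y => δ (i y)) (k + 1) (𝟙 D) := by
    refine exists_cycle _ fun y => ?_
    obtain ⟨V, hV, hyV, -⟩ := exists_isAffineOpen_mem_and_subset (x := y) (U := ⊤) trivial
    refine ⟨V, hyV, (Groth.L22.Cyc.finite_maximal hV isClosed_univ).subset fun z hz => ⟨hz.2, trivial,
      fun w _ hwz => ?_⟩⟩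
    have h := hz.1
    rw [Function.mem_support, subschemeFun_id] at h
    split_ifs at h with h'
    · by_contra hne
      have h1 := (hdD w z hwz hne).1
      have h2 := hY w
      dsimp only at h1
      omega
    · exact absurd rfl h
  have hφZ : φ ∈ Cyc.Zk D (fun y => δ (i y)) (k + 1) := fun y hy => by
    rw [hφ, subschemeFun_id, if_neg hy]
  let u := Cyc.gysinChoice ((Scheme.Modules.pullback i).obj L) s (pullSec i v)
  have hu : ∀ y, u y ≠ 0 := fun y => by
    show Cyc.gysinChoice _ _ _ y ≠ 0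
    unfold Cyc.gysinChoice
    split_ifs with h
    · exact h
    · exact pullSec_ne_zero i hL hL' v y (hv _)
  have hζ' : ⇑ζ = Cyc.c1CapFun (fun y => δ (i y)) ((Scheme.Modules.pullback i).obj L) ⇑φ u := by
    rw [hζ, zeroSectionFun_eq hdD hL' k hY s hZ hreg, hφ]
    funext x
    refine finsum_congr fun ξ => ?_
    by_cases h : δ (i ξ) = k + 1
    · congr 2
      exact (if_pos fun h0 => by have := hZ ξ h0; omega).symm
    · rw [subschemeFun_id, if_neg h, zero_mul, zero_mul]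
  have hmap : ⇑(AlgebraicCycle.map i (fun y => δ (i y)) δ φ) = Cyc.subschemeFun δ (k + 1) i := by
    funext x
    show (∑ᶠ y ∈ i ⁻¹' {x}, φ y * ((AlgebraicCycle.mapCoeff i (fun d => δ (i d)) δ y : ℕ) : ℤ)) = _
    unfold Cyc.subschemeFun
    split_ifs with hx
    · refine finsum_mem_congr rfl fun y hy => ?_
      rw [mapCoeff_closedImmersion, Nat.cast_one, mul_one, hφ, subschemeFun_id,
        if_pos (show δ (i y) = k + 1 from (show i y = x from hy) ▸ hx)]
    · refine finsum_mem_eq_zero_of_forall_eq_zero fun y hy => ?_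
      rw [hφ, subschemeFun_id, if_neg (show ¬ δ (i y) = k + 1 from (show i y = x from hy) ▸ hx), zero_mul]
  have h := map_c1Cap i hdD hδ hL (deltaCompat_closedImmersion i δ) k φ hφZ u hu v hv ζ hζ' γ
    (by rw [hγ, hmap])
  have hneg : ∀ (β₁ β₂ : AlgebraicCycle X ℤ), Cyc.RatEquivZero δ k (β₁ - β₂) → Cyc.RatEquivZero δ k (β₂ - β₁) := by
    rintro β₁ β₂ ⟨ι, ξ, g, h1, h2, h3, h4⟩
    refine ⟨ι, ξ, fun j => (g j)⁻¹, h1, fun j => inv_ne_zero (h2 j), h3, fun x => ?_⟩
    have := h4 x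
    rw [Function.locallyFinsuppWithin.coe_sub, Pi.sub_apply] at this ⊢
    rw [← neg_sub, this, ← finsum_neg_distrib]
    refine finsum_congr fun j => ?_
    show _ = Cyc.divFun δ (ξ j) (g j)⁻¹ x
    rw [← zpow_neg_one, divFun_zpow hδ _ (h2 j)]
    ring
  exact hneg _ _ h

end Groth.L22.C1
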