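import Groth.Agent.L22.C1.Gysin
import Groth.Agent.L22.IntMult.CycleOne

/-!
Two Gysin maps commute.
-/

set_option autoImplicit false
set_option linter.style.haveILetI false
set_option backward.isDefEq.respectTransparency false

universe u

open CategoryTheory CategoryTheory.Limits AlgebraicGeometry TopologicalSpace

noncomputable section

namespace Groth.L22.C1

open Groth.L18.Frame (pull)

variable {X : Scheme.{u}} [IsLocallyNoetherian X] {δ : X → ℤ} (hδ : Cyc.IsDimFun X δ)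

include hδ in
/-- Changing sections on `S`, keeping the divisors elsewhere, changes the cap by divisors living on `S`. -/
theorem ratOn_change' {L : X.Modules} (hL : PicF.IsInvertible L) (k : ℤ) (α : AlgebraicCycle X ℤ)
    (hα : α ∈ Cyc.Zk X δ (k + 1)) (S : Set X) (u v : (ξ : X) → Cyc.secFibre L ξ) (hu : ∀ ξ, u ξ ≠ 0)
    (hv : ∀ ξ, v ξ ≠ 0)
    (hS : ∀ ξ, ξ ∉ S → ∀ x, Cyc.secDivFun δ L ξ (u ξ) x = Cyc.secDivFun δ L ξ (v ξ) x) :
    RatOn δ k S (fun x => Cyc.c1CapFun δ L ⇑α u x - Cyc.c1CapFun δ L ⇑α v x) := by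
  classical
  choose φ hφ using fun ξ => exists_ratio hL ξ (v ξ) (u ξ) (hv ξ)
  have hφ0 : ∀ ξ, X.residue ξ (φ ξ) ≠ 0 := fun ξ h => hu ξ (by
    obtain ⟨e, he⟩ := exists_isGen hL ξ
    obtain ⟨a, ha⟩ := exists_smul_mk he (v ξ)
    rw [hφ ξ, ha, smul_smul, ← Submodule.Quotient.mk_smul]
    exact (mk_smul_eq_zero_iff hL he _).2 (by rw [map_mul, h, zero_mul]))
  obtain ⟨β, hβ1, hβ2⟩ := exists_cycle_restrict α fun ξ => ξ ∈ S
  refine ratOn_of_sum hδ k β (fun ξ hξ => ?_) (fun ξ hξ => by_contra fun h => hξ (hβ2 ξ h))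
    (fun ξ => X.residue ξ (φ ξ)) hφ0 fun x => ?_
  · by_cases h : ξ ∈ S
    · rw [hβ1 ξ h]; exact hα ξ hξ
    · exact hβ2 ξ h
  rw [c1CapFun_eq_sum, c1CapFun_eq_sum, ← Finset.sum_sub_distrib]
  have hsub : (finite_gen β x).toFinset ⊆ (finite_gen α x).toFinset := fun ξ hξ => by
    rw [Set.Finite.mem_toFinset] at hξ ⊢
    refine ⟨hξ.1, fun h => hξ.2 ?_⟩
    by_cases h' : ξ ∈ S
    · rw [hβ1 ξ h', h]
    · exact hβ2 ξ h'
  rw [Finset.sum_subset (f := fun ξ => β ξ * Cyc.divFun δ ξ (X.residue ξ (φ ξ)) x) hsub fun ξ hξ h => by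
    rw [Set.Finite.mem_toFinset] at h hξ
    rw [show β ξ = 0 from by_contra fun h' => h ⟨hξ.1, h'⟩, zero_mul]]
  refine Finset.sum_congr rfl fun ξ _ => ?_
  by_cases h : ξ ∈ S
  · rw [hβ1 ξ h, hφ ξ, secDivFun_smul hδ hL ξ _ (hv ξ) _ (hφ0 ξ)]
    ring
  · rw [hS ξ h x, hβ2 ξ h]
    simp

omit [IsLocallyNoetherian X] in
theorem gysinChoice_eq {L : X.Modules} (s : L.presheaf.obj (Opposite.op ⊤)) (w : (ξ : X) → Cyc.secFibre L ξ)
    {ξ : X} (h : mk L (L.presheaf.germ ⊤ ξ trivial s) ≠ 0) :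
    Cyc.gysinChoice L s w ξ = mk L (L.presheaf.germ ⊤ ξ trivial s) := if_pos h

/-- In a local ring two generators of a principal ideal differ by a unit. -/
theorem exists_unit_of_span_eq {R : Type u} [CommRing R] [IsLocalRing R] {f g : R}
    (h : Ideal.span {f} = Ideal.span {g}) : ∃ c, IsUnit c ∧ g = c * f := by
  obtain ⟨a, ha⟩ := Ideal.mem_span_singleton'.1 (h.ge (Ideal.mem_span_singleton_self g))
  obtain ⟨b, hb⟩ := Ideal.mem_span_singleton'.1 (h.le (Ideal.mem_span_singleton_self f))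
  by_cases hu : IsUnit (b * a)
  · exact ⟨a, isUnit_of_mul_isUnit_right hu, ha.symm⟩
  · have h1 : (1 - b * a) * f = 0 := by rw [sub_mul, one_mul, mul_assoc, ha, hb, sub_self]
    have hu1 : IsUnit (1 - b * a) := (IsLocalRing.isUnit_or_isUnit_one_sub_self (b * a)).resolve_left hu
    have hf0 : f = 0 := hu1.mul_right_eq_zero.1 h1
    exact ⟨1, isUnit_one, by rw [one_mul, hf0, ← ha, hf0, mul_zero]⟩

variable {P : Scheme.{u}} (j : P ⟶ X) [IsClosedImmersion j]

include hδ in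
/-- Two sections with the same zero scheme have the same divisor away from it. -/
theorem secDivFun_same_zeroScheme {M : X.Modules} (hM : PicF.IsInvertible M)
    (σ τ : M.presheaf.obj (Opposite.op ⊤)) (hσ : Cyc.IsZeroSchemeOf j M σ) (hτ : Cyc.IsZeroSchemeOf j M τ)
    (w w' : (ξ : X) → Cyc.secFibre M ξ) {ξ : X} (hξ : ξ ∉ Set.range j) (x : X) :
    Cyc.secDivFun δ M ξ (Cyc.gysinChoice M σ w ξ) x = Cyc.secDivFun δ M ξ (Cyc.gysinChoice M τ w' ξ) x := by
  unfold Cyc.secDivFun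
  split_ifs with h
  swap
  · rfl
  have key : ∀ (ρ : M.presheaf.obj (Opposite.op ⊤)) (_ : Cyc.IsZeroSchemeOf j M ρ) (v : (ξ : X) → Cyc.secFibre M ξ)
      (t : M.presheaf.stalk x) (_ : IsGen M t) (f : X.presheaf.stalk x), M.presheaf.germ ⊤ x trivial ρ = f • t →
      Cyc.secOrdAt M ξ x h.1 (Cyc.gysinChoice M ρ v ξ) = Cyc.ordAt x ξ h.1 (Cyc.specMap x ξ h.1 f) ∧
        Cyc.specMap x ξ h.1 f ≠ 0 := fun ρ hρ v t ht f hf => by
    have hne : mk M (M.presheaf.germ ⊤ ξ trivial ρ) ≠ 0 := fun h0 => hξ (hρ.1.ge h0)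
    have e : M.presheaf.germ ⊤ ξ trivial ρ =
        X.presheaf.stalkSpecializes h.1 f • M.presheaf.stalkSpecializes h.1 t := by
      rw [← Groth.L15.SecOrd.stalkSpecializes_smul, ← hf, TopCat.Presheaf.germ_stalkSpecializes_apply]
    rw [gysinChoice_eq ρ v hne, e, show mk M (_ • _) = _ • mk M _ from Submodule.Quotient.mk_smul _ _ _,
      secOrdAt_gen hδ hM h.1 h.2 ht]
    refine ⟨rfl, fun h0 => hne ?_⟩
    rw [e]
    exact (mk_smul_eq_zero_iff hM (ht.specializes hM h.1) _).2 h0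
  obtain ⟨t, ht⟩ := exists_isGen hM x
  obtain ⟨f, hf⟩ := ht.exists_smul (M.presheaf.germ ⊤ x trivial σ)
  obtain ⟨g, hg⟩ := ht.exists_smul (M.presheaf.germ ⊤ x trivial τ)
  obtain ⟨e1, n1⟩ := key σ hσ w t ht f hf.symm
  obtain ⟨e2, n2⟩ := key τ hτ w' t ht g hg.symm
  obtain ⟨c, hc, hce⟩ : ∃ c, IsUnit c ∧ g = c * f := by
    by_cases hx : x ∈ Set.range j
    · obtain ⟨d, rfl⟩ := hx
      refine exists_unit_of_span_eq ?_
      have hspan : ∀ (ρ : M.presheaf.obj (Opposite.op ⊤)) (_ : Cyc.IsZeroSchemeOf j M ρ) (r : X.presheaf.stalk (j d)),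
          M.presheaf.germ ⊤ (j d) trivial ρ = r • t → Ideal.span {r} = RingHom.ker (j.stalkMap d).hom :=
        fun ρ hρ r hr => by
          obtain ⟨t', f', ht', hf', hker⟩ := hρ.2 d
          obtain ⟨c, hc, hct⟩ := ht.exists_unit hM (show IsGen M t' from ht')
          rw [hker, show r = f' * c from ht.injective hM
            (hr.symm.trans (hf'.trans ((congrArg (f' • ·) hct.symm).trans (smul_smul _ _ _))))]
          exact Ideal.span_singleton_mul_right_unit hc _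
      rw [hspan σ hσ f hf.symm, hspan τ hτ g hg.symm]
    · have hunit : ∀ (ρ : M.presheaf.obj (Opposite.op ⊤)) (_ : Cyc.IsZeroSchemeOf j M ρ) (r : X.presheaf.stalk x),
          M.presheaf.germ ⊤ x trivial ρ = r • t → IsUnit r := fun ρ hρ r hr =>
        (Groth.L22.Cyc.isUnit_iff_residue_ne_zero x r).2 fun h0 => hx (hρ.1.ge (by
          show mk M _ = 0
          rw [hr]
          exact (mk_smul_eq_zero_iff hM ht r).2 h0))
      obtain ⟨a, ha⟩ := hunit σ hσ f hf.symm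
      exact ⟨g * ↑a⁻¹, (hunit τ hτ g hg.symm).mul (Units.isUnit _), by rw [← ha, mul_assoc, Units.inv_mul, mul_one]⟩
  rw [e1, e2, hce, map_mul, ordAt_mul hδ x ξ h.1 h.2 (hc.map _).ne_zero n1,
    Groth.L22.Cyc.ordAt_of_isUnit hδ x ξ h.1 h.2 hc, zero_add]

end Groth.L22.C1

namespace Groth.L22.C1

open Groth.L18.Frame (pull)

variable {X D D' P : Scheme.{u}}

theorem exists_cycle_comap (i : D ⟶ X) [IsClosedImmersion i] [IsLocallyNoetherian X] (α : AlgebraicCycle X ℤ) :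
    ∃ β : AlgebraicCycle D ℤ, ∀ d, β d = α (i d) := by
  obtain ⟨β, hβ⟩ := exists_cycle (fun d => α (i d)) fun d => by
    obtain ⟨W, hW, hdW, -⟩ := exists_isAffineOpen_mem_and_subset (x := i d) (U := ⊤) trivial
    exact ⟨i ⁻¹ᵁ W, hdW, ((α.locallyFiniteSupport.finite_inter_support_of_isCompact hW.isCompact).preimage
      i.isClosedEmbedding.injective.injOn).subset fun z hz => ⟨hz.2, hz.1⟩⟩
  exact ⟨β, fun d => by rw [hβ]⟩

theorem stalkIdeal_eq_span (i' : D' ⟶ X) [IsClosedImmersion i'] {L' : X.Modules} (hL' : PicF.IsInvertible L')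
    (s' : L'.presheaf.obj (Opposite.op ⊤)) (hD' : Cyc.IsZeroSchemeOf i' L' s') (d' : D') {x : X} (hx : i' d' = x)
    {t : L'.presheaf.stalk x} (ht : IsGen L' t) {g : X.presheaf.stalk x}
    (hg : L'.presheaf.germ ⊤ x trivial s' = g • t) : IntMult.stalkIdeal i'.ker x = Ideal.span {g} := by
  subst hx
  obtain ⟨t', f', ht', hf', hker⟩ := hD'.2 d'
  obtain ⟨c, hc, hct⟩ := ht.exists_unit hL' (show IsGen L' t' from ht')
  rw [Groth.L22.IntMult.stalkIdeal_eq, ← Groth.L20.Infinitesimal.ker_stalkMap, hker, show g = f' * c from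
    ht.injective hL' (hg.symm.trans (hf'.trans ((congrArg (f' • ·) hct.symm).trans (smul_smul _ _ _))))]
  exact (Ideal.span_singleton_mul_right_unit hc _).symm

variable (i : D ⟶ X) (i' : D' ⟶ X) [IsClosedImmersion i] [IsClosedImmersion i'] {L' : X.Modules}
  (hL' : PicF.IsInvertible L') (s' : L'.presheaf.obj (Opposite.op ⊤)) (hD' : Cyc.IsZeroSchemeOf i' L' s')

theorem pullSec_congr (v v' : (ξ : X) → Cyc.secFibre L' ξ) (d : D) (h : v (i d) = v' (i d)) :
    pullSec i v d = pullSec i v' d := by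
  simp only [pullSec, h]

include hL' hD' in
/-- The restriction of a section cuts out the intersection. -/
theorem isZeroScheme_pull (j : P ⟶ D) (j' : P ⟶ D') [IsClosedImmersion j] (hcomm : j ≫ i = j' ≫ i')
    (hrange : Set.range j = i ⁻¹' Set.range i')
    (hker : ∀ z, RingHom.ker ((j ≫ i).stalkMap z).hom = IntMult.stalkIdeal i.ker ((j ≫ i) z) ⊔
      IntMult.stalkIdeal i'.ker ((j ≫ i) z)) :
    Cyc.IsZeroSchemeOf j ((Scheme.Modules.pullback i).obj L') (pull i L' ⊤ s') := by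
  have hM := Groth.L18.Ample.isInvertible_pullback i hL'
  have hgerm : ∀ d : D, ((Scheme.Modules.pullback i).obj L').presheaf.germ ⊤ d trivial (pull i L' ⊤ s') =
      pm i L' d rfl (L'.presheaf.germ ⊤ (i d) trivial s') := fun d =>
    (pm_germ i L' d rfl (V := ⊤) trivial s').symm
  refine ⟨?_, fun z => ?_⟩
  · rw [hrange]
    ext d
    obtain ⟨t, ht⟩ := exists_isGen hL' (i d)
    obtain ⟨g, hg⟩ := ht.exists_smul (L'.presheaf.germ ⊤ (i d) trivial s')
    have h1 : mk _ (((Scheme.Modules.pullback i).obj L').presheaf.germ ⊤ d trivial (pull i L' ⊤ s')) = 0 ↔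
        X.residue (i d) g = 0 := by
      rw [hgerm, ← hg, pm_smul, mk_smul_eq_zero_iff hM (isGen_pm i hL' d rfl ht), residue_fibMap,
        map_eq_zero, map_eq_zero]
    rw [Set.mem_preimage, hD'.1]
    show mk L' _ = 0 ↔ mk _ _ = 0
    rw [h1, ← hg, mk_smul_eq_zero_iff hL' ht]
  · obtain ⟨t, ht⟩ := exists_isGen hL' (i (j z))
    obtain ⟨g, hg⟩ := ht.exists_smul (L'.presheaf.germ ⊤ (i (j z)) trivial s')
    refine ⟨pm i L' (j z) rfl t, i.stalkMap (j z) g, isGen_pm i hL' _ rfl ht, ?_, ?_⟩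
    · rw [hgerm, ← hg, pm_smul]
      congr 1
      show i.stalkMap (j z) (X.presheaf.stalkSpecializes _ g) = _
      rw [TopCat.Presheaf.stalkSpecializes_refl]
      rfl
    · have h1 : RingHom.ker ((j ≫ i).stalkMap z).hom =
          (RingHom.ker (j.stalkMap z).hom).comap (i.stalkMap (j z)).hom := by
        rw [Scheme.Hom.stalkMap_comp]
        rfl
      have h2 := congrArg (Ideal.map (i.stalkMap (j z)).hom) (h1.symm.trans (hker z))
      rw [Ideal.map_comap_of_surjective _ (i.stalkMap_surjective (j z)), Ideal.map_sup] at h2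
      rw [h2]
      have e1 : Ideal.map (i.stalkMap (j z)).hom (IntMult.stalkIdeal i.ker (i (j z))) = ⊥ := by
        rw [Groth.L22.IntMult.stalkIdeal_eq, ← Groth.L20.Infinitesimal.ker_stalkMap, Ideal.map_eq_bot_iff_le_ker]
      have e2 : IntMult.stalkIdeal i'.ker (i (j z)) = Ideal.span {g} :=
        stalkIdeal_eq_span i' hL' s' hD' (j' z) (congrArg (fun φ : P ⟶ X => φ z) hcomm).symm ht hg.symm
      show Ideal.map _ (IntMult.stalkIdeal i.ker (i (j z))) ⊔ Ideal.map _ (IntMult.stalkIdeal i'.ker (i (j z))) = _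
      rw [e1, e2, bot_sup_eq, Ideal.map_span, Set.image_singleton]

variable [IsLocallyNoetherian X] {δ : X → ℤ} (hδ : Cyc.IsDimFun X δ)

include hδ hL' hD' in
/-- The iterated Gysin map is a double cap on `X`, up to divisors on the intersection. -/
theorem gysin_iterate {L : X.Modules} (hL : PicF.IsInvertible L) (s : L.presheaf.obj (Opposite.op ⊤))
    (hD : Cyc.IsZeroSchemeOf i L s) (j : P ⟶ D) (j' : P ⟶ D') [IsClosedImmersion j] (hcomm : j ≫ i = j' ≫ i')
    (hrange : Set.range j = i ⁻¹' Set.range i')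
    (hker : ∀ z, RingHom.ker ((j ≫ i).stalkMap z).hom = IntMult.stalkIdeal i.ker ((j ≫ i) z) ⊔
      IntMult.stalkIdeal i'.ker ((j ≫ i) z))
    (σ' : ((Scheme.Modules.pullback i).obj L').presheaf.obj (Opposite.op ⊤))
    (hσ' : Cyc.IsZeroSchemeOf j ((Scheme.Modules.pullback i).obj L') σ') (k : ℤ) (α : AlgebraicCycle X ℤ)
    (hα : α ∈ Cyc.Zk X δ k) (w : (ξ : X) → Cyc.secFibre L ξ) (hw : ∀ ξ, w ξ ≠ 0)
    (w' : (ξ : X) → Cyc.secFibre L' ξ) (hw' : ∀ ξ, w' ξ ≠ 0)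
    (w₁ : (d : D) → Cyc.secFibre ((Scheme.Modules.pullback i).obj L') d) (hw₁ : ∀ d, w₁ d ≠ 0)
    (ζ μ : AlgebraicCycle P ℤ)
    (hζ : ∀ z, ζ z = Cyc.c1CapFun (fun d => δ (i d)) ((Scheme.Modules.pullback i).obj L')
      (fun d => Cyc.c1CapFun δ L ⇑α (Cyc.gysinChoice L s w) (i d))
      (Cyc.gysinChoice ((Scheme.Modules.pullback i).obj L') σ' w₁) (j z))
    (hμ : ∀ z, μ z = Cyc.c1CapFun δ L' (Cyc.c1CapFun δ L ⇑α (Cyc.gysinChoice L s w))
      (Cyc.gysinChoice L' s' w') (i (j z))) :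
    Cyc.RatEquiv (fun z => δ (i (j z))) (k - 2) ζ μ ∧ Cyc.RatEquiv (fun z => δ (i (j z))) (k - 2) μ ζ := by
  classical
  haveI : IsLocallyNoetherian D := LocallyOfFiniteType.isLocallyNoetherian i
  haveI : IsLocallyNoetherian P := LocallyOfFiniteType.isLocallyNoetherian j
  have hdD := Groth.L22.Cyc.isDimFun_closedImmersion i hδ
  have hM := Groth.L18.Ample.isInvertible_pullback i hL'
  have hu := gysinChoice_ne_zero s w hw
  have hu' := gysinChoice_ne_zero s' w' hw'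
  have hout : ∀ x, x ∉ Set.range i → Cyc.c1CapFun δ L ⇑α (Cyc.gysinChoice L s w) x = 0 := fun x hx =>
    finsum_eq_zero_of_forall_eq_zero fun p => by rw [secDivFun_gysin_eq_zero s i hδ hL hD w p hx, mul_zero]
  obtain ⟨β, hβ⟩ := exists_cycle_c1Cap hδ hL α _ hu
  obtain ⟨γ, hγ⟩ := exists_cycle_comap i β
  have hγ' : ⇑γ = fun d => Cyc.c1CapFun δ L ⇑α (Cyc.gysinChoice L s w) (i d) := funext fun d => by rw [hγ, hβ]
  have hγZ : γ ∈ Cyc.Zk D (fun d => δ (i d)) (k - 2 + 1) := fun d hd => by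
    rw [hγ']
    refine finsum_eq_zero_of_forall_eq_zero fun p => ?_
    by_contra h
    obtain ⟨h1, h2⟩ := mul_ne_zero_iff.1 h
    have h3 := (secDivFun_ne_zero δ h2).2
    have : δ p = k := by_contra fun h => h1 (hα p h)
    exact hd (show δ (i d) = k - 2 + 1 by omega)
  set τ := pull i L' ⊤ s' with hτd
  have hτ := isZeroScheme_pull i i' hL' s' hD' j j' hcomm hrange hker
  have hpull : ∀ d, pullSec i (Cyc.gysinChoice L' s' w') d =
      Cyc.gysinChoice ((Scheme.Modules.pullback i).obj L') τ (pullSec i w') d := fun d => by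
    by_cases hd : d ∈ Set.range j
    · have h0 : mk _ (((Scheme.Modules.pullback i).obj L').presheaf.germ ⊤ d trivial τ) = 0 := hτ.1.le hd
      have h0' : mk L' (L'.presheaf.germ ⊤ (i d) trivial s') = 0 := hD'.1.le (hrange.le hd)
      refine (pullSec_congr i _ w' d (if_neg fun h => h h0')).trans ?_
      exact (if_neg fun h => h h0).symm
    · have h0 : mk L' (L'.presheaf.germ ⊤ (i d) trivial s') ≠ 0 := fun h => hd (hrange.ge (hD'.1.ge h))
      have h1 : mk _ (((Scheme.Modules.pullback i).obj L').presheaf.germ ⊤ d trivial τ) ≠ 0 := fun h => hd (hτ.1.ge h)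
      rw [pullSec_eq_mk i hL' hM _ d (isGen_of_mk_ne_zero hL' h0) (gysinChoice_eq s' w' h0),
        gysinChoice_eq τ _ h1]
      exact congrArg (mk _) (pm_germ i L' d rfl (V := ⊤) trivial s')
  have hA := gysinChoice_ne_zero σ' w₁ hw₁
  have hB := gysinChoice_ne_zero τ (pullSec i w') fun d => pullSec_ne_zero i hL' hM w' d (hw' _)
  have h := ratOn_change' hdD hM (k - 2) γ hγZ (Set.range j) _ _ hA hB fun ξ hξ x =>
    secDivFun_same_zeroScheme hdD j hM σ' τ hσ' hτ w₁ (pullSec i w') hξ x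
  have heq : ∀ z, μ z = Cyc.c1CapFun (fun d => δ (i d)) ((Scheme.Modules.pullback i).obj L') ⇑γ
      (Cyc.gysinChoice ((Scheme.Modules.pullback i).obj L') τ (pullSec i w')) (j z) := fun z => by
    rw [hμ z, c1CapFun_closedImmersion i hδ hL' _ hout _ hu' (j z), ← hγ', funext hpull]
  refine ⟨h.comap j hdD subset_rfl _ fun z => ?_, (h.zsmul hdD (-1)).comap j hdD subset_rfl _ fun z => ?_⟩
  · rw [Function.locallyFinsuppWithin.coe_sub, Pi.sub_apply, hζ z, heq z, ← hγ']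
  · rw [Function.locallyFinsuppWithin.coe_sub, Pi.sub_apply, hζ z, heq z, ← hγ']
    ring

end Groth.L22.C1

namespace Groth.L22.C1

variable {X D D' : Scheme.{u}} (i : D ⟶ X) (i' : D' ⟶ X) [IsClosedImmersion i] [IsClosedImmersion i']
  [IsLocallyNoetherian X] {δ : X → ℤ} (hδ : Cyc.IsDimFun X δ) {L L' : X.Modules}

include hδ in
theorem gysin_comm (hL : PicF.IsInvertible L) (hL' : PicF.IsInvertible L') (s : L.presheaf.obj (Opposite.op ⊤))
    (s' : L'.presheaf.obj (Opposite.op ⊤)) (hD : Cyc.IsZeroSchemeOf i L s) (hD' : Cyc.IsZeroSchemeOf i' L' s')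
    (σ' : ((Scheme.Modules.pullback i).obj L').presheaf.obj (Opposite.op ⊤))
    (hσ' : Cyc.IsZeroSchemeOf (pullback.fst i i') ((Scheme.Modules.pullback i).obj L') σ')
    (σ : ((Scheme.Modules.pullback i').obj L).presheaf.obj (Opposite.op ⊤))
    (hσ : Cyc.IsZeroSchemeOf (pullback.snd i i') ((Scheme.Modules.pullback i').obj L) σ)
    (k : ℤ) (α : AlgebraicCycle X ℤ) (hα : α ∈ Cyc.Zk X δ k)
    (w : (ξ : X) → Cyc.secFibre L ξ) (hw : ∀ ξ, w ξ ≠ 0) (w' : (ξ : X) → Cyc.secFibre L' ξ) (hw' : ∀ ξ, w' ξ ≠ 0)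
    (w₁ : (d : D) → Cyc.secFibre ((Scheme.Modules.pullback i).obj L') d) (hw₁ : ∀ d, w₁ d ≠ 0)
    (w₂ : (d : D') → Cyc.secFibre ((Scheme.Modules.pullback i').obj L) d) (hw₂ : ∀ d, w₂ d ≠ 0)
    (ζ₁ ζ₂ : AlgebraicCycle (↑(pullback i i') : Scheme.{u}) ℤ)
    (h₁ : ∀ z, ζ₁ z = Cyc.c1CapFun (fun d => δ (i d)) ((Scheme.Modules.pullback i).obj L')
      (fun d => Cyc.c1CapFun δ L ⇑α (Cyc.gysinChoice L s w) (i d))
      (Cyc.gysinChoice ((Scheme.Modules.pullback i).obj L') σ' w₁) (pullback.fst i i' z))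
    (h₂ : ∀ z, ζ₂ z = Cyc.c1CapFun (fun d => δ (i' d)) ((Scheme.Modules.pullback i').obj L)
      (fun d => Cyc.c1CapFun δ L' ⇑α (Cyc.gysinChoice L' s' w') (i' d))
      (Cyc.gysinChoice ((Scheme.Modules.pullback i').obj L) σ w₂) (pullback.snd i i' z)) :
    Cyc.RatEquiv (fun z => δ (i (pullback.fst i i' z))) (k - 2) ζ₁ ζ₂ := by
  haveI : IsLocallyNoetherian D := LocallyOfFiniteType.isLocallyNoetherian i
  haveI : IsLocallyNoetherian (↑(pullback i i') : Scheme.{u}) :=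
    LocallyOfFiniteType.isLocallyNoetherian (pullback.fst i i')
  have hu := gysinChoice_ne_zero s w hw
  have hu' := gysinChoice_ne_zero s' w' hw'
  have hcomm : pullback.fst i i' ≫ i = pullback.snd i i' ≫ i' := pullback.condition
  have hq : ∀ z, i' (pullback.snd i i' z) = i (pullback.fst i i' z) := fun z =>
    (congrArg (fun φ : (pullback i i') ⟶ X => φ z) hcomm).symm
  have hker' : ∀ (g : pullback i i' ⟶ X), g = pullback.fst i i' ≫ i → ∀ z,
      RingHom.ker (g.stalkMap z).hom = IntMult.stalkIdeal i'.ker (g z) ⊔ IntMult.stalkIdeal i.ker (g z) := by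
    rintro g rfl z
    rw [sup_comm]
    exact Groth.L22.IntMult.ker_stalkMap_inter i i' z
  obtain ⟨α₁, hα₁⟩ := exists_cycle_c1Cap hδ hL α _ hu
  obtain ⟨β₁, hβ₁⟩ := exists_cycle_c1Cap hδ hL' α₁ _ hu'
  obtain ⟨μ₁, hμ₁⟩ := exists_cycle_comap (pullback.fst i i' ≫ i) β₁
  obtain ⟨α₂, hα₂⟩ := exists_cycle_c1Cap hδ hL' α _ hu'
  obtain ⟨β₂, hβ₂⟩ := exists_cycle_c1Cap hδ hL α₂ _ hu
  obtain ⟨μ₂, hμ₂⟩ := exists_cycle_comap (pullback.fst i i' ≫ i) β₂
  have hA := (gysin_iterate i i' hL' s' hD' hδ hL s hD (pullback.fst i i') (pullback.snd i i') hcomm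
    (Scheme.Pullback.range_fst i i') (Groth.L22.IntMult.ker_stalkMap_inter i i') σ' hσ' k α hα w hw w' hw'
    w₁ hw₁ ζ₁ μ₁ h₁ fun z => by rw [hμ₁, hβ₁, hα₁]; rfl).1
  have hB := (gysin_iterate i' i hL s hD hδ hL' s' hD' (pullback.snd i i') (pullback.fst i i') hcomm.symm
    (Scheme.Pullback.range_snd i i') (hker' _ hcomm.symm) σ hσ k α hα w' hw' w hw
    w₂ hw₂ ζ₂ μ₂ h₂ fun z => by rw [hμ₂, hβ₂, hα₂, hq z]; rfl).2
  rw [show (fun z => δ (i' (pullback.snd i i' z))) = fun z => δ (i (pullback.fst i i' z)) from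
    funext fun z => by rw [hq z]] at hB
  refine ratEquiv_trans _ hA (ratEquiv_trans _ ?_ hB)
  refine (ratOn_comm_cycle hδ hL' hL (k - 2) α (by rwa [sub_add_cancel]) _ _ _ _ hu' hu' hu hu
    (Set.range i ∩ Set.range i') fun p ξ _ hξ h => ?_).comap (pullback.fst i i' ≫ i) hδ ?_ _ fun z => ?_
  · by_cases h1 : ξ ∈ Set.range i
    · exact Or.inl (gysinChoice_spec s' i' hL' hD' w' h fun h2 => hξ ⟨h1, h2⟩)
    · exact Or.inr (gysinChoice_spec s i hL hD w h h1)
  · rintro x ⟨⟨d, rfl⟩, hd⟩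
    obtain ⟨z, hz⟩ : d ∈ Set.range (pullback.fst i i') := (Scheme.Pullback.range_fst i i').ge hd
    exact ⟨z, by rw [Scheme.Hom.comp_apply, hz]⟩
  · rw [Function.locallyFinsuppWithin.coe_sub, Pi.sub_apply, hμ₁, hμ₂, hβ₁, hβ₂, hα₁, hα₂]

end Groth.L22.C1
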