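import Groth.Agent.L22.C1.GysinSheaf
import Groth.Agent.L22.C1.GysinComm
import Groth.Agent.L22.IntMult.CyclePull
import Groth.Agent.L05.Glue.Flat
import Groth.Agent.S6477

/-!
The Gysin map of a relative effective Cartier divisor on flat pullbacks.
-/

set_option autoImplicit false
set_option linter.style.haveILetI false
set_option maxSynthPendingDepth 3
set_option synthInstance.maxHeartbeats 400000
set_option backward.isDefEq.respectTransparency false
set_option backward.isDefEq.respectTransparency.types false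

universe u

open CategoryTheory AlgebraicGeometry TopologicalSpace TensorProduct

noncomputable section

namespace Groth.L22.C1

/-- A closed subscheme inherits the standing hypotheses. -/
theorem isSetup_closedImmersion {X D : Scheme.{u}} (i : D ⟶ X) [IsClosedImmersion i] {δ : X → ℤ}
    (hX : Cyc.IsSetup X δ) : Cyc.IsSetup D (fun d => δ (i d)) := by
  haveI := hX.1
  refine ⟨LocallyOfFiniteType.isLocallyNoetherian i, fun d => ?_,
    Groth.L22.Cyc.isDimFun_closedImmersion i hX.2.2⟩
  haveI := (hX.2.1 (i d)).1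
  letI := (i.stalkMap d).hom.toAlgebra
  have hsurj : Function.Surjective (algebraMap (X.presheaf.stalk (i d)) (D.presheaf.stalk d)) :=
    i.stalkMap_surjective d
  refine ⟨isNoetherianRing_of_surjective _ _ _ hsurj, fun T _ _ hT => ?_⟩
  letI : Algebra (X.presheaf.stalk (i d)) T :=
    ((algebraMap (D.presheaf.stalk d) T).comp (i.stalkMap d).hom).toAlgebra
  haveI : IsScalarTower (X.presheaf.stalk (i d)) (D.presheaf.stalk d) T := IsScalarTower.of_algebraMap_eq fun _ => rfl
  haveI : Algebra.FiniteType (X.presheaf.stalk (i d)) (D.presheaf.stalk d) :=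
    Algebra.FiniteType.of_surjective (Algebra.ofId _ _) hsurj
  exact (hX.2.1 (i d)).2 T (Algebra.FiniteType.trans inferInstance hT)

/-- A nonzerodivisor with flat quotient stays one after tensoring. -/
theorem smul_injective_tensor {R A B : Type u} [CommRing R] [CommRing A] [CommRing B] [Algebra R A] [Algebra R B]
    [Module.Flat R B] (φ : A →ₐ[R] B) (hφ : Function.Surjective φ) (f : A)
    (hker : RingHom.ker φ.toRingHom = Ideal.span {f}) (hf : Function.Injective fun a : A => f * a)
    (M : Type u) [AddCommGroup M] [Module R M] : Function.Injective fun z : A ⊗[R] M => f • z := by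
  let μ : A →ₗ[R] A := LinearMap.mulLeft R f
  have hex : Function.Exact μ φ.toLinearMap := fun a => by
    refine ⟨fun h => ?_, ?_⟩
    · have h' : a ∈ Ideal.span {f} := hker.le h
      obtain ⟨b, hb⟩ := Ideal.mem_span_singleton'.1 h'
      exact ⟨b, by show f * b = a; rw [mul_comm, hb]⟩
    · rintro ⟨b, rfl⟩
      exact hker.ge (Ideal.mem_span_singleton'.2 ⟨b, mul_comm b f⟩)
  have h := Groth.L05.Glue.lTensor_injective_of_flat_coker μ φ.toLinearMap hf hex hφ M
  have hc : ∀ z : A ⊗[R] M, TensorProduct.comm R A M (f • z) = μ.lTensor M (TensorProduct.comm R A M z) := by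
    intro z
    induction z using TensorProduct.induction_on with
    | zero => simp
    | tmul a m => simp [μ, TensorProduct.smul_tmul']
    | add x y hx hy => simp only [smul_add, map_add, hx, hy]
  intro a b hab
  refine (TensorProduct.comm R A M).injective (h ?_)
  rw [← hc, ← hc]
  exact congrArg _ hab

variable {X Y D : Scheme.{u}} (p : X ⟶ Y) (i : D ⟶ X) [IsClosedImmersion i] {L : X.Modules}
  (hL : PicF.IsInvertible L) (s : L.presheaf.obj (Opposite.op ⊤))

include hL in
/-- A relative effective Cartier divisor is regular on pullbacks from the base. -/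
theorem smul_injective_pullback [Flat p] [Flat (i ≫ p)]
    (hreg : ∀ x : X, Function.Injective (fun a : X.presheaf.stalk x => a • (L.presheaf.germ ⊤ x trivial) s))
    (hD : Cyc.IsZeroSchemeOf i L s) (F : Y.Modules) (x : X) (t : L.presheaf.stalk x) (f : X.presheaf.stalk x)
    (ht : Submodule.span (X.presheaf.stalk x) {t} = ⊤) (hf : (L.presheaf.germ ⊤ x trivial) s = f • t) :
    Function.Injective (fun m : ((Scheme.Modules.pullback p).obj F).presheaf.stalk x => f • m) := by
  have hgen : IsGen L t := ht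
  by_cases hx : x ∈ Set.range i
  swap
  · have hu : IsUnit f := (Groth.L22.Cyc.isUnit_iff_residue_ne_zero x f).2 fun h0 => hx (hD.1.ge (by
      show mk L _ = 0
      rw [hf]
      exact (mk_smul_eq_zero_iff hL hgen f).2 h0))
    exact fun a b hab => hu.smul_left_cancel.1 hab
  obtain ⟨d, rfl⟩ := hx
  obtain ⟨t', f', ht', hf', hker'⟩ := hD.2 d
  obtain ⟨c, hc, hct⟩ := hgen.exists_unit hL (show IsGen L t' from ht')
  have hfc : f = f' * c := hgen.injective hL
    (hf.symm.trans (hf'.trans ((congrArg (f' • ·) hct.symm).trans (smul_smul _ _ _))))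
  have hker : RingHom.ker (i.stalkMap d).hom = Ideal.span {f} := by
    rw [hker', hfc, Ideal.span_singleton_mul_right_unit hc]
  have hinj : Function.Injective fun a : X.presheaf.stalk (i d) => f * a := fun a b hab =>
    hreg (i d) (show a • L.presheaf.germ ⊤ (i d) trivial s = b • L.presheaf.germ ⊤ (i d) trivial s by
      rw [hf, smul_smul, smul_smul, mul_comm a, mul_comm b]
      exact congrArg (· • t) hab)
  letI := (p.stalkMap (i d)).hom.toAlgebra
  letI : Algebra (Y.presheaf.stalk (p (i d))) (D.presheaf.stalk d) :=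
    ((i.stalkMap d).hom.comp (p.stalkMap (i d)).hom).toAlgebra
  haveI : Module.Flat (Y.presheaf.stalk (p (i d))) (D.presheaf.stalk d) := by
    have h := Flat.stalkMap (i ≫ p) d
    rw [Scheme.Hom.stalkMap_comp] at h
    exact h
  let φ : X.presheaf.stalk (i d) →ₐ[Y.presheaf.stalk (p (i d))] D.presheaf.stalk d :=
    { (i.stalkMap d).hom with commutes' := fun r => rfl }
  have h := smul_injective_tensor φ (i.stalkMap_surjective d) f hker hinj (F.presheaf.stalk (p (i d)))
  let el : ((Scheme.Modules.pullback p).obj F).presheaf.stalk (i d) ≃ₗ[X.presheaf.stalk (i d)]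
      X.presheaf.stalk (i d) ⊗[Y.presheaf.stalk (p (i d))] F.presheaf.stalk (p (i d)) :=
    ((Groth.L00.PullStalk.stalkIso p (i d)).app F).toLinearEquiv
  intro a b hab
  refine el.injective (h ?_)
  show f • el a = f • el b
  rw [← map_smul, ← map_smul]
  exact congrArg el hab

variable {δX : X → ℤ} {δY : Y → ℤ}

theorem sum_pullFun (f : D ⟶ Y) (δD : D → ℤ) (c : ℤ) (α : Y → ℤ) (T : Finset Y) (d : D)
    (h : α (f d) ≠ 0 → f d ∈ T) :
    Cyc.pullFun f δD δY c α d = ∑ η ∈ T, α η * Cyc.pullFun f δD δY c (Groth.L22.IntMult.ind η) d := by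
  unfold Cyc.pullFun
  split_ifs
  · rw [Groth.L22.IntMult.sum_ind α T (f d) h, Finset.sum_mul]
    exact Finset.sum_congr rfl fun ξ _ => mul_assoc _ _ _
  · simp

include hL in
theorem gysin_relCartier [Flat p] [LocallyOfFiniteType p] [Flat (i ≫ p)] (hX : Cyc.IsSetup X δX)
    (hY : Cyc.IsSetup Y δY) (r : ℕ) (hr : Cyc.HasRelDim p (r + 1)) (hδ : Cyc.DeltaCompat p δX δY)
    (hreg : ∀ x : X, Function.Injective (fun a : X.presheaf.stalk x => a • (L.presheaf.germ ⊤ x trivial) s))
    (hD : Cyc.IsZeroSchemeOf i L s) (hrD : Cyc.HasRelDim (i ≫ p) r) (k : ℤ) (α : AlgebraicCycle Y ℤ)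
    (hα : α ∈ Cyc.Zk Y δY (k + 1)) (w : (ξ : X) → Cyc.secFibre L ξ) (d : D) :
    Cyc.c1CapFun δX L (Cyc.pullFun p δX δY (r + 1) ⇑α) (Cyc.gysinChoice L s w) (i d) =
      Cyc.pullFun (i ≫ p) (fun d => δX (i d)) δY r ⇑α d := by
  classical
  haveI := hX.1
  haveI := hY.1
  have hD' := isSetup_closedImmersion i hX
  haveI := hD'.1
  have hcast : ((r : ℤ) + 1) = ((r + 1 : ℕ) : ℤ) := by push_cast; rfl
  have hc : ∀ x, Groth.L22.Cyc.FibGen p x → δX x = δY (p x) + ((r : ℤ) + 1) := fun x h => by
    rw [hcast]; exact Groth.L22.Cyc.shift_of_deltaCompat p hr hδ x h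
  have hδD : Cyc.DeltaCompat (i ≫ p) (fun d => δX (i d)) δY :=
    Groth.L22.Cyc.deltaCompat_square p i (𝟙 Y) (i ≫ p) hδ (Category.comp_id _)
  have hcD : ∀ z, Groth.L22.Cyc.FibGen (i ≫ p) z → δX (i z) = δY ((i ≫ p) z) + (r : ℤ) := fun z h =>
    Groth.L22.Cyc.shift_of_deltaCompat (i ≫ p) hrD hδD z h
  choose F hF hsup hfun using fun η : Y => Groth.L22.IntMult.exists_module δY hY.2.2 η
  have hbd : ∀ η y : Y, Nontrivial ((F η).presheaf.stalk y) → δY y ≤ δY η := fun η y h => by
    by_cases hh : η = y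
    · rw [hh]
    · exact (hY.2.2 η y (hsup η y h) hh).1.le
  have hP := fun η => Groth.Agent.S6477.result Y X p δY δX hY hX ((r : ℤ) + 1) hc (δY η) (F η) (hF η) (hbd η)
  have hQ := fun η => Groth.Agent.S6477.result Y D (i ≫ p) δY (fun d => δX (i d)) hY hD' r hcD (δY η) (F η) (hF η) (hbd η)
  have hcoh : ∀ η, Coh.IsCoh ((Scheme.Modules.pullback p).obj (F η)) := fun η => by
    haveI : Coh.IsQCoh (F η) := (hF η).1
    exact Groth.L16.AffineBC.isCoh_pullback p (hF η)
  set T := (finite_gen α (p (i d))).toFinset with hT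
  have hTk : ∀ η ∈ T, δY η = k + 1 := fun η hη => by
    rw [hT, Set.Finite.mem_toFinset] at hη
    exact by_contra fun h => hη.2 (hα η h)
  have hper : ∀ η ∈ T, Cyc.c1CapFun δX L (Cyc.pullFun p δX δY (r + 1) (Groth.L22.IntMult.ind η))
      (Cyc.gysinChoice L s w) (i d) = Cyc.pullFun (i ≫ p) (fun d => δX (i d)) δY r (Groth.L22.IntMult.ind η) d := by
    intro η _
    have e : δY η + ((r : ℤ) + 1) = (δY η + r) + 1 := by ring
    rw [← hfun η, (hP η).2, (hQ η).2, e,
      gysin_sheafFun i hX.2.2 hL s hD (δY η + r) _ (hcoh η) (fun x h => by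
        have := (hP η).1 x h
        omega) (fun x t f ht hf => smul_injective_pullback p i hL s hreg hD (F η) x t f ht hf) w d]
    unfold Cyc.sheafFun
    split_ifs
    · exact congrArg (fun n : ℕ∞ => ((n.toNat : ℕ) : ℤ))
        (Groth.L07.AssTensor.length_iso ((Scheme.Modules.pullbackComp i p).app (F η)) d)
    · rfl
  have hfinX : ∀ η, {z : X | z ⤳ i d ∧ Cyc.pullFun p δX δY (r + 1) (Groth.L22.IntMult.ind η) z ≠ 0}.Finite :=
    fun η => by
      rw [← hfun η, (hP η).2]
      exact Groth.L22.IntMult.finite_sheafFun_gen δX hX.2.2 _ _ (hcoh η) (hP η).1 (i d)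
  set S := (T.finite_toSet.biUnion fun η _ => hfinX η).toFinset with hS
  have hlin : ∀ z, z ⤳ i d → Cyc.pullFun p δX δY (r + 1) (⇑α) z =
      ∑ η ∈ T, α η * Cyc.pullFun p δX δY (r + 1) (Groth.L22.IntMult.ind η) z := fun z hz =>
    sum_pullFun (δY := δY) p δX _ _ T z fun h => by
      rw [hT, Set.Finite.mem_toFinset]
      exact ⟨hz.map p.continuous, h⟩
  have hmem : ∀ η ∈ T, ∀ z, z ⤳ i d → Cyc.pullFun p δX δY (r + 1) (Groth.L22.IntMult.ind η) z ≠ 0 → z ∈ S :=
    fun η hη z h1 h2 => by
      rw [hS, Set.Finite.mem_toFinset]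
      exact Set.mem_biUnion hη ⟨h1, h2⟩
  have hcap : ∀ G : X → ℤ, (∀ z, z ⤳ i d → G z ≠ 0 → z ∈ S) →
      Cyc.c1CapFun δX L G (Cyc.gysinChoice L s w) (i d) =
        ∑ z ∈ S, G z * Cyc.secDivFun δX L z (Cyc.gysinChoice L s w z) (i d) := fun G hG =>
    finsum_eq_sum_of_support_subset _ fun z hz => by
      obtain ⟨h1, h2⟩ := mul_ne_zero_iff.1 hz
      exact Finset.mem_coe.2 (hG z (secDivFun_ne_zero δX h2).1 h1)
  rw [sum_pullFun (δY := δY) (i ≫ p) _ _ _ T d fun h => by
      rw [hT, Set.Finite.mem_toFinset]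
      exact ⟨specializes_refl _, h⟩,
    ← Finset.sum_congr rfl fun η hη => by rw [← hper η hη, hcap _ (hmem η hη), Finset.mul_sum],
    hcap _ fun z hz h => by
      rw [hlin z hz] at h
      obtain ⟨η, hη, hne⟩ := Finset.exists_ne_zero_of_sum_ne_zero h
      exact hmem η hη z hz (right_ne_zero_of_mul hne),
    Finset.sum_comm]
  refine Finset.sum_congr rfl fun z hz => ?_
  have hz' : z ⤳ i d := by
    rw [hS, Set.Finite.mem_toFinset, Set.mem_iUnion₂] at hz
    obtain ⟨_, _, h, _⟩ := hz
    exact h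
  rw [hlin z hz', Finset.sum_mul]
  exact Finset.sum_congr rfl fun η _ => mul_assoc _ _ _

end Groth.L22.C1
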