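import Groth.Agent.L22.C1.GysinComm
import Groth.Agent.L20.SeeNormal.Sheaf
import Groth.Agent.L07.AssFibreProd
import Groth.Agent.L22.Cyc.PushPull

/-!
Gysin maps and proper pushforward or flat pullback.
-/

set_option autoImplicit false
set_option linter.style.haveILetI false
set_option backward.isDefEq.respectTransparency false

universe u

open CategoryTheory CategoryTheory.Limits AlgebraicGeometry TopologicalSpace

noncomputable section

namespace Groth.L22.C1

variable {X Y : Scheme.{u}} [IsLocallyNoetherian X] [IsLocallyNoetherian Y] (f : X ⟶ Y)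
  {δX : X → ℤ} {δY : Y → ℤ} (hdX : Cyc.IsDimFun X δX) (hdY : Cyc.IsDimFun Y δY) {L : Y.Modules}
  (hL : PicF.IsInvertible L)

include hdX hdY hL in
/-- Pulled back sections commute exactly with flat pullback. -/
theorem pullFun_c1Cap_exact [Flat f] (c : ℤ) (hc : ∀ x, Groth.L22.Cyc.FibGen f x → δX x = δY (f x) + c)
    (α : AlgebraicCycle Y ℤ) (v : (η : Y) → Cyc.secFibre L η) (hv : ∀ η, v η ≠ 0) :
    Cyc.pullFun f δX δY c (Cyc.c1CapFun δY L ⇑α v) =
      Cyc.c1CapFun δX ((Scheme.Modules.pullback f).obj L) (Cyc.pullFun f δX δY c ⇑α) (pullSec f v) := by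
  classical
  have hL' : PicF.IsInvertible ((Scheme.Modules.pullback f).obj L) := Groth.L18.Ample.isInvertible_pullback f hL
  have hpull := Groth.L22.Cyc.pullFun_eq' f (δX := δX) (δY := δY) hc
  have hgen : ∀ (t : X), (Groth.L22.Cyc.mult f t).toNat ≠ 0 → Groth.L22.Cyc.FibGen f t := fun t h => by
    by_contra h'
    exact h (by rw [Groth.L22.Cyc.mult_eq_top h']; rfl)
  obtain ⟨α', hα'⟩ : ∃ α' : AlgebraicCycle X ℤ, ⇑α' = Cyc.pullFun f δX δY c ⇑α := by
    refine exists_cycle _ fun x => ?_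
    obtain ⟨W, hW, hxW, -⟩ := exists_isAffineOpen_mem_and_subset (x := f x) (U := ⊤) trivial
    obtain ⟨V, hV, hxV, hVW⟩ := exists_isAffineOpen_mem_and_subset (x := x) (U := f ⁻¹ᵁ W) hxW
    refine ⟨V, hxV, ((α.locallyFiniteSupport.finite_inter_support_of_isCompact hW.isCompact).biUnion
      fun η _ => Groth.L22.Cyc.finite_fibGen_over f hV η).subset fun t ht => ?_⟩
    have h := ht.1
    rw [Function.mem_support, hpull, mul_ne_zero_iff] at h
    exact Set.mem_biUnion (show f t ∈ (W : Set Y) ∩ Function.support ⇑α from ⟨hVW ht.2, h.1⟩)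
      ⟨ht.2, hgen t (by exact_mod_cast h.2), rfl⟩
  funext x
  rw [← hα', c1CapFun_eq_sum, hpull]
  show Cyc.c1CapFun δY L ⇑α v (f x) * _ = _
  rw [c1CapFun_eq_sum, Finset.sum_mul]
  set S := (finite_gen α (f x)).toFinset with hS
  set T := (finite_gen α' x).toFinset with hT
  have hmaps : ∀ t ∈ T, f t ∈ S := fun t ht => by
    rw [hT, Set.Finite.mem_toFinset] at ht
    rw [hS, Set.Finite.mem_toFinset]
    obtain ⟨h1, h2⟩ := ht
    rw [hα', hpull] at h2
    exact ⟨h1.map f.continuous, left_ne_zero_of_mul h2⟩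
  rw [← Finset.sum_fiberwise_of_maps_to hmaps]
  refine Finset.sum_congr rfl fun ξ hξ => ?_
  obtain ⟨g, hg, hY', hX'⟩ := exists_local_fun f (δX := δX) hdX hdY hL hL' v ξ (f x) (hv ξ)
  have hd := Groth.L22.Cyc.pullFun_divFun f hdY hdX hc ξ g hg x
  rw [hpull] at hd
  dsimp only at hd
  rw [mul_assoc, hY', hd]
  have hG : ∀ t : {t : X // Groth.L22.Cyc.FibGen f t ∧ f t = ξ}, ((Groth.L22.Cyc.mult f t.1).toNat : ℤ) *
      Cyc.divFun δX t.1 (f.residueFieldMap t.1 ((Y.residueFieldCongr t.2.2.symm).hom g)) x =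
      ((Groth.L22.Cyc.mult f t.1).toNat : ℤ) *
        Cyc.secDivFun δX ((Scheme.Modules.pullback f).obj L) t.1 (pullSec f v t.1) x := fun t => by
    rw [hX' x rfl t.1 t.2.2]
  rw [finsum_congr hG, finsum_subtype_eq_finsum_cond (f := fun t => ((Groth.L22.Cyc.mult f t).toNat : ℤ) *
    Cyc.secDivFun δX ((Scheme.Modules.pullback f).obj L) t (pullSec f v t) x)
    (fun t => Groth.L22.Cyc.FibGen f t ∧ f t = ξ),
    finsum_cond_eq_sum_of_cond_iff (t := T.filter fun t => f t = ξ) _ fun {t} ht => ?_, Finset.mul_sum]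
  · refine Finset.sum_congr rfl fun t ht => ?_
    rw [Finset.mem_filter] at ht
    rw [hα', hpull]
    show _ = α (f t) * _ * _
    rw [ht.2]
    ring
  · obtain ⟨h1, h2⟩ := mul_ne_zero_iff.1 ht
    rw [Finset.mem_filter, hT, Set.Finite.mem_toFinset]
    refine ⟨fun h => ⟨⟨(secDivFun_ne_zero δX h2).1, ?_⟩, h.2⟩, fun h => ⟨hgen t (by exact_mod_cast h1), h.2⟩⟩
    rw [hα', hpull]
    refine mul_ne_zero ?_ h1
    rw [h.2]
    rw [hS, Set.Finite.mem_toFinset] at hξ
    exact hξ.2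


include hdX hdY hL in
/-- The projection formula holds exactly for pulled back sections. -/
theorem map_c1Cap_exact [IsProper f] (hδ : Cyc.DeltaCompat f δX δY) (α : AlgebraicCycle X ℤ)
    (v : (η : Y) → Cyc.secFibre L η) (hv : ∀ η, v η ≠ 0) (γ₀ : AlgebraicCycle X ℤ)
    (hγ₀ : ⇑γ₀ = Cyc.c1CapFun δX ((Scheme.Modules.pullback f).obj L) ⇑α (pullSec f v)) :
    ⇑(AlgebraicCycle.map f δX δY γ₀) = Cyc.c1CapFun δY L ⇑(AlgebraicCycle.map f δX δY α) v := by
  classical
  have hL' : PicF.IsInvertible ((Scheme.Modules.pullback f).obj L) := Groth.L18.Ample.isInvertible_pullback f hL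
  have hu0 : ∀ t, pullSec f v t ≠ 0 := fun t => pullSec_ne_zero f hL hL' v t (hv _)
  funext y
  obtain ⟨V, hV, hyV, -⟩ := exists_isAffineOpen_mem_and_subset (x := y) (U := ⊤) trivial
  have hA : {ξ : X | α ξ ≠ 0 ∧ f ξ ⤳ y}.Finite :=
    (α.locallyFiniteSupport.finite_inter_support_of_isCompact (f.isCompact_preimage hV.isCompact)).subset
      fun ξ h => ⟨h.2.mem_open V.2 hyV, h.1⟩
  set S := hA.toFinset with hS
  set W : X → ℤ := fun x => ((AlgebraicCycle.mapCoeff f δX δY x : ℕ) : ℤ)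
  have hfin : {x | f x = y ∧ (γ₀ x * W x ≠ 0)}.Finite :=
    (γ₀.locallyFiniteSupport.finite_inter_support_of_isCompact (f.isCompact_preimage hV.isCompact)).subset
      fun x h => ⟨show f x ∈ (V : Set Y) from h.1 ▸ hyV, left_ne_zero_of_mul h.2⟩
  have hexp : ∀ x, f x = y → γ₀ x = ∑ ξ ∈ S, α ξ *
      Cyc.secDivFun δX ((Scheme.Modules.pullback f).obj L) ξ (pullSec f v ξ) x := fun x hx => by
    rw [hγ₀, c1CapFun_eq_sum]
    refine Finset.sum_subset (fun ξ h => ?_) fun ξ _ h => ?_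
    · rw [Set.Finite.mem_toFinset] at h
      rw [hS, Set.Finite.mem_toFinset]
      exact ⟨h.2, hx ▸ h.1.map f.continuous⟩
    · rw [Set.Finite.mem_toFinset] at h
      by_contra h'
      obtain ⟨a, b⟩ := mul_ne_zero_iff.1 h'
      exact h ⟨(secDivFun_ne_zero δX b).1, a⟩
  show (∑ᶠ x ∈ f ⁻¹' {y}, γ₀ x * W x) = Cyc.c1CapFun δY L ⇑(AlgebraicCycle.map f δX δY α) v y
  have hper : ∀ ξ : X, ∃ R : Finset X, (∀ x ∈ R, f x = y) ∧ (∀ x, f x = y →
      Cyc.secDivFun δX ((Scheme.Modules.pullback f).obj L) ξ (pullSec f v ξ) x * W x ≠ 0 → x ∈ R) ∧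
      ∑ x ∈ R, Cyc.secDivFun δX ((Scheme.Modules.pullback f).obj L) ξ (pullSec f v ξ) x * W x =
        if δY (f ξ) = δX ξ then (f.residueDegree ξ : ℤ) * Cyc.secDivFun δY L (f ξ) (v (f ξ)) y else 0 := by
    intro ξ
    obtain ⟨g, hg, hY', hX'⟩ := exists_local_fun f (δX := δX) hdX hdY hL hL' v (f ξ) y (hv _)
    obtain ⟨g', hg'd⟩ : ∃ g', f.residueFieldMap ξ g = g' := ⟨_, rfl⟩
    have hg' : g' ≠ 0 := hg'd ▸ (map_ne_zero _).2 hg
    have hX'' : ∀ x, f x = y → Cyc.secDivFun δX ((Scheme.Modules.pullback f).obj L) ξ (pullSec f v ξ) x =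
        Cyc.divFun δX ξ g' x := fun x hx => by
      rw [hX' x hx ξ rfl, ← hg'd, Scheme.residueFieldCongr_refl]
      rfl
    have hfinR : {x | f x = y ∧ Cyc.divFun δX ξ g' x ≠ 0}.Finite :=
      (Groth.L22.Cyc.finite_support_divFun_inter_compact hdX ξ g' hg' (f.isCompact_preimage hV.isCompact)).subset
        fun x h => ⟨h.2, show f x ∈ (V : Set Y) from h.1 ▸ hyV⟩
    refine ⟨hfinR.toFinset, fun x h => ((Set.Finite.mem_toFinset _).1 h).1,
      fun x hx h => (Set.Finite.mem_toFinset _).2 ⟨hx, hX'' x hx ▸ left_ne_zero_of_mul h⟩, ?_⟩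
    have hm := Groth.L22.Cyc.map_divFun f hdX hdY hδ ξ g' hg' y
    rw [finsum_mem_eq_sum_of_inter_support_eq _ (t := hfinR.toFinset.filter fun x =>
      Cyc.divFun δX ξ g' x * W x ≠ 0) (by ext x; simp [W]; tauto)] at hm
    rw [Finset.sum_congr rfl fun x h => by rw [hX'' x ((Set.Finite.mem_toFinset _).1 h).1],
      ← Finset.sum_filter_ne_zero, hm]
    refine if_congr Iff.rfl ?_ rfl
    have hn : Cyc.normGen f ξ g' = g ^ f.residueDegree ξ := by
      rw [← hg'd]
      letI := (f.residueFieldMap ξ).hom.toAlgebra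
      exact Algebra.norm_algebraMap g
    rw [hn, ← zpow_natCast, divFun_zpow hdY (f ξ) hg, hY']
  choose R hR1 hR2 hR3 using hper
  set P := hfin.toFinset ∪ S.biUnion R with hPd
  have hP : ∀ x ∈ P, f x = y := fun x hx => by
    rw [hPd, Finset.mem_union, Finset.mem_biUnion] at hx
    rcases hx with h | ⟨η, -, hη⟩
    · exact ((Set.Finite.mem_toFinset _).1 h).1
    · exact hR1 η x hη
  rw [finsum_mem_eq_sum_of_inter_support_eq _ (t := P) (by
      ext x
      simp only [Set.mem_inter_iff, Function.mem_support, Set.mem_preimage, Set.mem_singleton_iff, Finset.mem_coe]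
      exact ⟨fun h => ⟨Finset.mem_union_left _ ((Set.Finite.mem_toFinset _).2 h), h.2⟩,
        fun h => ⟨hP x h.1, h.2⟩⟩),
    Finset.sum_congr rfl fun x hx => by rw [hexp x (hP x hx), Finset.sum_mul],
    Finset.sum_comm,  c1CapFun_eq_sum]
  have hswap : ∀ ξ ∈ S, ∑ x ∈ P,
      α ξ * Cyc.secDivFun δX ((Scheme.Modules.pullback f).obj L) ξ (pullSec f v ξ) x * W x =
      α ξ * W ξ * Cyc.secDivFun δY L (f ξ) (v (f ξ)) y := by
    intro ξ hξ
    simp_rw [mul_assoc]
    rw [← Finset.mul_sum, ← Finset.sum_subset ((Finset.subset_biUnion_of_mem R hξ).trans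
        (Finset.subset_union_right (s₁ := hfin.toFinset))) (fun x hx hx' => by
          by_contra h
          exact hx' (hR2 ξ x (hP x hx) h)), hR3]
    congr 1
    show _ = ((AlgebraicCycle.mapCoeff f δX δY ξ : ℕ) : ℤ) * _
    rw [AlgebraicCycle.mapCoeff]
    split_ifs with h1 h2 h3
    · rfl
    · exact absurd h1.symm h2
    · exact absurd h3.symm h1
    · simp
  rw [Finset.sum_congr rfl hswap]
  have hmem : ∀ ξ, ξ ∈ S ↔ α ξ ≠ 0 ∧ f ξ ⤳ y := fun ξ => by rw [hS, Set.Finite.mem_toFinset]; rfl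
  have hmap : ∀ η, η ⤳ y → AlgebraicCycle.map f δX δY α η = ∑ ξ ∈ S.filter fun ξ => f ξ = η, α ξ * W ξ := by
    intro η hη
    show (∑ᶠ ξ ∈ f ⁻¹' {η}, α ξ * W ξ) = _
    refine finsum_mem_eq_sum_of_inter_support_eq _ ?_
    ext ξ
    simp only [Set.mem_inter_iff, Function.mem_support, Set.mem_preimage, Set.mem_singleton_iff, Finset.mem_coe,
      Finset.mem_filter, hmem]
    exact ⟨fun h => ⟨⟨⟨left_ne_zero_of_mul h.2, h.1 ▸ hη⟩, h.1⟩, h.2⟩, fun h => ⟨h.1.2, h.2⟩⟩
  rw [← Finset.sum_fiberwise_of_maps_to (t := S.image f) fun ξ hξ => Finset.mem_image_of_mem f hξ]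
  symm
  have hS' : ∀ η ∈ S.image f, η ⤳ y := fun η h => by
    obtain ⟨ξ, hξ, rfl⟩ := Finset.mem_image.1 h
    exact ((hmem ξ).1 hξ).2
  rw [Finset.sum_subset (s₂ := S.image f) (fun η h => ?_) fun η h h' => ?_]
  · refine Finset.sum_congr rfl fun η hη => ?_
    rw [hmap η (hS' η hη), Finset.sum_mul]
    refine Finset.sum_congr rfl fun ξ hξ => ?_
    rw [(Finset.mem_filter.1 hξ).2]
  · rw [Set.Finite.mem_toFinset] at h
    obtain ⟨ξ, hξ, hne⟩ := Finset.exists_ne_zero_of_sum_ne_zero (hmap η h.1 ▸ h.2)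
    obtain ⟨hξS, rfl⟩ := Finset.mem_filter.1 hξ
    exact Finset.mem_image_of_mem f hξS
  · rw [Set.Finite.mem_toFinset] at h'
    by_contra h0
    exact h' ⟨hS' η h, left_ne_zero_of_mul h0⟩


end Groth.L22.C1

namespace Groth.L22.C1

open Groth.L18.Frame (pull)
open Groth.L20.SeeNormal (sI)

variable {X X' D : Scheme.{u}} (f : X' ⟶ X) (i : D ⟶ X) [IsClosedImmersion i]

/-- The ideal of the base change of a closed subscheme at a point. -/
theorem ker_stalkMap_fst (z : ↥(pullback f i)) :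
    RingHom.ker ((pullback.fst f i).stalkMap z).hom =
      (sI i.ker (f (pullback.fst f i z))).map (f.stalkMap (pullback.fst f i z)).hom := by
  rw [Groth.L20.Infinitesimal.ker_stalkMap, Scheme.IdealSheafData.ker_fst_of_isClosedImmersion,
    Groth.L20.SeeNormal.sI_comap]

theorem sI_ker_le (d : D) {x : X} (hx : i d = x) : sI i.ker x ≤ IsLocalRing.maximalIdeal (X.presheaf.stalk x) := by
  subst hx
  rw [← Groth.L20.Infinitesimal.ker_stalkMap]
  exact IsLocalRing.le_maximalIdeal (RingHom.ker_ne_top _)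

variable {L : X.Modules} (hL : PicF.IsInvertible L) (s : L.presheaf.obj (Opposite.op ⊤))
  (hD : Cyc.IsZeroSchemeOf i L s)

include hL hD in
/-- The pullback of a section cuts out the base change of its zero scheme. -/
theorem isZeroScheme_base :
    Cyc.IsZeroSchemeOf (pullback.fst f i) ((Scheme.Modules.pullback f).obj L) (pull f L ⊤ s) := by
  have hM := Groth.L18.Ample.isInvertible_pullback f hL
  have hgerm : ∀ x : X', ((Scheme.Modules.pullback f).obj L).presheaf.germ ⊤ x trivial (pull f L ⊤ s) =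
      pm f L x rfl (L.presheaf.germ ⊤ (f x) trivial s) := fun x =>
    (pm_germ f L x rfl (V := ⊤) trivial s).symm
  refine ⟨?_, fun z => ?_⟩
  · rw [Scheme.Pullback.range_fst]
    ext x
    obtain ⟨t, ht⟩ := exists_isGen hL (f x)
    obtain ⟨g, hg⟩ := ht.exists_smul (L.presheaf.germ ⊤ (f x) trivial s)
    have h1 : mk _ (((Scheme.Modules.pullback f).obj L).presheaf.germ ⊤ x trivial (pull f L ⊤ s)) = 0 ↔
        X.residue (f x) g = 0 := by
      rw [hgerm, ← hg, pm_smul, mk_smul_eq_zero_iff hM (isGen_pm f hL x rfl ht), residue_fibMap,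
        map_eq_zero, map_eq_zero]
    rw [Set.mem_preimage, hD.1]
    show mk L _ = 0 ↔ mk _ _ = 0
    rw [h1, ← hg, mk_smul_eq_zero_iff hL ht]
  · obtain ⟨t, ht⟩ := exists_isGen hL (f (pullback.fst f i z))
    obtain ⟨g, hg⟩ := ht.exists_smul (L.presheaf.germ ⊤ (f (pullback.fst f i z)) trivial s)
    refine ⟨pm f L (pullback.fst f i z) rfl t, f.stalkMap (pullback.fst f i z) g, isGen_pm f hL _ rfl ht, ?_, ?_⟩
    · rw [hgerm, ← hg, pm_smul]
      congr 1
      show f.stalkMap (pullback.fst f i z) (X.presheaf.stalkSpecializes _ g) = _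
      rw [TopCat.Presheaf.stalkSpecializes_refl]
      rfl
    · have e : i (pullback.snd f i z) = f (pullback.fst f i z) :=
        (congrArg (fun φ : pullback f i ⟶ X => φ z) pullback.condition).symm
      have e2 : sI i.ker (f (pullback.fst f i z)) = Ideal.span {g} := by
        rw [← Groth.L22.IntMult.stalkIdeal_eq]
        exact stalkIdeal_eq_span i hL s hD (pullback.snd f i z) e ht hg.symm
      rw [ker_stalkMap_fst, e2, Ideal.map_span, Set.image_singleton]

include hL hD in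
theorem pullSec_gysin (w : (ξ : X) → Cyc.secFibre L ξ) (t : X') :
    pullSec f (Cyc.gysinChoice L s w) t =
      Cyc.gysinChoice ((Scheme.Modules.pullback f).obj L) (pull f L ⊤ s) (pullSec f w) t := by
  classical
  have hM := Groth.L18.Ample.isInvertible_pullback f hL
  have hτ := isZeroScheme_base f i hL s hD
  by_cases ht : t ∈ Set.range (pullback.fst f i)
  · have h0 : mk _ (((Scheme.Modules.pullback f).obj L).presheaf.germ ⊤ t trivial (pull f L ⊤ s)) = 0 := hτ.1.le ht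
    have h0' : mk L (L.presheaf.germ ⊤ (f t) trivial s) = 0 :=
      hD.1.le ((Scheme.Pullback.range_fst f i).le ht)
    refine Eq.trans ?_ (if_neg fun h => h h0).symm
    simp only [pullSec, show Cyc.gysinChoice L s w (f t) = w (f t) from if_neg fun h => h h0']
  · have h0 : mk L (L.presheaf.germ ⊤ (f t) trivial s) ≠ 0 := fun h =>
      ht ((Scheme.Pullback.range_fst f i).ge (hD.1.ge h))
    have h1 : mk _ (((Scheme.Modules.pullback f).obj L).presheaf.germ ⊤ t trivial (pull f L ⊤ s)) ≠ 0 :=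
      fun h => ht (hτ.1.ge h)
    rw [pullSec_eq_mk f hL hM _ t (isGen_of_mk_ne_zero hL h0) (gysinChoice_eq s w h0), gysinChoice_eq _ _ h1]
    exact congrArg (mk _) (pm_germ f L t rfl (V := ⊤) trivial s)

variable [IsLocallyNoetherian X] [IsLocallyNoetherian X'] {δ : X → ℤ} {δ' : X' → ℤ}
  (hdX : Cyc.IsDimFun X δ) (hdX' : Cyc.IsDimFun X' δ')

include hL hD hdX' in
/-- The Gysin map upstairs computed with pulled back sections. -/
theorem gysin_base_compare (s' : ((Scheme.Modules.pullback f).obj L).presheaf.obj (Opposite.op ⊤))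
    (hD' : Cyc.IsZeroSchemeOf (pullback.fst f i) ((Scheme.Modules.pullback f).obj L) s') (k : ℤ)
    (α' : AlgebraicCycle X' ℤ) (hα' : α' ∈ Cyc.Zk X' δ' (k + 1)) (w : (ξ : X) → Cyc.secFibre L ξ)
    (hw : ∀ ξ, w ξ ≠ 0) (w' : (ξ : X') → Cyc.secFibre ((Scheme.Modules.pullback f).obj L) ξ)
    (hw' : ∀ ξ, w' ξ ≠ 0) (ζ μ : AlgebraicCycle (↑(pullback f i) : Scheme.{u}) ℤ)
    (hζ : ∀ z, ζ z = Cyc.c1CapFun δ' ((Scheme.Modules.pullback f).obj L) ⇑α'
      (Cyc.gysinChoice ((Scheme.Modules.pullback f).obj L) s' w') (pullback.fst f i z))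
    (hμ : ∀ z, μ z = Cyc.c1CapFun δ' ((Scheme.Modules.pullback f).obj L) ⇑α'
      (pullSec f (Cyc.gysinChoice L s w)) (pullback.fst f i z)) :
    Cyc.RatEquiv (fun z => δ' (pullback.fst f i z)) k μ ζ ∧
      Cyc.RatEquiv (fun z => δ' (pullback.fst f i z)) k ζ μ := by
  haveI : IsLocallyNoetherian (↑(pullback f i) : Scheme.{u}) :=
    LocallyOfFiniteType.isLocallyNoetherian (pullback.fst f i)
  have hM := Groth.L18.Ample.isInvertible_pullback f hL
  have hτ := isZeroScheme_base f i hL s hD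
  have hA := gysinChoice_ne_zero s' w' hw'
  have hB := fun t => pullSec_ne_zero f hL hM (Cyc.gysinChoice L s w) t (gysinChoice_ne_zero s w hw _)
  have h := ratOn_change' hdX' hM k α' hα' (Set.range (pullback.fst f i)) _ _ hA hB fun ξ hξ x => by
    rw [pullSec_gysin f i hL s hD w ξ]
    exact secDivFun_same_zeroScheme hdX' (pullback.fst f i) hM s' _ hD' hτ w' (pullSec f w) hξ x
  refine ⟨(h.zsmul hdX' (-1)).comap (pullback.fst f i) hdX' subset_rfl _ fun z => ?_,
    h.comap (pullback.fst f i) hdX' subset_rfl _ fun z => ?_⟩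
  · rw [Function.locallyFinsuppWithin.coe_sub, Pi.sub_apply, hζ z, hμ z]
    ring
  · rw [Function.locallyFinsuppWithin.coe_sub, Pi.sub_apply, hζ z, hμ z]

include hL hD hdX hdX' in
theorem gysin_map [IsProper f] (hδ : Cyc.DeltaCompat f δ' δ)
    (s' : ((Scheme.Modules.pullback f).obj L).presheaf.obj (Opposite.op ⊤))
    (hD' : Cyc.IsZeroSchemeOf (pullback.fst f i) ((Scheme.Modules.pullback f).obj L) s') (k : ℤ)
    (α' : AlgebraicCycle X' ℤ) (hα' : α' ∈ Cyc.Zk X' δ' (k + 1)) (w : (ξ : X) → Cyc.secFibre L ξ)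
    (hw : ∀ ξ, w ξ ≠ 0) (w' : (ξ : X') → Cyc.secFibre ((Scheme.Modules.pullback f).obj L) ξ)
    (hw' : ∀ ξ, w' ξ ≠ 0) (γ : AlgebraicCycle D ℤ)
    (hγ : ∀ d, γ d = Cyc.c1CapFun δ L ⇑(AlgebraicCycle.map f δ' δ α') (Cyc.gysinChoice L s w) (i d))
    (γ' : AlgebraicCycle (↑(pullback f i) : Scheme.{u}) ℤ)
    (hγ' : ∀ z, γ' z = Cyc.c1CapFun δ' ((Scheme.Modules.pullback f).obj L) ⇑α'
      (Cyc.gysinChoice ((Scheme.Modules.pullback f).obj L) s' w') (pullback.fst f i z)) :
    Cyc.RatEquiv (fun d => δ (i d)) k γ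
      (AlgebraicCycle.map (pullback.snd f i) (fun z => δ' (pullback.fst f i z)) (fun d => δ (i d)) γ') := by
  haveI : IsLocallyNoetherian D := LocallyOfFiniteType.isLocallyNoetherian i
  haveI : IsLocallyNoetherian (↑(pullback f i) : Scheme.{u}) :=
    LocallyOfFiniteType.isLocallyNoetherian (pullback.fst f i)
  haveI : IsProper (pullback.snd f i) := inferInstance
  have hdD := Groth.L22.Cyc.isDimFun_closedImmersion i hdX
  have hdP := Groth.L22.Cyc.isDimFun_closedImmersion (pullback.fst f i) hdX'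
  have hM := Groth.L18.Ample.isInvertible_pullback f hL
  have hu := gysinChoice_ne_zero s w hw
  have hsq : pullback.snd f i ≫ i = pullback.fst f i ≫ f := pullback.condition.symm
  have hδg := Groth.L22.Cyc.deltaCompat_square f (pullback.fst f i) i (pullback.snd f i) hδ hsq
  obtain ⟨Γ₀, hΓ⟩ := exists_cycle_c1Cap hdX' hM α' (pullSec f (Cyc.gysinChoice L s w))
    fun t => pullSec_ne_zero f hL hM _ t (hu _)
  obtain ⟨μ, hμ⟩ := exists_cycle_comap (pullback.fst f i) Γ₀
  have hrel := (gysin_base_compare f i hL s hD hdX' s' hD' k α' hα' w hw w' hw' γ' μ hγ'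
    fun z => by rw [hμ, hΓ]).1
  have h2 := Groth.L22.Cyc.ratEquiv_map (pullback.snd f i) hdP hdD hδg k μ γ' hrel
  suffices h : AlgebraicCycle.map (pullback.snd f i) (fun z => δ' (pullback.fst f i z)) (fun d => δ (i d)) μ = γ by
    rwa [h] at h2
  refine DFunLike.coe_injective (funext fun d => ?_)
  rw [hγ d, ← map_c1Cap_exact f hdX' hdX hL hδ α' (Cyc.gysinChoice L s w) hu Γ₀ hΓ]
  show (∑ᶠ z ∈ (pullback.snd f i) ⁻¹' {d}, μ z * ((AlgebraicCycle.mapCoeff (pullback.snd f i) _ _ z : ℕ) : ℤ)) =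
    ∑ᶠ x ∈ f ⁻¹' {i d}, Γ₀ x * ((AlgebraicCycle.mapCoeff f δ' δ x : ℕ) : ℤ)
  have himg : f ⁻¹' {i d} = pullback.fst f i '' ((pullback.snd f i) ⁻¹' {d}) := by
    ext x
    constructor
    · intro hx
      obtain ⟨z, rfl⟩ : x ∈ Set.range (pullback.fst f i) := (Scheme.Pullback.range_fst f i).ge ⟨d, hx.symm⟩
      refine ⟨z, i.isClosedEmbedding.injective ?_, rfl⟩
      exact (congrArg (fun φ : pullback f i ⟶ X => φ z) hsq).trans hx
    · rintro ⟨z, hz, rfl⟩
      have h1 : i (pullback.snd f i z) = f (pullback.fst f i z) := congrArg (fun φ : pullback f i ⟶ X => φ z) hsq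
      show f (pullback.fst f i z) = i d
      rw [← h1, show pullback.snd f i z = d from hz]
  rw [himg, finsum_mem_image ((pullback.fst f i).isClosedEmbedding.injective.injOn)]
  refine finsum_mem_congr rfl fun z _ => ?_
  rw [hμ, Groth.L22.Cyc.mapCoeff_eq _ hδg, Groth.L22.Cyc.mapCoeff_eq f hδ,
    Groth.L22.Cyc.residueDegree_square f (pullback.fst f i) i (pullback.snd f i) hsq z]

/-- Fibre multiplicities on a base change of a closed subscheme. -/
theorem length_fibIdeal_snd (z : ↥(pullback f i)) :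
    Module.length ((↑(pullback f i) : Scheme.{u}).presheaf.stalk z)
        ((↑(pullback f i) : Scheme.{u}).presheaf.stalk z ⧸ Groth.L22.Cyc.fibIdeal (pullback.snd f i) z) =
      Module.length (X'.presheaf.stalk (pullback.fst f i z))
        (X'.presheaf.stalk (pullback.fst f i z) ⧸ Groth.L22.Cyc.fibIdeal f (pullback.fst f i z)) := by
  have hsurj : Function.Surjective ((pullback.fst f i).stalkMap z).hom := (pullback.fst f i).stalkMap_surjective z
  have e1 : Groth.L22.Cyc.fibIdeal (pullback.snd f i) z =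
      (Groth.L22.Cyc.fibIdeal f (pullback.fst f i z)).map ((pullback.fst f i).stalkMap z).hom := by
    refine ((Groth.L07.AssTensor.fibIdeal_comp (pullback.snd f i) i z).symm.trans
      (Groth.L07.AssTensor.fibIdeal_congr pullback.condition.symm z)).trans ?_
    show Ideal.map ((pullback.fst f i ≫ f).stalkMap z).hom _ = _
    rw [Scheme.Hom.stalkMap_comp, CommRingCat.hom_comp, ← Ideal.map_map]
    rfl
  have hker : RingHom.ker ((pullback.fst f i).stalkMap z).hom ≤ Groth.L22.Cyc.fibIdeal f (pullback.fst f i z) := by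
    rw [ker_stalkMap_fst]
    exact Ideal.map_mono (sI_ker_le i (pullback.snd f i z)
      (congrArg (fun φ : pullback f i ⟶ X => φ z) pullback.condition).symm)
  rw [e1]
  letI := ((pullback.fst f i).stalkMap z).hom.toAlgebra
  have hs : Function.Surjective (algebraMap (X'.presheaf.stalk (pullback.fst f i z))
      ((↑(pullback f i) : Scheme.{u}).presheaf.stalk z)) := hsurj
  rw [← Module.length_eq_of_surjective
    (R := (↑(pullback f i) : Scheme.{u}).presheaf.stalk z) (S := X'.presheaf.stalk (pullback.fst f i z)) hs]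
  refine ((Submodule.quotEquivOfEq _ _ ?_).trans (((Ideal.Quotient.mkₐ (X'.presheaf.stalk (pullback.fst f i z))
    ((Groth.L22.Cyc.fibIdeal f (pullback.fst f i z)).map ((pullback.fst f i).stalkMap z).hom)).toLinearMap ∘ₗ
    Algebra.linearMap _ _).quotKerEquivOfSurjective (Ideal.Quotient.mk_surjective.comp hs))).length_eq.symm
  ext a
  rw [LinearMap.mem_ker]
  show a ∈ _ ↔ Ideal.Quotient.mk _ (((pullback.fst f i).stalkMap z).hom a) = 0
  rw [Ideal.Quotient.eq_zero_iff_mem, ← Ideal.mem_comap, Ideal.comap_map_of_surjective' _ hsurj, sup_eq_left.2 hker]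

include hL hD hdX hdX' in
theorem gysin_pullFun [Flat f] [LocallyOfFiniteType f] (r : ℕ) (hr : Cyc.HasRelDim f r)
    (hδ : Cyc.DeltaCompat f δ' δ)
    (s' : ((Scheme.Modules.pullback f).obj L).presheaf.obj (Opposite.op ⊤))
    (hD' : Cyc.IsZeroSchemeOf (pullback.fst f i) ((Scheme.Modules.pullback f).obj L) s') (k : ℤ)
    (α : AlgebraicCycle X ℤ) (hα : α ∈ Cyc.Zk X δ (k + 1)) (w : (ξ : X) → Cyc.secFibre L ξ)
    (hw : ∀ ξ, w ξ ≠ 0) (w' : (ξ : X') → Cyc.secFibre ((Scheme.Modules.pullback f).obj L) ξ)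
    (hw' : ∀ ξ, w' ξ ≠ 0) (ζ₁ ζ₂ : AlgebraicCycle (↑(pullback f i) : Scheme.{u}) ℤ)
    (h₁ : ∀ z, ζ₁ z = Cyc.c1CapFun δ' ((Scheme.Modules.pullback f).obj L) (Cyc.pullFun f δ' δ r ⇑α)
      (Cyc.gysinChoice ((Scheme.Modules.pullback f).obj L) s' w') (pullback.fst f i z))
    (h₂ : ⇑ζ₂ = Cyc.pullFun (pullback.snd f i) (fun z => δ' (pullback.fst f i z)) (fun d => δ (i d)) r
      (fun d => Cyc.c1CapFun δ L ⇑α (Cyc.gysinChoice L s w) (i d))) :
    Cyc.RatEquiv (fun z => δ' (pullback.fst f i z)) (k + r) ζ₁ ζ₂ := by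
  have hu := gysinChoice_ne_zero s w hw
  have hc := fun x => Groth.L22.Cyc.shift_of_deltaCompat f hr hδ x
  have hpull := Groth.L22.Cyc.pullFun_eq' f (δX := δ') (δY := δ) hc
  obtain ⟨α', hα'⟩ : ∃ α' : AlgebraicCycle X' ℤ, ⇑α' = Cyc.pullFun f δ' δ r ⇑α := by
    refine exists_cycle _ fun x => ?_
    obtain ⟨W, hW, hxW, -⟩ := exists_isAffineOpen_mem_and_subset (x := f x) (U := ⊤) trivial
    obtain ⟨V, hV, hxV, hVW⟩ := exists_isAffineOpen_mem_and_subset (x := x) (U := f ⁻¹ᵁ W) hxW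
    refine ⟨V, hxV, ((α.locallyFiniteSupport.finite_inter_support_of_isCompact hW.isCompact).biUnion
      fun η _ => Groth.L22.Cyc.finite_fibGen_over f hV η).subset fun t ht => ?_⟩
    have h := ht.1
    rw [Function.mem_support, hpull, mul_ne_zero_iff] at h
    refine Set.mem_biUnion (show f t ∈ (W : Set X) ∩ Function.support ⇑α from ⟨hVW ht.2, h.1⟩) ⟨ht.2, ?_, rfl⟩
    by_contra h'
    exact h.2 (by rw [Groth.L22.Cyc.mult_eq_top h']; rfl)
  have hα'Z : α' ∈ Cyc.Zk X' δ' (k + r + 1) := fun t ht => by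
    rw [hα']
    unfold Cyc.pullFun
    split_ifs with h
    · rw [hα (f t) fun e => ht (by omega), zero_mul]
    · rfl
  have heq : ∀ z, ζ₂ z = Cyc.c1CapFun δ' ((Scheme.Modules.pullback f).obj L) ⇑α'
      (pullSec f (Cyc.gysinChoice L s w)) (pullback.fst f i z) := fun z => by
    rw [h₂, hα', ← pullFun_c1Cap_exact f hdX' hdX hL (r : ℤ) hc α (Cyc.gysinChoice L s w) hu]
    have e : i (pullback.snd f i z) = f (pullback.fst f i z) :=
      (congrArg (fun φ : pullback f i ⟶ X => φ z) pullback.condition).symm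
    simp only [Cyc.pullFun, e]
    have hl := length_fibIdeal_snd f i z
    unfold Groth.L22.Cyc.fibIdeal at hl
    rw [hl]
  exact (gysin_base_compare f i hL s hD hdX' s' hD' (k + r) α' hα'Z w hw w' hw' ζ₁ ζ₂
    (fun z => by rw [h₁, hα']) heq).2

end Groth.L22.C1
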