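import Groth.Agent.L15.SecOrd
import Groth.Agent.L22.Cyc.OrdGen
import Groth.Agent.L22.Cyc.DivSupport

/-!
Rational sections of invertible modules on the closures of points: change of generator and of section.
-/

set_option autoImplicit false
set_option linter.style.haveILetI false
set_option backward.isDefEq.respectTransparency false

universe u

open CategoryTheory AlgebraicGeometry TopologicalSpace

noncomputable section

namespace Groth.L22.C1

variable {X : Scheme.{u}} {L : X.Modules}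

/-- A generator of a stalk. -/
def IsGen (L : X.Modules) {x : X} (t : L.presheaf.stalk x) : Prop :=
  Submodule.span (X.presheaf.stalk x) {t} = ⊤

theorem IsGen.exists_smul {x : X} {t : L.presheaf.stalk x} (ht : IsGen L t) (v : L.presheaf.stalk x) :
    ∃ a : X.presheaf.stalk x, a • t = v :=
  Submodule.mem_span_singleton.1 (by rw [show Submodule.span (X.presheaf.stalk x) {t} = ⊤ from ht]; exact Submodule.mem_top)

theorem isGen_germ {U : X.Opens} {e : Γ(L, U)} (he : Groth.L18.Frame.IsFrame L U e) {x : X} (hx : x ∈ U) :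
    IsGen L (L.presheaf.germ U x hx e) :=
  Submodule.eq_top_iff'.2 fun v => Submodule.mem_span_singleton.2 (Groth.L15.SecOrd.exists_smul_germ he hx v)

theorem exists_isGen (hL : PicF.IsInvertible L) (x : X) : ∃ t : L.presheaf.stalk x, IsGen L t := by
  obtain ⟨U, e, hxU, he⟩ := Groth.L18.Frame.exists_frame hL x
  exact ⟨_, isGen_germ he hxU⟩

theorem IsGen.injective (hL : PicF.IsInvertible L) {x : X} {t : L.presheaf.stalk x} (ht : IsGen L t) :
    Function.Injective fun a : X.presheaf.stalk x => a • t := by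
  obtain ⟨U, e, hxU, he⟩ := Groth.L18.Frame.exists_frame hL x
  obtain ⟨d, hd⟩ := (isGen_germ he hxU).exists_smul t
  obtain ⟨c, hc⟩ := ht.exists_smul (L.presheaf.germ U x hxU e)
  have h1 : c * d = 1 := Groth.L15.SecOrd.smul_germ_injective he hxU
    (show (c * d) • L.presheaf.germ U x hxU e = (1 : X.presheaf.stalk x) • L.presheaf.germ U x hxU e by
      rw [mul_smul, hd, hc, one_smul])
  intro a b hab
  replace hab : a • t = b • t := hab
  rw [← hd, smul_smul, smul_smul] at hab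
  exact (IsUnit.of_mul_eq_one c (by rw [mul_comm]; exact h1)).mul_left_injective
    (Groth.L15.SecOrd.smul_germ_injective he hxU hab)

theorem IsGen.of_isUnit {x : X} {t : L.presheaf.stalk x} (ht : IsGen L t) {c : X.presheaf.stalk x}
    (hc : IsUnit c) : IsGen L (c • t) :=
  Submodule.eq_top_iff'.2 fun v => Submodule.mem_span_singleton.2 (by
    obtain ⟨a, rfl⟩ := ht.exists_smul v
    obtain ⟨c, rfl⟩ := hc
    exact ⟨a * ↑c⁻¹, by rw [smul_smul, mul_assoc, Units.inv_mul, mul_one]⟩)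

theorem IsGen.exists_unit (hL : PicF.IsInvertible L) {x : X} {t t' : L.presheaf.stalk x} (ht : IsGen L t)
    (ht' : IsGen L t') : ∃ c : X.presheaf.stalk x, IsUnit c ∧ c • t = t' := by
  obtain ⟨c, hc⟩ := ht.exists_smul t'
  obtain ⟨d, hd⟩ := ht'.exists_smul t
  refine ⟨c, IsUnit.of_mul_eq_one d (ht.injective hL (show (c * d) • t = (1 : X.presheaf.stalk x) • t by
    rw [mul_comm, mul_smul, hc, hd, one_smul])), hc⟩

theorem IsGen.specializes (hL : PicF.IsInvertible L) {x ξ : X} (h : ξ ⤳ x) {t : L.presheaf.stalk x}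
    (ht : IsGen L t) : IsGen L (L.presheaf.stalkSpecializes h t) := by
  obtain ⟨U, e, hxU, he⟩ := Groth.L18.Frame.exists_frame hL x
  obtain ⟨c, hc, rfl⟩ := (isGen_germ he hxU).exists_unit hL ht
  rw [Groth.L15.SecOrd.stalkSpecializes_smul, TopCat.Presheaf.germ_stalkSpecializes_apply]
  exact (isGen_germ he (h.mem_open U.2 hxU)).of_isUnit (hc.map (X.presheaf.stalkSpecializes h).hom)

/-- The class in the fibre. -/
abbrev mk (L : X.Modules) {x : X} (v : L.presheaf.stalk x) : Cyc.secFibre L x := Submodule.Quotient.mk v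

theorem mk_smul_eq_zero_iff (hL : PicF.IsInvertible L) {x : X} {t : L.presheaf.stalk x} (ht : IsGen L t)
    (a : X.presheaf.stalk x) : mk L (a • t) = 0 ↔ X.residue x a = 0 := by
  rw [Submodule.Quotient.mk_eq_zero, ← show Submodule.span (X.presheaf.stalk x) {t} = ⊤ from ht,
    Submodule.mem_smul_span_singleton]
  constructor
  · rintro ⟨b, hb, hba⟩
    rw [← ht.injective hL hba]
    exact (IsLocalRing.residue_eq_zero_iff b).2 hb
  · exact fun h => ⟨a, (IsLocalRing.residue_eq_zero_iff a).1 h, rfl⟩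

theorem mk_gen_ne_zero (hL : PicF.IsInvertible L) {x : X} {t : L.presheaf.stalk x} (ht : IsGen L t) :
    mk L t ≠ 0 := fun h => by
  rw [← one_smul (X.presheaf.stalk x) t, mk_smul_eq_zero_iff hL ht, map_one] at h
  exact one_ne_zero h

theorem exists_smul_mk {x : X} {t : L.presheaf.stalk x} (ht : IsGen L t) (s : Cyc.secFibre L x) :
    ∃ a : X.presheaf.stalk x, s = a • mk L t := by
  obtain ⟨v, rfl⟩ := Submodule.mkQ_surjective _ s
  obtain ⟨a, rfl⟩ := ht.exists_smul v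
  exact ⟨a, Submodule.Quotient.mk_smul _ _ _⟩

theorem smul_mk_inj (hL : PicF.IsInvertible L) {x : X} {t : L.presheaf.stalk x} (ht : IsGen L t)
    {a b : X.presheaf.stalk x} (h : a • mk L t = b • mk L t) : X.residue x a = X.residue x b := by
  rw [← sub_eq_zero, ← map_sub, ← mk_smul_eq_zero_iff hL ht]
  show Submodule.Quotient.mk ((a - b) • t) = (0 : Cyc.secFibre L x)
  rw [sub_smul, Submodule.Quotient.mk_sub, Submodule.Quotient.mk_smul, Submodule.Quotient.mk_smul, sub_eq_zero]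
  exact h

/-- Any two nonzero rational sections differ by a nonzero rational function. -/
theorem exists_ratio (hL : PicF.IsInvertible L) (x : X) (s s' : Cyc.secFibre L x) (hs : s ≠ 0) :
    ∃ φ : X.presheaf.stalk x, s' = φ • s := by
  obtain ⟨t, ht⟩ := exists_isGen hL x
  obtain ⟨a, rfl⟩ := exists_smul_mk ht s
  obtain ⟨b, rfl⟩ := exists_smul_mk ht s'
  have ha : IsUnit a := (Groth.L22.Cyc.isUnit_iff_residue_ne_zero x a).2 fun h => hs (by
    rw [← Submodule.Quotient.mk_smul]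
    exact (mk_smul_eq_zero_iff hL ht a).2 h)
  obtain ⟨a, rfl⟩ := ha
  exact ⟨b * ↑a⁻¹, by rw [smul_smul, mul_assoc, Units.inv_mul, mul_one]⟩

section Ord

variable [IsLocallyNoetherian X] {δ : X → ℤ} (hδ : Cyc.IsDimFun X δ)

include hδ in
theorem ordAt_mul (x ξ : X) (h : ξ ⤳ x) (hx : δ x + 1 = δ ξ) {g g' : X.residueField ξ} (hg : g ≠ 0)
    (hg' : g' ≠ 0) : Cyc.ordAt x ξ h (g * g') = Cyc.ordAt x ξ h g + Cyc.ordAt x ξ h g' := by
  obtain ⟨a, b, hb, rfl⟩ := Groth.L22.Cyc.exists_specMap_div_gen x ξ h g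
  obtain ⟨a', b', hb', rfl⟩ := Groth.L22.Cyc.exists_specMap_div_gen x ξ h g'
  have ha := (div_ne_zero_iff.1 hg).1
  have ha' := (div_ne_zero_iff.1 hg').1
  haveI := Groth.L22.Cyc.krullDimLE_one_locQuot hδ x ξ h hx
  haveI := Groth.L22.DimFormula.isDomain_locQuot x ξ h
  rw [div_mul_div_comm, ← map_mul, ← map_mul, Groth.L22.Cyc.ordAt_div_gen hδ x ξ h hx
    (by rw [map_mul]; exact mul_ne_zero ha ha') (by rw [map_mul]; exact mul_ne_zero hb hb'),
    Groth.L22.Cyc.ordAt_div_gen hδ x ξ h hx ha hb, Groth.L22.Cyc.ordAt_div_gen hδ x ξ h hx ha' hb',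
    map_mul, map_mul, Ring.ord_mul (Cyc.LocQuot x ξ h) (mem_nonZeroDivisors_of_ne_zero (Groth.L22.Cyc.mk_locQuot_ne_zero ha')),
    Ring.ord_mul (Cyc.LocQuot x ξ h) (mem_nonZeroDivisors_of_ne_zero (Groth.L22.Cyc.mk_locQuot_ne_zero hb')),
    ENat.toNat_add (Groth.L22.Cyc.ord_locQuot_ne_top hδ hx ha) (Groth.L22.Cyc.ord_locQuot_ne_top hδ hx ha'),
    ENat.toNat_add (Groth.L22.Cyc.ord_locQuot_ne_top hδ hx hb) (Groth.L22.Cyc.ord_locQuot_ne_top hδ hx hb')]
  push_cast
  ring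

theorem ordAt_zero (x ξ : X) (h : ξ ⤳ x) : Cyc.ordAt x ξ h 0 = 0 := by
  rw [Cyc.ordAt, CycAlg.ordFrac]
  split_ifs <;> simp

include hδ in
theorem divFun_mul (ξ : X) {g g' : X.residueField ξ} (hg : g ≠ 0) (hg' : g' ≠ 0) (x : X) :
    Cyc.divFun δ ξ (g * g') x = Cyc.divFun δ ξ g x + Cyc.divFun δ ξ g' x := by
  unfold Cyc.divFun
  split_ifs with h
  · exact ordAt_mul hδ x ξ h.1 h.2 hg hg'
  · simp

include hδ in
theorem divFun_zpow (ξ : X) {g : X.residueField ξ} (hg : g ≠ 0) (x : X) (n : ℤ) :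
    Cyc.divFun δ ξ (g ^ n) x = n * Cyc.divFun δ ξ g x := by
  have h1 : Cyc.divFun δ ξ 1 x = 0 := by
    have := divFun_mul hδ ξ (g := 1) (g' := 1) one_ne_zero one_ne_zero x
    rw [one_mul] at this
    omega
  induction n using Int.induction_on with
  | zero => simp [h1]
  | succ n ih =>
    rw [zpow_add_one₀ hg, divFun_mul hδ ξ (zpow_ne_zero _ hg) hg, ih]
    ring
  | pred n ih =>
    have h2 := divFun_mul hδ ξ (zpow_ne_zero (-(n : ℤ) - 1) hg) hg x
    rw [← zpow_add_one₀ hg, show -(n : ℤ) - 1 + 1 = -(n : ℤ) by ring, ih] at h2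
    linear_combination -h2

include hδ in
/-- The order of a section in terms of any generator. -/
theorem secOrdAt_gen (hL : PicF.IsInvertible L) {ξ x : X} (h : ξ ⤳ x) (hx : δ x + 1 = δ ξ)
    {t : L.presheaf.stalk x} (ht : IsGen L t) (φ : X.presheaf.stalk ξ) :
    Cyc.secOrdAt L ξ x h (φ • mk L (L.presheaf.stalkSpecializes h t)) = Cyc.ordAt x ξ h (X.residue ξ φ) := by
  classical
  have hex : ∃ t : L.presheaf.stalk x, Submodule.span (X.presheaf.stalk x) {t} = ⊤ := ⟨t, ht⟩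
  obtain ⟨c, hc, hct⟩ := ht.exists_unit hL (show IsGen L (Classical.choose hex) from Classical.choose_spec hex)
  have e0 : mk L (L.presheaf.stalkSpecializes h (Classical.choose hex)) =
      (X.presheaf.stalkSpecializes h c) • mk L (L.presheaf.stalkSpecializes h t) := by
    rw [← hct, Groth.L15.SecOrd.stalkSpecializes_smul]
    exact Submodule.Quotient.mk_smul _ _ _
  have hex2 : ∃ φ' : X.presheaf.stalk ξ, φ • mk L (L.presheaf.stalkSpecializes h t) =
      φ' • mk L (L.presheaf.stalkSpecializes h (Classical.choose hex)) := by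
    obtain ⟨d, hd⟩ := (hc.map (X.presheaf.stalkSpecializes h).hom).exists_left_inv
    refine ⟨φ * d, ?_⟩
    rw [e0, smul_smul, mul_assoc, show d * X.presheaf.stalkSpecializes h c = 1 from hd, mul_one]
  rw [Cyc.secOrdAt, dif_pos hex, dif_pos hex2]
  have e1 := (Classical.choose_spec hex2).trans ((congrArg (Classical.choose hex2 • ·) e0).trans (smul_smul _ _ _))
  have e2 := smul_mk_inj hL (ht.specializes hL h) e1
  rw [map_mul] at e2
  have hcu : X.residue ξ (X.presheaf.stalkSpecializes h c) ≠ 0 :=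
    (Groth.L22.Cyc.isUnit_iff_residue_ne_zero ξ _).1 (hc.map (X.presheaf.stalkSpecializes h).hom)
  by_cases h0 : X.residue ξ φ = 0
  · rw [h0] at e2
    rw [h0, (mul_eq_zero.1 e2.symm).resolve_right hcu]
  · have h3 : X.residue ξ (Classical.choose hex2) ≠ 0 := fun e => h0 (by rw [e2, e, zero_mul])
    rw [e2, ordAt_mul hδ x ξ h hx h3 hcu, ← Groth.L22.Cyc.specMap_eq_residue,
      Groth.L22.Cyc.ordAt_of_isUnit hδ x ξ h hx hc, add_zero]

include hδ in
theorem secDivFun_smul (hL : PicF.IsInvertible L) (ξ : X) (s : Cyc.secFibre L ξ) (hs : s ≠ 0)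
    (φ : X.presheaf.stalk ξ) (hφ : X.residue ξ φ ≠ 0) (x : X) :
    Cyc.secDivFun δ L ξ (φ • s) x = Cyc.divFun δ ξ (X.residue ξ φ) x + Cyc.secDivFun δ L ξ s x := by
  unfold Cyc.secDivFun Cyc.divFun
  split_ifs with h
  · obtain ⟨t, ht⟩ := exists_isGen hL x
    obtain ⟨a, rfl⟩ := exists_smul_mk (ht.specializes hL h.1) s
    have ha : X.residue ξ a ≠ 0 := fun e => hs (by
      rw [← Submodule.Quotient.mk_smul]
      exact (mk_smul_eq_zero_iff hL (ht.specializes hL h.1) a).2 e)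
    rw [smul_smul, secOrdAt_gen hδ hL h.1 h.2 ht, secOrdAt_gen hδ hL h.1 h.2 ht, map_mul,
      ordAt_mul hδ x ξ h.1 h.2 hφ ha]
  · simp

end Ord

section Cap

variable (δ : X → ℤ)

theorem finite_gen (α : AlgebraicCycle X ℤ) (x : X) : {ξ : X | ξ ⤳ x ∧ α ξ ≠ 0}.Finite := by
  obtain ⟨t, ht, hfin⟩ := α.supportLocallyFiniteWithinDomain x trivial
  exact hfin.subset fun ξ h => ⟨mem_of_mem_nhds (h.1 ht), h.2⟩

theorem secDivFun_ne_zero {ξ x : X} {s : Cyc.secFibre L ξ} (h : Cyc.secDivFun δ L ξ s x ≠ 0) :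
    ξ ⤳ x ∧ δ x + 1 = δ ξ := by
  unfold Cyc.secDivFun at h
  split_ifs at h with hx
  · exact hx
  · exact absurd rfl h

theorem c1CapFun_eq_sum (α : AlgebraicCycle X ℤ) (s : (ξ : X) → Cyc.secFibre L ξ) (x : X) :
    Cyc.c1CapFun δ L ⇑α s x = ∑ ξ ∈ (finite_gen α x).toFinset, α ξ * Cyc.secDivFun δ L ξ (s ξ) x :=
  finsum_eq_sum_of_support_subset _ fun ξ hξ => by
    obtain ⟨h1, h2⟩ := mul_ne_zero_iff.1 hξ
    exact (Set.Finite.mem_toFinset _).2 ⟨(secDivFun_ne_zero δ h2).1, h1⟩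

variable [IsLocallyNoetherian X]

/-- Integral combinations of principal divisors on the components of a cycle are rationally trivial. -/
theorem ratEquivZero_of_sum (hδ : Cyc.IsDimFun X δ) (k : ℤ) (α : AlgebraicCycle X ℤ)
    (hα : α ∈ Cyc.Zk X δ (k + 1)) (g : (ξ : X) → X.residueField ξ) (hg : ∀ ξ, g ξ ≠ 0)
    (γ : AlgebraicCycle X ℤ)
    (hγ : ∀ x, γ x = ∑ ξ ∈ (finite_gen α x).toFinset, α ξ * Cyc.divFun δ ξ (g ξ) x) :
    Cyc.RatEquivZero δ k γ := by
  refine ⟨{ξ : X // α ξ ≠ 0}, fun i => i.1, fun i => g i.1 ^ α i.1, fun i => ?_,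
    fun i => zpow_ne_zero _ (hg _), fun x => ?_, fun x => ?_⟩
  · by_contra h
    exact i.2 (hα i.1 h)
  · obtain ⟨_, ⟨U, hU, rfl⟩, hxU, -⟩ :=
      X.isBasis_affineOpens.exists_subset_of_mem_open (Set.mem_univ x) isOpen_univ
    refine ⟨U, U.2, hxU, ?_⟩
    refine ((α.locallyFiniteSupport.finite_inter_support_of_isCompact hU.isCompact).preimage
      Subtype.val_injective.injOn).subset fun i hi => ?_
    obtain ⟨z, hz, hzU⟩ := hi
    exact ⟨(specializes_iff_mem_closure.2 hz).mem_open U.2 hzU, i.2⟩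
  · rw [hγ x]
    refine Eq.symm ((finsum_congr fun i : {ξ : X // α ξ ≠ 0} => divFun_zpow hδ i.1 (hg _) x _).trans ?_)
    refine (finsum_subtype_eq_finsum_cond (f := fun ξ => α ξ * Cyc.divFun δ ξ (g ξ) x) (fun ξ => α ξ ≠ 0)).trans ?_
    refine finsum_cond_eq_sum_of_cond_iff _ fun {ξ} hξ => ?_
    rw [Set.Finite.mem_toFinset]
    obtain ⟨-, h2⟩ := mul_ne_zero_iff.1 hξ
    refine ⟨fun h => ⟨?_, h⟩, fun h => h.2⟩
    unfold Cyc.divFun at h2
    split_ifs at h2 with h3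
    · exact h3.1
    · exact absurd rfl h2

/-- Two choices of nonzero rational sections give rationally equivalent caps. -/
theorem c1Cap_ratEquiv (hδ : Cyc.IsDimFun X δ) (hL : PicF.IsInvertible L) (k : ℤ) (α : AlgebraicCycle X ℤ)
    (hα : α ∈ Cyc.Zk X δ (k + 1)) (s t : (ξ : X) → Cyc.secFibre L ξ) (hs : ∀ ξ, s ξ ≠ 0) (ht : ∀ ξ, t ξ ≠ 0)
    (γ₁ γ₂ : AlgebraicCycle X ℤ) (h₁ : ⇑γ₁ = Cyc.c1CapFun δ L ⇑α s) (h₂ : ⇑γ₂ = Cyc.c1CapFun δ L ⇑α t) :
    Cyc.RatEquiv δ k γ₁ γ₂ := by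
  choose φ hφ using fun ξ => exists_ratio hL ξ (t ξ) (s ξ) (ht ξ)
  have hφ0 : ∀ ξ, X.residue ξ (φ ξ) ≠ 0 := fun ξ h => hs ξ (by
    obtain ⟨e, he⟩ := exists_isGen hL ξ
    obtain ⟨a, ha⟩ := exists_smul_mk he (t ξ)
    rw [hφ ξ, ha, smul_smul, ← Submodule.Quotient.mk_smul]
    exact (mk_smul_eq_zero_iff hL he _).2 (by rw [map_mul, h, zero_mul]))
  refine ratEquivZero_of_sum δ hδ k α hα (fun ξ => X.residue ξ (φ ξ)) hφ0 _ fun x => ?_
  rw [Function.locallyFinsuppWithin.coe_sub, Pi.sub_apply, h₁, h₂, c1CapFun_eq_sum, c1CapFun_eq_sum,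
    ← Finset.sum_sub_distrib]
  refine Finset.sum_congr rfl fun ξ _ => ?_
  rw [hφ ξ, secDivFun_smul hδ hL ξ _ (ht ξ) _ (hφ0 ξ)]
  ring

end Cap

end Groth.L22.C1
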