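import Groth.Agent.L22.C1.Pull
import Groth.Agent.L22.Cyc.FlatRat
import Groth.Agent.L22.Cyc.PushRat
import Groth.Agent.L18.AmplePull

/-!
The first Chern class cap commutes with flat pullback and with proper pushforward.
-/

set_option autoImplicit false
set_option linter.style.haveILetI false
set_option backward.isDefEq.respectTransparency false

universe u

open CategoryTheory CategoryTheory.Limits AlgebraicGeometry TopologicalSpace

noncomputable section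

namespace Groth.L22.C1

variable {X : Scheme.{u}}

theorem exists_cycle (F : X → ℤ) (h : ∀ x : X, ∃ V : X.Opens, x ∈ V ∧ (Function.support F ∩ V).Finite) :
    ∃ α : AlgebraicCycle X ℤ, ⇑α = F := by
  refine ⟨⟨F, fun x _ => trivial, fun x _ => ?_⟩, rfl⟩
  obtain ⟨V, hx, hV⟩ := h x
  exact ⟨V, V.2.mem_nhds hx, by rwa [Set.inter_comm]⟩

variable [IsLocallyNoetherian X] {δ : X → ℤ} (hδ : Cyc.IsDimFun X δ) {L : X.Modules}

include hδ in
theorem finite_support_secDivFun_inter (hL : PicF.IsInvertible L) {U : X.Opens} {e : Γ(L, U)}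
    (he : Groth.L18.Frame.IsFrame L U e) {V : X.Opens} (hV : IsAffineOpen V) (hVU : V ≤ U) (ξ : X)
    (s : Cyc.secFibre L ξ) (hs : s ≠ 0) : (Function.support (Cyc.secDivFun δ L ξ s) ∩ (V : Set X)).Finite := by
  by_cases hξ : ξ ∈ V
  swap
  · refine Set.finite_empty.subset fun x hx => ?_
    exact hξ ((secDivFun_ne_zero δ hx.1).1.mem_open V.2 hx.2)
  obtain ⟨a, ha⟩ := exists_smul_mk (isGen_germ he (hVU hξ)) s
  have hg : X.residue ξ a ≠ 0 := fun h => hs (by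
    rw [ha, ← Submodule.Quotient.mk_smul]
    exact (mk_smul_eq_zero_iff hL (isGen_germ he (hVU hξ)) a).2 h)
  refine (Groth.L22.Cyc.finite_support_divFun_inter hδ ξ _ hg hV).subset fun x hx => ⟨?_, hx.2⟩
  rw [Function.mem_support]
  intro h0
  refine (Function.mem_support.1 hx.1) ?_
  rw [← h0]
  unfold Cyc.secDivFun Cyc.divFun
  split_ifs with h
  · rw [ha, ← secOrdAt_gen hδ hL h.1 h.2 (isGen_germ he (hVU hx.2)) a,
      TopCat.Presheaf.germ_stalkSpecializes_apply]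
  · rfl

include hδ in
theorem exists_cycle_c1Cap (hL : PicF.IsInvertible L) (α : AlgebraicCycle X ℤ)
    (s : (ξ : X) → Cyc.secFibre L ξ) (hs : ∀ ξ, s ξ ≠ 0) :
    ∃ γ : AlgebraicCycle X ℤ, ⇑γ = Cyc.c1CapFun δ L ⇑α s := by
  refine exists_cycle _ fun x => ?_
  obtain ⟨U, e, hxU, he⟩ := Groth.L18.Frame.exists_frame hL x
  obtain ⟨V, hV, hxV, hVU⟩ := exists_isAffineOpen_mem_and_subset (x := x) (U := U) hxU
  refine ⟨V, hxV, (((α.locallyFiniteSupport.finite_inter_support_of_isCompact hV.isCompact).biUnion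
    fun ξ _ => finite_support_secDivFun_inter hδ hL he hV hVU ξ (s ξ) (hs ξ))).subset fun z hz => ?_⟩
  have h := hz.1
  rw [Function.mem_support, c1CapFun_eq_sum] at h
  obtain ⟨ξ, -, hξ⟩ := Finset.exists_ne_zero_of_sum_ne_zero h
  obtain ⟨h1, h2⟩ := mul_ne_zero_iff.1 hξ
  exact Set.mem_biUnion (show ξ ∈ (V : Set X) ∩ Function.support ⇑α from
    ⟨(secDivFun_ne_zero δ h2).1.mem_open V.2 hz.2, h1⟩) ⟨h2, hz.2⟩

end Groth.L22.C1

namespace Groth.L22.C1

variable {X Y : Scheme.{u}} [IsLocallyNoetherian X] [IsLocallyNoetherian Y] (f : X ⟶ Y)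
  {δX : X → ℤ} {δY : Y → ℤ} (hdX : Cyc.IsDimFun X δX) (hdY : Cyc.IsDimFun Y δY) {L : Y.Modules}
  (hL : PicF.IsInvertible L)

include hdX hdY hL in
theorem c1Cap_pullFun [Flat f] (c : ℤ) (hc : ∀ x, Groth.L22.Cyc.FibGen f x → δX x = δY (f x) + c) (k : ℤ)
    (α : AlgebraicCycle Y ℤ) (hα : α ∈ Cyc.Zk Y δY k) (v : (η : Y) → Cyc.secFibre L η) (hv : ∀ η, v η ≠ 0)
    (u : (ξ : X) → Cyc.secFibre ((Scheme.Modules.pullback f).obj L) ξ) (hu : ∀ ξ, u ξ ≠ 0)
    (γ₁ γ₂ : AlgebraicCycle X ℤ) (h₁ : ⇑γ₁ = Cyc.pullFun f δX δY c (Cyc.c1CapFun δY L ⇑α v))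
    (h₂ : ⇑γ₂ = Cyc.c1CapFun δX ((Scheme.Modules.pullback f).obj L) (Cyc.pullFun f δX δY c ⇑α) u) :
    Cyc.RatEquiv δX (k + c - 1) γ₁ γ₂ := by
  classical
  have hL' : PicF.IsInvertible ((Scheme.Modules.pullback f).obj L) := Groth.L18.Ample.isInvertible_pullback f hL
  have hpull := Groth.L22.Cyc.pullFun_eq' f (δX := δX) (δY := δY) hc
  have hgen : ∀ (t : X), (Groth.L22.Cyc.mult f t).toNat ≠ 0 → Groth.L22.Cyc.FibGen f t := fun t h => by
    by_contra h'
    exact h (by rw [Groth.L22.Cyc.mult_eq_top h']; rfl)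
  obtain ⟨α', hα'⟩ : ∃ α' : AlgebraicCycle X ℤ, ⇑α' = Cyc.pullFun f δX δY c ⇑α := by
    refine exists_cycle _ fun x => ?_
    obtain ⟨W, hW, hxW, -⟩ := exists_isAffineOpen_mem_and_subset (x := f x) (U := ⊤) trivial
    obtain ⟨V, hV, hxV, hVW⟩ := exists_isAffineOpen_mem_and_subset (x := x) (U := f ⁻¹ᵁ W) hxW
    refine ⟨V, hxV, ((α.locallyFiniteSupport.finite_inter_support_of_isCompact hW.isCompact).biUnion
      fun η _ => Groth.L22.Cyc.finite_fibGen_over f hV η).subset fun t ht => ?_⟩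
    have h := ht.1
    rw [Function.mem_support, hpull, mul_ne_zero_iff] at h
    exact Set.mem_biUnion (show f t ∈ (W : Set Y) ∩ Function.support ⇑α from ⟨hVW ht.2, h.1⟩)
      ⟨ht.2, hgen t (by exact_mod_cast h.2), rfl⟩
  have hα'Z : α' ∈ Cyc.Zk X δX (k + c - 1 + 1) := fun t ht => by
    rw [hα', hpull]
    show α (f t) * _ = 0
    by_contra h
    obtain ⟨h1, h2⟩ := mul_ne_zero_iff.1 h
    have := hc t (hgen t (by exact_mod_cast h2))
    exact h1 (hα _ fun e => ht (by omega))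
  refine c1Cap_ratEquiv δX hdX hL' (k + c - 1) α' hα'Z (pullSec f v) u
    (fun t => pullSec_ne_zero f hL hL' v t (hv _)) hu γ₁ γ₂ ?_ (by rw [h₂, hα'])
  funext x
  rw [h₁, c1CapFun_eq_sum, hpull]
  show Cyc.c1CapFun δY L ⇑α v (f x) * _ = _
  rw [c1CapFun_eq_sum, Finset.sum_mul]
  set S := (finite_gen α (f x)).toFinset with hS
  set T := (finite_gen α' x).toFinset with hT
  have hmaps : ∀ t ∈ T, f t ∈ S := fun t ht => by
    rw [hT, Set.Finite.mem_toFinset] at ht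
    rw [hS, Set.Finite.mem_toFinset]
    obtain ⟨h1, h2⟩ := ht
    rw [hα', hpull] at h2
    exact ⟨h1.map f.continuous, left_ne_zero_of_mul h2⟩
  rw [← Finset.sum_fiberwise_of_maps_to hmaps]
  refine Finset.sum_congr rfl fun ξ hξ => ?_
  obtain ⟨g, hg, hY', hX'⟩ := exists_local_fun f (δX := δX) hdX hdY hL hL' v ξ (f x) (hv ξ)
  have hd := Groth.L22.Cyc.pullFun_divFun f hdY hdX hc ξ g hg x
  rw [hpull] at hd
  dsimp only at hd
  rw [mul_assoc, hY', hd]
  have hG : ∀ t : {t : X // Groth.L22.Cyc.FibGen f t ∧ f t = ξ}, ((Groth.L22.Cyc.mult f t.1).toNat : ℤ) *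
      Cyc.divFun δX t.1 (f.residueFieldMap t.1 ((Y.residueFieldCongr t.2.2.symm).hom g)) x =
      ((Groth.L22.Cyc.mult f t.1).toNat : ℤ) *
        Cyc.secDivFun δX ((Scheme.Modules.pullback f).obj L) t.1 (pullSec f v t.1) x := fun t => by
    rw [hX' x rfl t.1 t.2.2]
  rw [finsum_congr hG, finsum_subtype_eq_finsum_cond (f := fun t => ((Groth.L22.Cyc.mult f t).toNat : ℤ) *
    Cyc.secDivFun δX ((Scheme.Modules.pullback f).obj L) t (pullSec f v t) x)
    (fun t => Groth.L22.Cyc.FibGen f t ∧ f t = ξ),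
    finsum_cond_eq_sum_of_cond_iff (t := T.filter fun t => f t = ξ) _ fun {t} ht => ?_, Finset.mul_sum]
  · refine Finset.sum_congr rfl fun t ht => ?_
    rw [Finset.mem_filter] at ht
    rw [hα', hpull]
    show _ = α (f t) * _ * _
    rw [ht.2]
    ring
  · obtain ⟨h1, h2⟩ := mul_ne_zero_iff.1 ht
    rw [Finset.mem_filter, hT, Set.Finite.mem_toFinset]
    refine ⟨fun h => ⟨⟨(secDivFun_ne_zero δX h2).1, ?_⟩, h.2⟩, fun h => ⟨hgen t (by exact_mod_cast h1), h.2⟩⟩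
    rw [hα', hpull]
    refine mul_ne_zero ?_ h1
    rw [h.2]
    rw [hS, Set.Finite.mem_toFinset] at hξ
    exact hξ.2

include hdX hdY hL in
theorem map_c1Cap [IsProper f] (hδ : Cyc.DeltaCompat f δX δY) (k : ℤ) (α : AlgebraicCycle X ℤ)
    (hα : α ∈ Cyc.Zk X δX (k + 1)) (u : (ξ : X) → Cyc.secFibre ((Scheme.Modules.pullback f).obj L) ξ)
    (hu : ∀ ξ, u ξ ≠ 0) (v : (η : Y) → Cyc.secFibre L η) (hv : ∀ η, v η ≠ 0) (γ : AlgebraicCycle X ℤ)
    (hγ : ⇑γ = Cyc.c1CapFun δX ((Scheme.Modules.pullback f).obj L) ⇑α u) (γ' : AlgebraicCycle Y ℤ)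
    (hγ' : ⇑γ' = Cyc.c1CapFun δY L ⇑(AlgebraicCycle.map f δX δY α) v) :
    Cyc.RatEquiv δY k (AlgebraicCycle.map f δX δY γ) γ' := by
  classical
  have hL' : PicF.IsInvertible ((Scheme.Modules.pullback f).obj L) := Groth.L18.Ample.isInvertible_pullback f hL
  have hu0 : ∀ t, pullSec f v t ≠ 0 := fun t => pullSec_ne_zero f hL hL' v t (hv _)
  obtain ⟨γ₀, hγ₀⟩ := exists_cycle_c1Cap hdX hL' α (pullSec f v) hu0
  have h0 := Groth.L22.Cyc.ratEquiv_map f hdX hdY hδ k γ γ₀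
    (c1Cap_ratEquiv δX hdX hL' k α hα u (pullSec f v) hu hu0 γ γ₀ hγ hγ₀)
  suffices h : AlgebraicCycle.map f δX δY γ₀ = γ' by rwa [h] at h0
  refine DFunLike.coe_injective (funext fun y => ?_)
  obtain ⟨V, hV, hyV, -⟩ := exists_isAffineOpen_mem_and_subset (x := y) (U := ⊤) trivial
  have hA : {ξ : X | α ξ ≠ 0 ∧ f ξ ⤳ y}.Finite :=
    (α.locallyFiniteSupport.finite_inter_support_of_isCompact (f.isCompact_preimage hV.isCompact)).subset
      fun ξ h => ⟨h.2.mem_open V.2 hyV, h.1⟩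
  set S := hA.toFinset with hS
  set W : X → ℤ := fun x => ((AlgebraicCycle.mapCoeff f δX δY x : ℕ) : ℤ)
  have hfin : {x | f x = y ∧ (γ₀ x * W x ≠ 0)}.Finite :=
    (γ₀.locallyFiniteSupport.finite_inter_support_of_isCompact (f.isCompact_preimage hV.isCompact)).subset
      fun x h => ⟨show f x ∈ (V : Set Y) from h.1 ▸ hyV, left_ne_zero_of_mul h.2⟩
  have hexp : ∀ x, f x = y → γ₀ x = ∑ ξ ∈ S, α ξ *
      Cyc.secDivFun δX ((Scheme.Modules.pullback f).obj L) ξ (pullSec f v ξ) x := fun x hx => by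
    rw [hγ₀, c1CapFun_eq_sum]
    refine Finset.sum_subset (fun ξ h => ?_) fun ξ _ h => ?_
    · rw [Set.Finite.mem_toFinset] at h
      rw [hS, Set.Finite.mem_toFinset]
      exact ⟨h.2, hx ▸ h.1.map f.continuous⟩
    · rw [Set.Finite.mem_toFinset] at h
      by_contra h'
      obtain ⟨a, b⟩ := mul_ne_zero_iff.1 h'
      exact h ⟨(secDivFun_ne_zero δX b).1, a⟩
  show (∑ᶠ x ∈ f ⁻¹' {y}, γ₀ x * W x) = γ' y
  have hper : ∀ ξ : X, ∃ R : Finset X, (∀ x ∈ R, f x = y) ∧ (∀ x, f x = y →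
      Cyc.secDivFun δX ((Scheme.Modules.pullback f).obj L) ξ (pullSec f v ξ) x * W x ≠ 0 → x ∈ R) ∧
      ∑ x ∈ R, Cyc.secDivFun δX ((Scheme.Modules.pullback f).obj L) ξ (pullSec f v ξ) x * W x =
        if δY (f ξ) = δX ξ then (f.residueDegree ξ : ℤ) * Cyc.secDivFun δY L (f ξ) (v (f ξ)) y else 0 := by
    intro ξ
    obtain ⟨g, hg, hY', hX'⟩ := exists_local_fun f (δX := δX) hdX hdY hL hL' v (f ξ) y (hv _)
    obtain ⟨g', hg'd⟩ : ∃ g', f.residueFieldMap ξ g = g' := ⟨_, rfl⟩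
    have hg' : g' ≠ 0 := hg'd ▸ (map_ne_zero _).2 hg
    have hX'' : ∀ x, f x = y → Cyc.secDivFun δX ((Scheme.Modules.pullback f).obj L) ξ (pullSec f v ξ) x =
        Cyc.divFun δX ξ g' x := fun x hx => by
      rw [hX' x hx ξ rfl, ← hg'd, Scheme.residueFieldCongr_refl]
      rfl
    have hfinR : {x | f x = y ∧ Cyc.divFun δX ξ g' x ≠ 0}.Finite :=
      (Groth.L22.Cyc.finite_support_divFun_inter_compact hdX ξ g' hg' (f.isCompact_preimage hV.isCompact)).subset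
        fun x h => ⟨h.2, show f x ∈ (V : Set Y) from h.1 ▸ hyV⟩
    refine ⟨hfinR.toFinset, fun x h => ((Set.Finite.mem_toFinset _).1 h).1,
      fun x hx h => (Set.Finite.mem_toFinset _).2 ⟨hx, hX'' x hx ▸ left_ne_zero_of_mul h⟩, ?_⟩
    have hm := Groth.L22.Cyc.map_divFun f hdX hdY hδ ξ g' hg' y
    rw [finsum_mem_eq_sum_of_inter_support_eq _ (t := hfinR.toFinset.filter fun x =>
      Cyc.divFun δX ξ g' x * W x ≠ 0) (by ext x; simp [W]; tauto)] at hm
    rw [Finset.sum_congr rfl fun x h => by rw [hX'' x ((Set.Finite.mem_toFinset _).1 h).1],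
      ← Finset.sum_filter_ne_zero, hm]
    refine if_congr Iff.rfl ?_ rfl
    have hn : Cyc.normGen f ξ g' = g ^ f.residueDegree ξ := by
      rw [← hg'd]
      letI := (f.residueFieldMap ξ).hom.toAlgebra
      exact Algebra.norm_algebraMap g
    rw [hn, ← zpow_natCast, divFun_zpow hdY (f ξ) hg, hY']
  choose R hR1 hR2 hR3 using hper
  set P := hfin.toFinset ∪ S.biUnion R with hPd
  have hP : ∀ x ∈ P, f x = y := fun x hx => by
    rw [hPd, Finset.mem_union, Finset.mem_biUnion] at hx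
    rcases hx with h | ⟨η, -, hη⟩
    · exact ((Set.Finite.mem_toFinset _).1 h).1
    · exact hR1 η x hη
  rw [finsum_mem_eq_sum_of_inter_support_eq _ (t := P) (by
      ext x
      simp only [Set.mem_inter_iff, Function.mem_support, Set.mem_preimage, Set.mem_singleton_iff, Finset.mem_coe]
      exact ⟨fun h => ⟨Finset.mem_union_left _ ((Set.Finite.mem_toFinset _).2 h), h.2⟩,
        fun h => ⟨hP x h.1, h.2⟩⟩),
    Finset.sum_congr rfl fun x hx => by rw [hexp x (hP x hx), Finset.sum_mul],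
    Finset.sum_comm, hγ', c1CapFun_eq_sum]
  have hswap : ∀ ξ ∈ S, ∑ x ∈ P,
      α ξ * Cyc.secDivFun δX ((Scheme.Modules.pullback f).obj L) ξ (pullSec f v ξ) x * W x =
      α ξ * W ξ * Cyc.secDivFun δY L (f ξ) (v (f ξ)) y := by
    intro ξ hξ
    simp_rw [mul_assoc]
    rw [← Finset.mul_sum, ← Finset.sum_subset ((Finset.subset_biUnion_of_mem R hξ).trans
        (Finset.subset_union_right (s₁ := hfin.toFinset))) (fun x hx hx' => by
          by_contra h
          exact hx' (hR2 ξ x (hP x hx) h)), hR3]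
    congr 1
    show _ = ((AlgebraicCycle.mapCoeff f δX δY ξ : ℕ) : ℤ) * _
    rw [AlgebraicCycle.mapCoeff]
    split_ifs with h1 h2 h3
    · rfl
    · exact absurd h1.symm h2
    · exact absurd h3.symm h1
    · simp
  rw [Finset.sum_congr rfl hswap]
  have hmem : ∀ ξ, ξ ∈ S ↔ α ξ ≠ 0 ∧ f ξ ⤳ y := fun ξ => by rw [hS, Set.Finite.mem_toFinset]; rfl
  have hmap : ∀ η, η ⤳ y → AlgebraicCycle.map f δX δY α η = ∑ ξ ∈ S.filter fun ξ => f ξ = η, α ξ * W ξ := by
    intro η hη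
    show (∑ᶠ ξ ∈ f ⁻¹' {η}, α ξ * W ξ) = _
    refine finsum_mem_eq_sum_of_inter_support_eq _ ?_
    ext ξ
    simp only [Set.mem_inter_iff, Function.mem_support, Set.mem_preimage, Set.mem_singleton_iff, Finset.mem_coe,
      Finset.mem_filter, hmem]
    exact ⟨fun h => ⟨⟨⟨left_ne_zero_of_mul h.2, h.1 ▸ hη⟩, h.1⟩, h.2⟩, fun h => ⟨h.1.2, h.2⟩⟩
  rw [← Finset.sum_fiberwise_of_maps_to (t := S.image f) fun ξ hξ => Finset.mem_image_of_mem f hξ]
  symm
  have hS' : ∀ η ∈ S.image f, η ⤳ y := fun η h => by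
    obtain ⟨ξ, hξ, rfl⟩ := Finset.mem_image.1 h
    exact ((hmem ξ).1 hξ).2
  rw [Finset.sum_subset (s₂ := S.image f) (fun η h => ?_) fun η h h' => ?_]
  · refine Finset.sum_congr rfl fun η hη => ?_
    rw [hmap η (hS' η hη), Finset.sum_mul]
    refine Finset.sum_congr rfl fun ξ hξ => ?_
    rw [(Finset.mem_filter.1 hξ).2]
  · rw [Set.Finite.mem_toFinset] at h
    obtain ⟨ξ, hξ, hne⟩ := Finset.exists_ne_zero_of_sum_ne_zero (hmap η h.1 ▸ h.2)
    obtain ⟨hξS, rfl⟩ := Finset.mem_filter.1 hξ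
    exact Finset.mem_image_of_mem f hξS
  · rw [Set.Finite.mem_toFinset] at h'
    by_contra h0
    exact h' ⟨hS' η h, left_ne_zero_of_mul h0⟩

end Groth.L22.C1
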