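import Groth.Agent.L22.C1.Family
import Groth.Agent.L22.C1.PullCap

/-!
Rational equivalence and commutation for the first Chern class cap and for Gysin maps.
-/

set_option autoImplicit false
set_option linter.style.haveILetI false
set_option backward.isDefEq.respectTransparency false

universe u

open CategoryTheory AlgebraicGeometry TopologicalSpace

noncomputable section

namespace Groth.L22.C1

variable {X : Scheme.{u}} [IsLocallyNoetherian X] {δ : X → ℤ} (hδ : Cyc.IsDimFun X δ) {L N : X.Modules}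
  (hL : PicF.IsInvertible L) (hN : PicF.IsInvertible N)

include hδ hL in
theorem ratOn_c1Cap_ratEquivZero (k : ℤ) (α : AlgebraicCycle X ℤ) (h0 : Cyc.RatEquivZero δ (k + 1) α)
    (u : (ξ : X) → Cyc.secFibre L ξ) (hu : ∀ ξ, u ξ ≠ 0) (S : Set X)
    (hS : ∀ (p ξ : X), ξ ∉ S → ∀ h : p ⤳ ξ, ∃ e : L.presheaf.stalk ξ, IsGen L e ∧ u ξ = mk L e ∧
      u p = mk L (L.presheaf.stalkSpecializes h e)) :
    RatOn δ k S (Cyc.c1CapFun δ L ⇑α u) := by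
  obtain ⟨I, ξ, f, h1, h2, h3, h4⟩ := h0
  have hG : ∀ i, ∃ G : AlgebraicCycle X ℤ, ⇑G = Cyc.divFun δ (ξ i) (f i) := fun i => exists_cycle _ fun z => by
    obtain ⟨V, hV, hzV, -⟩ := exists_isAffineOpen_mem_and_subset (x := z) (U := ⊤) trivial
    exact ⟨V, hzV, Groth.L22.Cyc.finite_support_divFun_inter hδ _ _ (h2 i) hV⟩
  choose G hG using hG
  refine (ratOn_of_family ξ h3 (fun i => Cyc.c1CapFun δ L ⇑(G i) u) fun i => ?_).congr fun x =>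
    c1CapFun_family ξ h3 G (fun i ζ h => ?_) _ (fun ζ => ?_) u x
  · rw [hG i]
    have h := ratOn_c1Cap_divFun hδ (ξ i) (f i) (h2 i) hL u u hu hu S fun ζ hζ h _ => hS (ξ i) ζ hζ h
    rwa [show δ (ξ i) - 2 = k by rw [h1 i]; ring] at h
  · rw [hG i] at h
    exact (divFun_ne_zero h).1
  · rw [h4 ζ]
    exact finsum_congr fun i => by rw [hG i]

include hδ hL hN in
theorem ratOn_comm_cycle (k : ℤ) (α : AlgebraicCycle X ℤ) (hα : α ∈ Cyc.Zk X δ (k + 2))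
    (sL u : (ξ : X) → Cyc.secFibre L ξ) (tN u' : (ξ : X) → Cyc.secFibre N ξ)
    (hs : ∀ ξ, sL ξ ≠ 0) (hu : ∀ ξ, u ξ ≠ 0) (ht : ∀ ξ, tN ξ ≠ 0) (hu' : ∀ ξ, u' ξ ≠ 0) (S : Set X)
    (hS : ∀ (p ξ : X), α p ≠ 0 → ξ ∉ S → ∀ h : p ⤳ ξ,
      (∃ e : L.presheaf.stalk ξ, IsGen L e ∧ u ξ = mk L e ∧ sL p = mk L (L.presheaf.stalkSpecializes h e)) ∨
      ∃ e : N.presheaf.stalk ξ, IsGen N e ∧ u' ξ = mk N e ∧ tN p = mk N (N.presheaf.stalkSpecializes h e)) :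
    RatOn δ k S (fun x => Cyc.c1CapFun δ L (Cyc.c1CapFun δ N ⇑α tN) u x -
      Cyc.c1CapFun δ N (Cyc.c1CapFun δ L ⇑α sL) u' x) := by
  classical
  refine (ratOn_of_family (fun i : {p : X // α p ≠ 0} => i.1) (cycle_loc α)
    (fun i x => α i.1 * (Cyc.c1CapFun δ L (Cyc.secDivFun δ N i.1 (tN i.1)) u x -
      Cyc.c1CapFun δ N (Cyc.secDivFun δ L i.1 (sL i.1)) u' x)) fun i => ?_).congr fun x => ?_
  · have h := ratOn_comm hδ i.1 hL hN sL u tN u' hs hu ht hu' S fun ξ hξ h _ => hS i.1 ξ i.2 hξ h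
    rw [show δ i.1 - 2 = k by
      have : δ i.1 = k + 2 := by_contra fun h => i.2 (hα i.1 h)
      omega] at h
    exact h.zsmul hδ (α i.1)
  · show _ - _ = _
    rw [c1Cap_c1Cap_eq hδ hN α tN ht u x, c1Cap_c1Cap_eq hδ hL α sL hs u' x]
    have hfin : {i : {p : X // α p ≠ 0} | i.1 ⤳ x}.Finite := by
      obtain ⟨U, hU, hxU, hfin⟩ := cycle_loc α x
      exact hfin.subset fun i hi => ⟨x, specializes_iff_mem_closure.1 hi, hxU⟩
    have hsupp : ∀ {M M' : X.Modules} (v : (ξ : X) → Cyc.secFibre M ξ) (w : (ξ : X) → Cyc.secFibre M' ξ),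
        (Function.support fun i : {p : X // α p ≠ 0} =>
          α i.1 * Cyc.c1CapFun δ M' (Cyc.secDivFun δ M i.1 (v i.1)) w x).Finite := fun v w => by
      refine hfin.subset fun i hi => ?_
      obtain ⟨ξ, hξ⟩ := exists_ne_zero_of_finsum_mem_ne_zero (s := Set.univ)
        (show (∑ᶠ ξ ∈ Set.univ, Cyc.secDivFun δ _ i.1 (v i.1) ξ * Cyc.secDivFun δ _ ξ (w ξ) x) ≠ 0 by
          rw [finsum_mem_univ]; exact right_ne_zero_of_mul hi)
      obtain ⟨h1, h2⟩ := mul_ne_zero_iff.1 hξ.2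
      exact (secDivFun_ne_zero δ h1).1.trans (secDivFun_ne_zero δ h2).1
    rw [← finsum_sub_distrib (hsupp tN u) (hsupp sL u')]
    exact finsum_congr fun i => by ring

variable {D : Scheme.{u}} (i : D ⟶ X) [IsClosedImmersion i] (s : L.presheaf.obj (Opposite.op ⊤))

include hδ hL in
theorem gysin_ratEquivZero (hD : Cyc.IsZeroSchemeOf i L s) (k : ℤ) (α : AlgebraicCycle X ℤ)
    (h0 : Cyc.RatEquivZero δ (k + 1) α) (t : (ξ : X) → Cyc.secFibre L ξ) (ht : ∀ ξ, t ξ ≠ 0)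
    (γ : AlgebraicCycle D ℤ) (hγ : ∀ d : D, γ d = Cyc.c1CapFun δ L ⇑α (Cyc.gysinChoice L s t) (i d)) :
    Cyc.RatEquivZero (fun d => δ (i d)) k γ := by
  haveI : IsLocallyNoetherian D := LocallyOfFiniteType.isLocallyNoetherian i
  exact (ratOn_c1Cap_ratEquivZero hδ hL k α h0 _ (gysinChoice_ne_zero s t ht) (Set.range i)
    fun p ξ hξ h => gysinChoice_spec s i hL hD t h hξ).comap i hδ subset_rfl γ hγ

include hδ hL hN in
theorem gysin_c1Cap (hD : Cyc.IsZeroSchemeOf i L s) (k : ℤ) (α : AlgebraicCycle X ℤ) (hα : α ∈ Cyc.Zk X δ k)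
    (w : (ξ : X) → Cyc.secFibre L ξ) (hw : ∀ ξ, w ξ ≠ 0) (v : (ξ : X) → Cyc.secFibre N ξ) (hv : ∀ ξ, v ξ ≠ 0)
    (t : (d : D) → Cyc.secFibre ((Scheme.Modules.pullback i).obj N) d) (ht : ∀ d, t d ≠ 0) (γ : D → ℤ)
    (hγ : γ = fun d => Cyc.c1CapFun δ L ⇑α (Cyc.gysinChoice L s w) (i d)) (ζ₁ ζ₂ : AlgebraicCycle D ℤ)
    (h₁ : ∀ d, ζ₁ d = Cyc.c1CapFun δ L (Cyc.c1CapFun δ N ⇑α v) (Cyc.gysinChoice L s w) (i d))
    (h₂ : ⇑ζ₂ = Cyc.c1CapFun (fun d => δ (i d)) ((Scheme.Modules.pullback i).obj N) γ t) :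
    Cyc.RatEquiv (fun d => δ (i d)) (k - 2) ζ₁ ζ₂ := by
  classical
  haveI : IsLocallyNoetherian D := LocallyOfFiniteType.isLocallyNoetherian i
  have hdD := Groth.L22.Cyc.isDimFun_closedImmersion i hδ
  have hN' := Groth.L18.Ample.isInvertible_pullback i hN
  have hu := gysinChoice_ne_zero s w hw
  have hout : ∀ x, x ∉ Set.range i → Cyc.c1CapFun δ L ⇑α (Cyc.gysinChoice L s w) x = 0 := fun x hx =>
    finsum_eq_zero_of_forall_eq_zero fun p => by rw [secDivFun_gysin_eq_zero s i hδ hL hD w p hx, mul_zero]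
  obtain ⟨β, hβ⟩ := exists_cycle_c1Cap hδ hL α _ hu
  obtain ⟨γ', hγ'⟩ : ∃ γ' : AlgebraicCycle D ℤ, ⇑γ' = γ := by
    refine exists_cycle γ fun d => ?_
    obtain ⟨W, hW, hdW, -⟩ := exists_isAffineOpen_mem_and_subset (x := i d) (U := ⊤) trivial
    refine ⟨i ⁻¹ᵁ W, hdW, ((β.locallyFiniteSupport.finite_inter_support_of_isCompact hW.isCompact).preimage
      i.isClosedEmbedding.injective.injOn).subset fun z hz => ⟨hz.2, ?_⟩⟩
    have h := hz.1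
    rw [Function.mem_support, hγ, ← hβ] at h
    exact h
  have hγ'Z : γ' ∈ Cyc.Zk D (fun d => δ (i d)) (k - 2 + 1) := fun d hd => by
    rw [hγ', hγ]
    refine finsum_eq_zero_of_forall_eq_zero fun p => ?_
    by_contra h
    obtain ⟨h1, h2⟩ := mul_ne_zero_iff.1 h
    have h3 := (secDivFun_ne_zero δ h2).2
    have : δ p = k := by_contra fun h => h1 (hα p h)
    dsimp only at hd
    omega
  obtain ⟨ζ₂', hζ₂'⟩ := exists_cycle_c1Cap hdD hN' γ' (pullSec i v)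
    fun d => pullSec_ne_zero i hN hN' v d (hv _)
  refine ratEquiv_trans _ ?_ (c1Cap_ratEquiv _ hdD hN' (k - 2) γ' hγ'Z (pullSec i v) t
    (fun d => pullSec_ne_zero i hN hN' v d (hv _)) ht ζ₂' ζ₂ hζ₂' (by rw [h₂, hγ']))
  refine (ratOn_comm_cycle hδ hL hN (k - 2) α (by rwa [sub_add_cancel]) _ _ v v hu hu hv hv (Set.range i)
    fun p ξ _ hξ h => Or.inl (gysinChoice_spec s i hL hD w h hξ)).comap i hδ subset_rfl _ fun d => ?_
  rw [Function.locallyFinsuppWithin.coe_sub, Pi.sub_apply, h₁ d, hζ₂', hγ', hγ,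
    c1CapFun_closedImmersion i hδ hN _ hout v hv d]

include hδ hN hL in
theorem c1Cap_comm_cycle (k : ℤ) (α : AlgebraicCycle X ℤ) (hα : α ∈ Cyc.Zk X δ (k + 2))
    (sL sL' : (ξ : X) → Cyc.secFibre L ξ) (sN sN' : (ξ : X) → Cyc.secFibre N ξ) (hsL : ∀ ξ, sL ξ ≠ 0)
    (hsL' : ∀ ξ, sL' ξ ≠ 0) (hsN : ∀ ξ, sN ξ ≠ 0) (hsN' : ∀ ξ, sN' ξ ≠ 0) (γ₁ γ₂ : AlgebraicCycle X ℤ)
    (h₁ : ⇑γ₁ = Cyc.c1CapFun δ L (Cyc.c1CapFun δ N ⇑α sN) sL)
    (h₂ : ⇑γ₂ = Cyc.c1CapFun δ N (Cyc.c1CapFun δ L ⇑α sL') sN') : Cyc.RatEquiv δ k γ₁ γ₂ := by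
  refine (ratOn_comm_cycle hδ hL hN k α hα sL' sL sN sN' hsL' hsL hsN hsN' Set.univ
    fun p ξ _ hξ => absurd trivial hξ).ratEquivZero _ ?_
  rw [Function.locallyFinsuppWithin.coe_sub, h₁, h₂]
  rfl

end Groth.L22.C1
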