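import Groth.Agent.L22.C1.Basic
import Groth.Agent.L00.StalkFunctor
import Groth.Prelude.Def_ChowOps2

/-!
Caps are invariant under isomorphisms of invertible modules.
-/

set_option autoImplicit false
set_option linter.style.haveILetI false
set_option backward.isDefEq.respectTransparency false

universe u

open CategoryTheory AlgebraicGeometry TopologicalSpace

noncomputable section

namespace Groth.L22.C1

variable {X : Scheme.{u}} {L M : X.Modules} (φ : L ⟶ M) [IsIso φ]

/-- The map on stalks. -/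
def stMap (x : X) : L.presheaf.stalk x →ₗ[X.presheaf.stalk x] M.presheaf.stalk x :=
  ((Groth.L00.Stk.F X x).map φ).hom

theorem stMap_bijective (x : X) : Function.Bijective (stMap φ x) :=
  ConcreteCategory.bijective_of_isIso ((Groth.L00.Stk.F X x).map φ)

omit [IsIso φ] in
theorem stMap_germ {x : X} {U : X.Opens} (hx : x ∈ U) (m : Γ(L, U)) :
    stMap φ x (L.presheaf.germ U x hx m) = M.presheaf.germ U x hx (φ.app U m) :=
  DerSch.stalkFunctor_map_germ x φ U hx m

omit [IsIso φ] in
theorem stMap_specializes {x ξ : X} (h : ξ ⤳ x) (v : L.presheaf.stalk x) :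
    M.presheaf.stalkSpecializes h (stMap φ x v) = stMap φ ξ (L.presheaf.stalkSpecializes h v) := by
  obtain ⟨V, hV, m, rfl⟩ := TopCat.Presheaf.exists_germ_eq (F := L.presheaf) (x := x) v
  rw [stMap_germ, TopCat.Presheaf.germ_stalkSpecializes_apply, TopCat.Presheaf.germ_stalkSpecializes_apply,
    stMap_germ]

theorem IsGen.map {x : X} {t : L.presheaf.stalk x} (ht : IsGen L t) : IsGen M (stMap φ x t) :=
  Submodule.eq_top_iff'.2 fun v => Submodule.mem_span_singleton.2 (by
    obtain ⟨w, rfl⟩ := (stMap_bijective φ x).2 v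
    obtain ⟨a, rfl⟩ := ht.exists_smul w
    exact ⟨a, ((stMap φ x).map_smul a t).symm⟩)

/-- The map on rational sections. -/
def mapSec (x : X) : Cyc.secFibre L x →ₗ[X.presheaf.stalk x] Cyc.secFibre M x :=
  Submodule.mapQ _ _ (stMap φ x) (by
    rw [Submodule.smul_le]
    exact fun r hr v _ => by
      rw [Submodule.mem_comap, (stMap φ x).map_smul]
      exact Submodule.smul_mem_smul hr trivial)

omit [IsIso φ] in
theorem mapSec_mk {x : X} (v : L.presheaf.stalk x) : mapSec φ x (mk L v) = mk M (stMap φ x v) := rfl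

variable (hL : PicF.IsInvertible L) (hM : PicF.IsInvertible M)

include hL hM in
theorem mapSec_ne_zero (x : X) (s : Cyc.secFibre L x) (hs : s ≠ 0) : mapSec φ x s ≠ 0 := by
  obtain ⟨t, ht⟩ := exists_isGen hL x
  obtain ⟨a, rfl⟩ := exists_smul_mk ht s
  rw [← Submodule.Quotient.mk_smul] at hs ⊢
  rw [mapSec_mk, (stMap φ x).map_smul]
  exact fun h => hs ((mk_smul_eq_zero_iff hL ht a).2 ((mk_smul_eq_zero_iff hM (ht.map φ) a).1 h))

variable [IsLocallyNoetherian X] {δ : X → ℤ} (hδ : Cyc.IsDimFun X δ)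

include hL hM hδ in
theorem secDivFun_mapSec (ξ : X) (s : Cyc.secFibre L ξ) (x : X) :
    Cyc.secDivFun δ M ξ (mapSec φ ξ s) x = Cyc.secDivFun δ L ξ s x := by
  unfold Cyc.secDivFun
  split_ifs with h
  · obtain ⟨t, ht⟩ := exists_isGen hL x
    obtain ⟨a, rfl⟩ := exists_smul_mk (ht.specializes hL h.1) s
    rw [secOrdAt_gen hδ hL h.1 h.2 ht, ← secOrdAt_gen hδ hM h.1 h.2 (ht.map φ) a, (mapSec φ ξ).map_smul]
    congr 2
    rw [mapSec_mk, stMap_specializes]
  · rfl

include hL hM hδ in
theorem c1PowFun_mapSec (t : ℕ → (ξ : X) → Cyc.secFibre L ξ) (G : X → ℤ) :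
    ∀ m : ℕ, Cyc.c1PowFun δ M (fun i ξ => mapSec φ ξ (t i ξ)) m G = Cyc.c1PowFun δ L t m G := by
  intro m
  induction m with
  | zero => rfl
  | succ m ih =>
    show Cyc.c1CapFun δ M (Cyc.c1PowFun δ M (fun i ξ => mapSec φ ξ (t i ξ)) m G) _ =
      Cyc.c1CapFun δ L (Cyc.c1PowFun δ L t m G) (t m)
    rw [ih]
    funext x
    exact finsum_congr fun ξ => by rw [secDivFun_mapSec φ hL hM hδ]

end Groth.L22.C1
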