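import Groth.Agent.L22.C1.Basic
import Groth.Agent.L00.StalkFunctor
import Groth.Agent.L03.Euler.Twist

/-!
Additivity of the first Chern class cap in the invertible module.
-/

set_option autoImplicit false
set_option linter.style.haveILetI false
set_option backward.isDefEq.respectTransparency false

universe u

open CategoryTheory CategoryTheory.Limits MonoidalCategory AlgebraicGeometry TopologicalSpace Opposite
open scoped TensorProduct

noncomputable section

namespace Groth.L22.C1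

open Groth.L00.Tensor (pre)
open Groth.L00.StalkTensor (germ St)

variable {X : Scheme.{u}} (L N : X.Modules)

/-- The product of germs in the stalk of the tensor product. -/
def tp {x : X} (p : L.presheaf.stalk x) (q : N.presheaf.stalk x) : (CohB1.tensorMod L N).presheaf.stalk x :=
  Groth.L00.Stk.τfun x L N ((show St (pre L) x from p) ⊗ₜ[Groth.L00.StalkTensor.Ox X x] (show St (pre N) x from q))

theorem tp_smul {x : X} (a b : X.presheaf.stalk x) (p : L.presheaf.stalk x) (q : N.presheaf.stalk x) :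
    tp L N (a • p) (b • q) = (a * b) • tp L N p q := by
  show Groth.L00.Stk.τfun x L N (((a • (show St (pre L) x from p) : St (pre L) x)) ⊗ₜ[Groth.L00.StalkTensor.Ox X x]
    (b • (show St (pre N) x from q) : St (pre N) x)) = _
  rw [TensorProduct.smul_tmul_smul, Groth.L00.Stk.τfun_smul]
  rfl

theorem isGen_tp {x : X} {p : L.presheaf.stalk x} {q : N.presheaf.stalk x} (hp : IsGen L p) (hq : IsGen N q) :
    IsGen (CohB1.tensorMod L N) (tp L N p q) := by
  refine Submodule.eq_top_iff'.2 fun v => ?_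
  obtain ⟨t, rfl⟩ := (Groth.L00.Stk.τfun_bijective x L N).2 v
  induction t using TensorProduct.induction_on with
  | zero => rw [map_zero]; exact zero_mem _
  | tmul p' q' =>
    obtain ⟨a, rfl⟩ := hp.exists_smul p'
    obtain ⟨b, rfl⟩ := hq.exists_smul q'
    exact Submodule.mem_span_singleton.2 ⟨a * b, (tp_smul L N a b p q).symm⟩
  | add a b ha hb => rw [map_add]; exact Submodule.add_mem _ ha hb

theorem tp_specializes {x ξ : X} (h : ξ ⤳ x) (p : L.presheaf.stalk x) (q : N.presheaf.stalk x) :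
    (CohB1.tensorMod L N).presheaf.stalkSpecializes h (tp L N p q) =
      tp L N (L.presheaf.stalkSpecializes h p) (N.presheaf.stalkSpecializes h q) := by
  obtain ⟨U, hU, m, n, hm, hn⟩ := Groth.L00.StalkTensor.exists_pair (pre L) (pre N) x p q
  have hξ : ξ ∈ U := h.mem_open U.2 hU
  have hm' : L.presheaf.stalkSpecializes h p = germ (pre L) ξ hξ m := by
    rw [← hm]; exact TopCat.Presheaf.germ_stalkSpecializes_apply L.presheaf hU h m
  have hn' : N.presheaf.stalkSpecializes h q = germ (pre N) ξ hξ n := by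
    rw [← hn]; exact TopCat.Presheaf.germ_stalkSpecializes_apply N.presheaf hU h n
  rw [hm', hn', ← hm, ← hn]
  show (CohB1.tensorMod L N).presheaf.stalkSpecializes h (Groth.L00.Stk.τfun x L N
      (germ (pre L) x hU m ⊗ₜ germ (pre N) x hU n)) =
    Groth.L00.Stk.τfun ξ L N (germ (pre L) ξ hξ m ⊗ₜ germ (pre N) ξ hξ n)
  rw [Groth.L00.Stk.τfun_tmul, Groth.L00.Stk.τfun_tmul]
  exact TopCat.Presheaf.germ_stalkSpecializes_apply (CohB1.tensorMod L N).presheaf hU h _

variable {L N} [IsLocallyNoetherian X] {δ : X → ℤ} (hδ : Cyc.IsDimFun X δ)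

include hδ in
theorem secDivFun_tp (hL : PicF.IsInvertible L) (hN : PicF.IsInvertible N)
    (hT : PicF.IsInvertible (CohB1.tensorMod L N)) {ξ : X} (p : L.presheaf.stalk ξ) (q : N.presheaf.stalk ξ)
    (hp : mk L p ≠ 0) (hq : mk N q ≠ 0) (x : X) :
    Cyc.secDivFun δ (CohB1.tensorMod L N) ξ (mk _ (tp L N p q)) x =
      Cyc.secDivFun δ L ξ (mk L p) x + Cyc.secDivFun δ N ξ (mk N q) x := by
  unfold Cyc.secDivFun
  split_ifs with h
  · obtain ⟨e, he⟩ := exists_isGen hL x
    obtain ⟨e', he'⟩ := exists_isGen hN x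
    obtain ⟨a, rfl⟩ := (he.specializes hL h.1).exists_smul p
    obtain ⟨b, rfl⟩ := (he'.specializes hN h.1).exists_smul q
    have ha : X.residue ξ a ≠ 0 := fun z => hp ((mk_smul_eq_zero_iff hL (he.specializes hL h.1) a).2 z)
    have hb : X.residue ξ b ≠ 0 := fun z => hq ((mk_smul_eq_zero_iff hN (he'.specializes hN h.1) b).2 z)
    rw [tp_smul, ← tp_specializes L N h.1]
    show Cyc.secOrdAt _ ξ x h.1 (Submodule.Quotient.mk _) =
      Cyc.secOrdAt _ ξ x h.1 (Submodule.Quotient.mk _) + Cyc.secOrdAt _ ξ x h.1 (Submodule.Quotient.mk _)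
    rw [Submodule.Quotient.mk_smul, Submodule.Quotient.mk_smul, Submodule.Quotient.mk_smul,
      secOrdAt_gen hδ hL h.1 h.2 he, secOrdAt_gen hδ hN h.1 h.2 he',
      secOrdAt_gen hδ hT h.1 h.2 (isGen_tp L N he he'), map_mul, ordAt_mul hδ x ξ h.1 h.2 ha hb]
  · simp

include hδ in
theorem c1Cap_tensor (hL : PicF.IsInvertible L) (hN : PicF.IsInvertible N)
    (hT : PicF.IsInvertible (CohB1.tensorMod L N)) (k : ℤ) (α : AlgebraicCycle X ℤ)
    (hα : α ∈ Cyc.Zk X δ (k + 1)) (sL : (ξ : X) → Cyc.secFibre L ξ) (hsL : ∀ ξ, sL ξ ≠ 0)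
    (sN : (ξ : X) → Cyc.secFibre N ξ) (hsN : ∀ ξ, sN ξ ≠ 0)
    (sT : (ξ : X) → Cyc.secFibre (CohB1.tensorMod L N) ξ) (hsT : ∀ ξ, sT ξ ≠ 0)
    (γL γN γT : AlgebraicCycle X ℤ) (hγL : ⇑γL = Cyc.c1CapFun δ L ⇑α sL) (hγN : ⇑γN = Cyc.c1CapFun δ N ⇑α sN)
    (hγT : ⇑γT = Cyc.c1CapFun δ (CohB1.tensorMod L N) ⇑α sT) : Cyc.RatEquiv δ k (γL + γN) γT := by
  choose p hp using fun ξ => Submodule.Quotient.mk_surjective _ (sL ξ)
  choose q hq using fun ξ => Submodule.Quotient.mk_surjective _ (sN ξ)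
  refine c1Cap_ratEquiv δ hδ hT k α hα (fun ξ => mk _ (tp L N (p ξ) (q ξ))) sT (fun ξ h0 => ?_) hsT _ _ ?_ hγT
  · obtain ⟨e, he⟩ := exists_isGen hL ξ
    obtain ⟨e', he'⟩ := exists_isGen hN ξ
    obtain ⟨a, ha⟩ := he.exists_smul (p ξ)
    obtain ⟨b, hb⟩ := he'.exists_smul (q ξ)
    rw [← ha, ← hb, tp_smul, mk_smul_eq_zero_iff hT (isGen_tp L N he he'), map_mul, mul_eq_zero] at h0
    rcases h0 with h0 | h0
    · exact hsL ξ (by rw [← hp ξ, ← ha]; exact (mk_smul_eq_zero_iff hL he a).2 h0)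
    · exact hsN ξ (by rw [← hq ξ, ← hb]; exact (mk_smul_eq_zero_iff hN he' b).2 h0)
  · funext x
    rw [Function.locallyFinsuppWithin.coe_add, Pi.add_apply, hγL, hγN, c1CapFun_eq_sum, c1CapFun_eq_sum,
      c1CapFun_eq_sum, ← Finset.sum_add_distrib]
    refine Finset.sum_congr rfl fun ξ _ => ?_
    rw [secDivFun_tp hδ hL hN hT (p ξ) (q ξ) (fun h => hsL ξ ((hp ξ).symm.trans h))
      (fun h => hsN ξ ((hq ξ).symm.trans h)), ← hp ξ, ← hq ξ, mul_add]

end Groth.L22.C1
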