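import Groth.Agent.L22.C1.Local

/-!
Locally finite families of caps, and the sections used for Gysin maps.
-/

set_option autoImplicit false
set_option linter.style.haveILetI false
set_option backward.isDefEq.respectTransparency false

universe u

open CategoryTheory AlgebraicGeometry TopologicalSpace

noncomputable section

namespace Groth.L22.C1

variable {X : Scheme.{u}}

/-- The cap with a locally finite sum is the sum of the caps. -/
theorem c1CapFun_family {L : X.Modules} {δ : X → ℤ} {I : Type u} (p : I → X)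
    (hloc : ∀ x : X, ∃ U : Set X, IsOpen U ∧ x ∈ U ∧ {i | (closure {p i} ∩ U).Nonempty}.Finite)
    (G : I → AlgebraicCycle X ℤ) (hG : ∀ i ξ, G i ξ ≠ 0 → p i ⤳ ξ) (F : X → ℤ)
    (hF : ∀ ξ, F ξ = ∑ᶠ i, G i ξ) (s : (ξ : X) → Cyc.secFibre L ξ) (x : X) :
    Cyc.c1CapFun δ L F s x = ∑ᶠ i, Cyc.c1CapFun δ L ⇑(G i) s x := by
  classical
  obtain ⟨U, hU, hxU, hfin⟩ := hloc x
  set I₀ := hfin.toFinset with hI
  set S := I₀.biUnion fun i => (finite_gen (G i) x).toFinset with hS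
  have hmem : ∀ {i ξ}, ξ ⤳ x → G i ξ ≠ 0 → i ∈ I₀ ∧ ξ ∈ S := fun {i ξ} h1 h2 => by
    have hi : i ∈ I₀ := hfin.mem_toFinset.2 ⟨x, specializes_iff_mem_closure.1 ((hG i ξ h2).trans h1), hxU⟩
    exact ⟨hi, Finset.mem_biUnion.2 ⟨i, hi, (Set.Finite.mem_toFinset _).2 ⟨h1, h2⟩⟩⟩
  have hG' : ∀ ξ, ξ ⤳ x → F ξ = ∑ i ∈ I₀, G i ξ := fun ξ h => by
    rw [hF ξ]
    exact finsum_eq_sum_of_support_subset _ fun i hi => Finset.mem_coe.2 (hmem h hi).1
  have h1 : Cyc.c1CapFun δ L F s x = ∑ ξ ∈ S, F ξ * Cyc.secDivFun δ L ξ (s ξ) x :=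
    finsum_eq_sum_of_support_subset _ fun ξ hξ => by
      obtain ⟨h1, h2⟩ := mul_ne_zero_iff.1 hξ
      have hsp := (secDivFun_ne_zero δ h2).1
      obtain ⟨i, -, hi⟩ := Finset.exists_ne_zero_of_sum_ne_zero (hG' ξ hsp ▸ h1)
      exact Finset.mem_coe.2 (hmem hsp hi).2
  have h2 : ∀ i, Cyc.c1CapFun δ L ⇑(G i) s x = ∑ ξ ∈ S, G i ξ * Cyc.secDivFun δ L ξ (s ξ) x := fun i =>
    finsum_eq_sum_of_support_subset _ fun ξ hξ => by
      obtain ⟨h1, h2⟩ := mul_ne_zero_iff.1 hξ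
      exact Finset.mem_coe.2 (hmem (secDivFun_ne_zero δ h2).1 h1).2
  have hS' : ∀ ξ ∈ S, ξ ⤳ x := fun ξ hξ => by
    obtain ⟨i, -, hi⟩ := Finset.mem_biUnion.1 hξ
    exact ((Set.Finite.mem_toFinset _).1 hi).1
  rw [h1, finsum_congr h2, finsum_eq_sum_of_support_subset _ (s := I₀) fun i hi => by
    obtain ⟨ξ, hξS, hξ⟩ := Finset.exists_ne_zero_of_sum_ne_zero hi
    exact Finset.mem_coe.2 (hmem (hS' ξ hξS) (left_ne_zero_of_mul hξ)).1, Finset.sum_comm]
  exact Finset.sum_congr rfl fun ξ hξ => by rw [hG' ξ (hS' ξ hξ), Finset.sum_mul]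

/-- The cap is homogeneous. -/
theorem c1CapFun_const_mul {L : X.Modules} {δ : X → ℤ} (m : ℤ) (F : X → ℤ) (s : (ξ : X) → Cyc.secFibre L ξ)
    (x : X) : Cyc.c1CapFun δ L (fun ξ => m * F ξ) s x = m * Cyc.c1CapFun δ L F s x := by
  show (∑ᶠ ξ, m * F ξ * _) = m * ∑ᶠ ξ, F ξ * _
  rw [mul_finsum]
  exact finsum_congr fun ξ => mul_assoc _ _ _

variable [IsLocallyNoetherian X]

/-- The points of a cycle, with the locally finite property. -/
theorem cycle_loc (α : AlgebraicCycle X ℤ) (x : X) : ∃ U : Set X, IsOpen U ∧ x ∈ U ∧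
    {i : {p : X // α p ≠ 0} | (closure {i.1} ∩ U).Nonempty}.Finite := by
  obtain ⟨V, hV, hxV, -⟩ := exists_isAffineOpen_mem_and_subset (x := x) (U := ⊤) trivial
  refine ⟨V, V.2, hxV, ((α.locallyFiniteSupport.finite_inter_support_of_isCompact hV.isCompact).preimage
    Subtype.val_injective.injOn).subset fun i hi => ?_⟩
  obtain ⟨z, hz, hzU⟩ := hi
  exact ⟨(specializes_iff_mem_closure.2 hz).mem_open V.2 hzU, i.2⟩

/-- A cap as a locally finite sum over the points of the cycle. -/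
theorem c1CapFun_eq_finsum (δ : X → ℤ) (α : AlgebraicCycle X ℤ) {L : X.Modules}
    (s : (ξ : X) → Cyc.secFibre L ξ) (x : X) :
    Cyc.c1CapFun δ L ⇑α s x = ∑ᶠ i : {p : X // α p ≠ 0}, α i.1 * Cyc.secDivFun δ L i.1 (s i.1) x := by
  rw [finsum_subtype_eq_finsum_cond (f := fun ξ => α ξ * Cyc.secDivFun δ L ξ (s ξ) x) (fun p => α p ≠ 0)]
  exact (finsum_mem_eq_of_support_subset_aux (fun ξ => α ξ * Cyc.secDivFun δ L ξ (s ξ) x)
    (fun ξ hξ => left_ne_zero_of_mul hξ)).symm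
where
  finsum_mem_eq_of_support_subset_aux {S : Set X} (f : X → ℤ) (h : Function.support f ⊆ S) :
      (∑ᶠ x ∈ S, f x) = ∑ᶠ x, f x := by
    rw [finsum_mem_def, Set.indicator_eq_self.2 h]

variable {δ : X → ℤ} (hδ : Cyc.IsDimFun X δ)

include hδ in
/-- The cap with a cycle built from sections of a second module. -/
theorem c1Cap_c1Cap_eq {L N : X.Modules} (hN : PicF.IsInvertible N) (α : AlgebraicCycle X ℤ)
    (v : (ξ : X) → Cyc.secFibre N ξ) (hv : ∀ ξ, v ξ ≠ 0) (s : (ξ : X) → Cyc.secFibre L ξ) (x : X) :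
    Cyc.c1CapFun δ L (Cyc.c1CapFun δ N ⇑α v) s x =
      ∑ᶠ i : {p : X // α p ≠ 0}, α i.1 * Cyc.c1CapFun δ L (Cyc.secDivFun δ N i.1 (v i.1)) s x := by
  have hG : ∀ i : {p : X // α p ≠ 0}, ∃ G : AlgebraicCycle X ℤ,
      ⇑G = fun ξ => α i.1 * Cyc.secDivFun δ N i.1 (v i.1) ξ := fun i => exists_cycle _ fun z => by
    obtain ⟨U, e, hzU, he⟩ := Groth.L18.Frame.exists_frame hN z
    obtain ⟨V, hV, hzV, hVU⟩ := exists_isAffineOpen_mem_and_subset (x := z) (U := U) hzU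
    exact ⟨V, hzV, (finite_support_secDivFun_inter hδ hN he hV hVU _ _ (hv i.1)).subset fun w hw =>
      ⟨right_ne_zero_of_mul hw.1, hw.2⟩⟩
  choose G hG using hG
  rw [c1CapFun_family (fun i : {p : X // α p ≠ 0} => i.1) (cycle_loc α) G (fun i ξ h => by
      rw [hG i] at h
      exact (secDivFun_ne_zero δ (right_ne_zero_of_mul h)).1) _ (fun ξ => by
      rw [c1CapFun_eq_finsum δ α v ξ]
      exact finsum_congr fun i => by rw [hG i]) s x]
  exact finsum_congr fun i => by rw [hG i, c1CapFun_const_mul]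

end Groth.L22.C1

namespace Groth.L22.C1

variable {X : Scheme.{u}} {L : X.Modules} (s : L.presheaf.obj (Opposite.op ⊤))

theorem gysinChoice_ne_zero (w : (ξ : X) → Cyc.secFibre L ξ) (hw : ∀ ξ, w ξ ≠ 0) (ξ : X) :
    Cyc.gysinChoice L s w ξ ≠ 0 := by
  unfold Cyc.gysinChoice
  split_ifs with h
  · exact h
  · exact hw ξ

theorem isGen_of_mk_ne_zero (hL : PicF.IsInvertible L) {ξ : X} {v : L.presheaf.stalk ξ} (h : mk L v ≠ 0) :
    IsGen L v := by
  obtain ⟨e, he⟩ := exists_isGen hL ξ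
  obtain ⟨a, rfl⟩ := he.exists_smul v
  exact he.of_isUnit ((Groth.L22.Cyc.isUnit_iff_residue_ne_zero ξ a).2 fun h0 =>
    h ((mk_smul_eq_zero_iff hL he a).2 h0))

variable {D : Scheme.{u}} (i : D ⟶ X) [IsClosedImmersion i]

/-- Away from the zero scheme the Gysin section is a generator, compatibly with generization. -/
theorem gysinChoice_spec (hL : PicF.IsInvertible L) (hD : Cyc.IsZeroSchemeOf i L s)
    (w : (ξ : X) → Cyc.secFibre L ξ) {p ξ : X} (h : p ⤳ ξ) (hξ : ξ ∉ Set.range i) :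
    ∃ e : L.presheaf.stalk ξ, IsGen L e ∧ Cyc.gysinChoice L s w ξ = mk L e ∧
      Cyc.gysinChoice L s w p = mk L (L.presheaf.stalkSpecializes h e) := by
  have hp : p ∉ Set.range i := fun hp => hξ (h.mem_closed i.isClosedEmbedding.isClosed_range hp)
  have hne : ∀ {z : X}, z ∉ Set.range i → mk L (L.presheaf.germ ⊤ z trivial s) ≠ 0 := fun hz h0 => hz (hD.1.ge h0)
  refine ⟨L.presheaf.germ ⊤ ξ trivial s, isGen_of_mk_ne_zero hL (hne hξ), if_pos (hne hξ), ?_⟩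
  rw [TopCat.Presheaf.germ_stalkSpecializes_apply]
  exact if_pos (hne hp)

variable [IsLocallyNoetherian X] {δ : X → ℤ} (hδ : Cyc.IsDimFun X δ)

include hδ in
theorem secDivFun_gysin_eq_zero (hL : PicF.IsInvertible L) (hD : Cyc.IsZeroSchemeOf i L s)
    (w : (ξ : X) → Cyc.secFibre L ξ) (p : X) {ξ : X} (hξ : ξ ∉ Set.range i) :
    Cyc.secDivFun δ L p (Cyc.gysinChoice L s w p) ξ = 0 := by
  unfold Cyc.secDivFun
  split_ifs with h
  · obtain ⟨e, he, -, h2⟩ := gysinChoice_spec s i hL hD w h.1 hξ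
    rw [h2, ← one_smul (X.presheaf.stalk p) (mk L (L.presheaf.stalkSpecializes h.1 e)),
      secOrdAt_gen hδ hL h.1 h.2 he 1, map_one]
    have h3 := Groth.L22.Cyc.ordAt_of_isUnit hδ ξ p h.1 h.2 (a := 1) isUnit_one
    rwa [map_one] at h3
  · rfl

end Groth.L22.C1
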