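import Groth.Agent.L22.C1.ZeroSection

/-!
The divisor of a global section on an integral scheme.
-/

set_option autoImplicit false
set_option linter.style.haveILetI false
set_option backward.isDefEq.respectTransparency false

universe u

open CategoryTheory AlgebraicGeometry TopologicalSpace

noncomputable section

namespace Groth.L22.C1

variable {X : Scheme.{u}} {L : X.Modules} [IsLocallyNoetherian X] [IsIntegral X] {δ : X → ℤ}
  (hδ : Cyc.IsDimFun X δ) (hL : PicF.IsInvertible L)

include hδ in
theorem delta_lt_generic {y : X} (hy : y ≠ genericPoint X) : δ y < δ (genericPoint X) :=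
  (hδ _ y (Groth.L22.Cyc.genericPoint_specializes' y) (Ne.symm hy)).1

include hδ hL in
theorem secDivFun_generic (n : ℤ) (hn : δ (genericPoint X) = n) (s : L.presheaf.obj (Opposite.op ⊤))
    (hs : L.presheaf.germ ⊤ (genericPoint X) trivial s ≠ 0) :
    Cyc.secDivFun δ L (genericPoint X) (mk L (L.presheaf.germ ⊤ (genericPoint X) trivial s)) =
      Cyc.zeroSectionFun δ (n - 1) L s := by
  classical
  have hdim : ∀ y : X, δ y ≤ (n - 1) + 1 := fun y => by
    by_cases hy : y = genericPoint X
    · rw [hy]; omega
    · have := delta_lt_generic hδ hy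
      omega
  rw [zeroSectionFun_eq hδ hL (n - 1) hdim s (fun y h0 => ?_) fun y _ => ?_]
  · funext x
    refine ((finsum_eq_single (fun ξ => Cyc.subschemeFun δ (n - 1 + 1) (𝟙 X) ξ *
      Cyc.secDivFun δ L ξ (mk L (L.presheaf.germ ⊤ ξ trivial s)) x) (genericPoint X) fun ξ hξ => ?_).trans ?_).symm
    · rw [subschemeFun_id, if_neg (by have := delta_lt_generic hδ hξ; omega), zero_mul]
    · rw [subschemeFun_id, if_pos (by omega)]
      letI : Field (X.presheaf.stalk (genericPoint X)) := inferInstanceAs (Field X.functionField)
      rw [Module.length_eq_one (X.presheaf.stalk (genericPoint X)) (X.presheaf.stalk (genericPoint X))]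
      simp
  · by_cases hy : y = genericPoint X
    · subst hy
      exact absurd ((Groth.L15.SecOrd.mk_bijective L).1 (h0.trans (Submodule.Quotient.mk_zero _).symm)) hs
    · have := delta_lt_generic hδ hy
      omega
  · obtain ⟨t, ht⟩ := exists_isGen hL y
    obtain ⟨f, hf⟩ := ht.exists_smul (L.presheaf.germ ⊤ y trivial s)
    have hf0 : f ≠ 0 := by
      rintro rfl
      rw [zero_smul] at hf
      refine hs ?_
      rw [← TopCat.Presheaf.germ_stalkSpecializes_apply L.presheaf (U := ⊤) (y := y) trivial
        (Groth.L22.Cyc.genericPoint_specializes' y) s, ← hf, map_zero]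
    intro a b hab
    refine mul_right_cancel₀ hf0 (ht.injective hL ?_)
    show (a * f) • t = (b * f) • t
    rw [mul_smul, mul_smul, hf]
    exact hab

end Groth.L22.C1
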