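import Groth.Agent.L22.C1.Pull
import Groth.Agent.L22.Cyc.ClosedSub
import Groth.Agent.L22.Cyc.FlatRat
import Groth.Agent.L18.AmplePull

/-!
Rational equivalence with the rational functions supported on a given closed set.
-/

set_option autoImplicit false
set_option linter.style.haveILetI false
set_option backward.isDefEq.respectTransparency false

universe u

open CategoryTheory AlgebraicGeometry TopologicalSpace

noncomputable section

namespace Groth.L22.C1

variable {X : Scheme.{u}}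

/-- A function on points is a locally finite sum of divisors of rational functions living on points of `S`. -/
def RatOn (δ : X → ℤ) (k : ℤ) (S : Set X) (G : X → ℤ) : Prop :=
  ∃ (ι : Type u) (ξ : ι → X) (f : (i : ι) → X.residueField (ξ i)),
    (∀ i, δ (ξ i) = k + 1) ∧ (∀ i, f i ≠ 0) ∧ (∀ i, ξ i ∈ S) ∧
    (∀ x : X, ∃ U : Set X, IsOpen U ∧ x ∈ U ∧ {i | (closure {ξ i} ∩ U).Nonempty}.Finite) ∧
    ∀ x : X, G x = ∑ᶠ i, Cyc.divFun δ (ξ i) (f i) x

variable {δ : X → ℤ} {k : ℤ} {S T : Set X} {G H : X → ℤ}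

theorem divFun_ne_zero {ξ x : X} {g : X.residueField ξ} (h : Cyc.divFun δ ξ g x ≠ 0) :
    ξ ⤳ x ∧ δ x + 1 = δ ξ := by
  unfold Cyc.divFun at h
  split_ifs at h with h'
  · exact h'
  · exact absurd rfl h

theorem finite_support_family {ι : Type u} (ξ : ι → X) (f : (i : ι) → X.residueField (ξ i)) (x : X)
    (hloc : ∀ x : X, ∃ U : Set X, IsOpen U ∧ x ∈ U ∧ {i | (closure {ξ i} ∩ U).Nonempty}.Finite) :
    (Function.support fun i => Cyc.divFun δ (ξ i) (f i) x).Finite := by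
  obtain ⟨U, hU, hxU, hfin⟩ := hloc x
  exact hfin.subset fun i hi => ⟨x, specializes_iff_mem_closure.1 (divFun_ne_zero hi).1, hxU⟩

theorem RatOn.ratEquivZero (h : RatOn δ k S G) (γ : AlgebraicCycle X ℤ) (hγ : ⇑γ = G) :
    Cyc.RatEquivZero δ k γ := by
  obtain ⟨ι, ξ, f, h1, h2, -, h4, h5⟩ := h
  exact ⟨ι, ξ, f, h1, h2, h4, fun x => by rw [hγ, h5 x]⟩

theorem ratOn_univ {γ : AlgebraicCycle X ℤ} (h : Cyc.RatEquivZero δ k γ) : RatOn δ k Set.univ ⇑γ := by
  obtain ⟨ι, ξ, f, h1, h2, h4, h5⟩ := h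
  exact ⟨ι, ξ, f, h1, h2, fun _ => trivial, h4, h5⟩

theorem RatOn.mono (h : RatOn δ k S G) (hST : S ⊆ T) : RatOn δ k T G := by
  obtain ⟨ι, ξ, f, h1, h2, h3, h4, h5⟩ := h
  exact ⟨ι, ξ, f, h1, h2, fun i => hST (h3 i), h4, h5⟩

theorem RatOn.congr (h : RatOn δ k S G) (hGH : ∀ x, H x = G x) : RatOn δ k S H := by
  obtain ⟨ι, ξ, f, h1, h2, h3, h4, h5⟩ := h
  exact ⟨ι, ξ, f, h1, h2, h3, h4, fun x => (hGH x).trans (h5 x)⟩

theorem ratOn_zero (hG : ∀ x, G x = 0) : RatOn δ k S G :=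
  ⟨PEmpty, fun i => i.elim, fun i => i.elim, fun i => i.elim, fun i => i.elim, fun i => i.elim,
    fun _ => ⟨Set.univ, isOpen_univ, trivial, Set.toFinite _⟩,
    fun x => by rw [hG x, finsum_of_isEmpty]⟩

theorem RatOn.eq_zero_of_notMem (h : RatOn δ k S G) (hS : IsClosed S) {x : X} (hx : x ∉ S) : G x = 0 := by
  obtain ⟨ι, ξ, f, -, -, h3, -, h5⟩ := h
  rw [h5 x]
  refine finsum_eq_zero_of_forall_eq_zero fun i => ?_
  by_contra h0
  exact hx ((divFun_ne_zero h0).1.mem_closed hS (h3 i))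

theorem RatOn.add (hG : RatOn δ k S G) (hH : RatOn δ k S H) : RatOn δ k S (G + H) := by
  obtain ⟨ι, ξ, f, h1, h2, hm, h3, h4⟩ := hG
  obtain ⟨ι', ξ', f', h1', h2', hm', h3', h4'⟩ := hH
  refine ⟨ι ⊕ ι', Sum.elim ξ ξ', fun i => match i with | .inl i => f i | .inr i => f' i,
    ?_, ?_, ?_, fun x => ?_, fun x => ?_⟩
  · rintro (i | i) <;> simp [h1, h1']
  · rintro (i | i)
    · exact h2 i
    · exact h2' i
  · rintro (i | i)
    · exact hm i
    · exact hm' i
  · obtain ⟨U, hU, hxU, hfin⟩ := h3 x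
    obtain ⟨U', hU', hxU', hfin'⟩ := h3' x
    refine ⟨U ∩ U', hU.inter hU', ⟨hxU, hxU'⟩,
      ((hfin.image Sum.inl).union (hfin'.image Sum.inr)).subset ?_⟩
    rintro (i | i) ⟨z, hz, hzU, hzU'⟩
    · exact Or.inl ⟨i, ⟨z, hz, hzU⟩, rfl⟩
    · exact Or.inr ⟨i, ⟨z, hz, hzU'⟩, rfl⟩
  · have e1 := finite_support_family (δ := δ) ξ f x h3
    have e2 := finite_support_family (δ := δ) ξ' f' x h3'
    rw [Pi.add_apply, h4 x, h4' x]
    have hA : ((Function.support fun i : ι ⊕ ι' => Cyc.divFun δ (Sum.elim ξ ξ' i)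
        (match i with | .inl i => f i | .inr i => f' i) x)) ⊆
        ↑(e1.toFinset.disjSum e2.toFinset) := by
      rintro (i | i) hi
      · exact Finset.mem_coe.2 (Finset.inl_mem_disjSum.2 (e1.mem_toFinset.2 hi))
      · exact Finset.mem_coe.2 (Finset.inr_mem_disjSum.2 (e2.mem_toFinset.2 hi))
    rw [finsum_eq_sum_of_support_subset _ hA, Finset.sum_disjSum,
      finsum_eq_sum_of_support_subset _ (e1.coe_toFinset.symm.subset),
      finsum_eq_sum_of_support_subset _ (e2.coe_toFinset.symm.subset)]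
    rfl

variable [IsLocallyNoetherian X] (hδ : Cyc.IsDimFun X δ)

include hδ in
theorem RatOn.zsmul (h : RatOn δ k S G) (m : ℤ) : RatOn δ k S (fun x => m * G x) := by
  obtain ⟨ι, ξ, f, h1, h2, h3, h4, h5⟩ := h
  refine ⟨ι, ξ, fun i => f i ^ m, h1, fun i => zpow_ne_zero _ (h2 i), h3, h4, fun x => ?_⟩
  show m * G x = ∑ᶠ i, Cyc.divFun δ (ξ i) (f i ^ m) x
  rw [h5 x, finsum_congr fun i => divFun_zpow hδ (ξ i) (h2 i) x m,
    mul_finsum' _ _ (finite_support_family ξ f x h4)]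

include hδ in
theorem RatOn.sub (hG : RatOn δ k S G) (hH : RatOn δ k S H) : RatOn δ k S (fun x => G x - H x) :=
  (hG.add (hH.zsmul hδ (-1))).congr fun x => by simp [sub_eq_add_neg]

include hδ in
/-- Integral combinations of principal divisors on the components of a cycle. -/
theorem ratOn_of_sum (k : ℤ) (α : AlgebraicCycle X ℤ) (hα : α ∈ Cyc.Zk X δ (k + 1))
    (hS : ∀ ξ, α ξ ≠ 0 → ξ ∈ S) (g : (ξ : X) → X.residueField ξ) (hg : ∀ ξ, g ξ ≠ 0)
    (hG : ∀ x, G x = ∑ ξ ∈ (finite_gen α x).toFinset, α ξ * Cyc.divFun δ ξ (g ξ) x) :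
    RatOn δ k S G := by
  refine ⟨{ξ : X // α ξ ≠ 0}, fun i => i.1, fun i => g i.1 ^ α i.1, fun i => ?_,
    fun i => zpow_ne_zero _ (hg _), fun i => hS _ i.2, fun x => ?_, fun x => ?_⟩
  · by_contra h
    exact i.2 (hα i.1 h)
  · obtain ⟨_, ⟨U, hU, rfl⟩, hxU, -⟩ :=
      X.isBasis_affineOpens.exists_subset_of_mem_open (Set.mem_univ x) isOpen_univ
    refine ⟨U, U.2, hxU, ?_⟩
    refine ((α.locallyFiniteSupport.finite_inter_support_of_isCompact hU.isCompact).preimage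
      Subtype.val_injective.injOn).subset fun i hi => ?_
    obtain ⟨z, hz, hzU⟩ := hi
    exact ⟨(specializes_iff_mem_closure.2 hz).mem_open U.2 hzU, i.2⟩
  · rw [hG x]
    refine Eq.symm ((finsum_congr fun i : {ξ : X // α ξ ≠ 0} => divFun_zpow hδ i.1 (hg _) x _).trans ?_)
    refine (finsum_subtype_eq_finsum_cond (f := fun ξ => α ξ * Cyc.divFun δ ξ (g ξ) x) (fun ξ => α ξ ≠ 0)).trans ?_
    refine finsum_cond_eq_sum_of_cond_iff _ fun {ξ} hξ => ?_
    rw [Set.Finite.mem_toFinset]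
    exact ⟨fun h => ⟨(divFun_ne_zero (right_ne_zero_of_mul hξ)).1, h⟩, fun h => h.2⟩

omit [IsLocallyNoetherian X] in
/-- A locally finite family of rational equivalences, each on the closure of its point. -/
theorem ratOn_of_family {I : Type u} (ξ : I → X)
    (hloc : ∀ x : X, ∃ U : Set X, IsOpen U ∧ x ∈ U ∧ {i | (closure {ξ i} ∩ U).Nonempty}.Finite)
    (G : I → X → ℤ) (hG : ∀ i, RatOn δ k (closure {ξ i} ∩ S) (G i)) :
    RatOn δ k S (fun x => ∑ᶠ i, G i x) := by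
  choose J ζ f h1 h2 h3 h4 h5 using hG
  have hlf : ∀ x : X, ∃ U : Set X, IsOpen U ∧ x ∈ U ∧
      {a : Σ i, J i | (closure {ζ a.1 a.2} ∩ U).Nonempty}.Finite := fun x => by
    obtain ⟨U, hU, hxU, hfin⟩ := hloc x
    choose V hV hxV hVfin using fun i => h4 i x
    refine ⟨U ∩ ⋂ i ∈ hfin.toFinset, V i, hU.inter (isOpen_biInter_finset fun i _ => hV i),
      ⟨hxU, Set.mem_iInter₂.2 fun i _ => hxV i⟩,
      (hfin.biUnion fun i _ => (hVfin i).image (Sigma.mk i)).subset ?_⟩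
    rintro ⟨i, j⟩ ⟨z, hz, hzU, hzV⟩
    have hi : (closure {ξ i} ∩ U).Nonempty :=
      ⟨z, closure_minimal (Set.singleton_subset_iff.2 (h3 i j).1) isClosed_closure hz, hzU⟩
    exact Set.mem_biUnion (x := i) hi
      ⟨j, ⟨z, hz, Set.mem_iInter₂.1 hzV i (hfin.mem_toFinset.2 hi)⟩, rfl⟩
  refine ⟨Σ i, J i, fun a => ζ a.1 a.2, fun a => f a.1 a.2, fun a => h1 a.1 a.2, fun a => h2 a.1 a.2,
    fun a => (h3 a.1 a.2).2, hlf, fun x => ?_⟩
  rw [Groth.L22.Cyc.finsum_sigma_of_finite _ (finite_support_family _ _ x hlf)]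
  exact finsum_congr fun i => h5 i x

end Groth.L22.C1

namespace Groth.L22.C1

variable {X W : Scheme.{u}} (i : W ⟶ X) [IsClosedImmersion i] [IsLocallyNoetherian X] [IsLocallyNoetherian W]
  {δ : X → ℤ} (hδ : Cyc.IsDimFun X δ) {k : ℤ} {S : Set X} {G : X → ℤ}

include hδ in
/-- Push a rational equivalence forward along a closed immersion. -/
theorem RatOn.map {S' : Set W} {H : W → ℤ} (h : RatOn (fun w => δ (i w)) k S' H) (hS : ∀ w ∈ S', i w ∈ S)
    (hG : ∀ w, G (i w) = H w) (hG0 : ∀ x, x ∉ Set.range i → G x = 0) : RatOn δ k S G := by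
  obtain ⟨ι, ξ, f, h1, h2, h3, h4, h5⟩ := h
  choose g hg using fun j => (Groth.L22.Cyc.residueFieldMap_bijective' i (ξ j)).2 (f j)
  have hg0 : ∀ j, g j ≠ 0 := fun j h0 => h2 j (by rw [← hg j, h0]; exact map_zero _)
  refine ⟨ι, fun j => i (ξ j), g, h1, hg0, fun j => hS _ (h3 j), fun x => ?_, fun x => ?_⟩
  · by_cases hx : x ∈ Set.range i
    · obtain ⟨w, rfl⟩ := hx
      obtain ⟨U, hU, hwU, hfin⟩ := h4 w
      obtain ⟨V, hV, rfl⟩ := i.isClosedEmbedding.isInducing.isOpen_iff.1 hU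
      refine ⟨V, hV, hwU, hfin.subset fun j hj => ?_⟩
      obtain ⟨z, hz, hzV⟩ := hj
      have hjV : i (ξ j) ∈ V := (specializes_iff_mem_closure.2 hz).mem_open hV hzV
      exact ⟨ξ j, subset_closure rfl, hjV⟩
    · refine ⟨(Set.range i)ᶜ, i.isClosedEmbedding.isClosed_range.isOpen_compl, hx,
        Set.finite_empty.subset fun j hj => ?_⟩
      obtain ⟨z, hz, hzV⟩ := hj
      exact hzV (closure_minimal (by simp) i.isClosedEmbedding.isClosed_range hz)
  · by_cases hx : x ∈ Set.range i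
    · obtain ⟨w, rfl⟩ := hx
      rw [hG w, h5 w]
      refine finsum_congr fun j => ?_
      rw [← hg j]
      exact Groth.L22.Cyc.divFun_closedImmersion i hδ (ξ j) (g j) (hg0 j) w
    · rw [hG0 x hx]
      exact (finsum_eq_zero_of_forall_eq_zero fun j =>
        Groth.L22.Cyc.divFun_eq_zero_of_notMem_range i (ξ j) (g j) hx).symm

include hδ in
/-- Pull a rational equivalence living on a closed subscheme back to it. -/
theorem RatOn.comap (h : RatOn δ k S G) (hS : S ⊆ Set.range i) (γ : AlgebraicCycle W ℤ)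
    (hγ : ∀ w, γ w = G (i w)) : Cyc.RatEquivZero (fun w => δ (i w)) k γ := by
  obtain ⟨ι, ξ, f, h1, h2, h3, h4, h5⟩ := h
  choose z hz using fun j => hS (h3 j)
  refine ⟨ι, z, fun j => i.residueFieldMap (z j) ((X.residueFieldCongr (hz j).symm).hom (f j)),
    fun j => by show δ (i (z j)) = _; rw [hz j, h1 j],
    fun j => (map_ne_zero _).2 (Groth.L22.Cyc.residueFieldCongr_ne_zero _ (h2 j)), fun w => ?_, fun w => ?_⟩
  · obtain ⟨U, hU, hwU, hfin⟩ := h4 (i w)
    refine ⟨i ⁻¹' U, hU.preimage i.continuous, hwU, hfin.subset fun j hj => ?_⟩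
    obtain ⟨y, hy, hyU⟩ := hj
    refine ⟨i y, ?_, hyU⟩
    rw [← hz j]
    exact specializes_iff_mem_closure.1 ((specializes_iff_mem_closure.2 hy).map i.continuous)
  · rw [hγ w, h5 (i w)]
    refine finsum_congr fun j => ?_
    rw [Groth.L22.Cyc.divFun_closedImmersion i hδ (z j) _
        (Groth.L22.Cyc.residueFieldCongr_ne_zero _ (h2 j)) w,
      Groth.L22.Cyc.divFun_congr]

variable {L : X.Modules} (hL : PicF.IsInvertible L)

include hδ hL in
/-- The divisor of a section on a closed subscheme. -/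
theorem secDivFun_pullSec (v : (ξ : X) → Cyc.secFibre L ξ) (ξ w : W) (hv : v (i ξ) ≠ 0) :
    Cyc.secDivFun (fun w => δ (i w)) ((Scheme.Modules.pullback i).obj L) ξ (pullSec i v ξ) w =
      Cyc.secDivFun δ L (i ξ) (v (i ξ)) (i w) := by
  obtain ⟨g, hg, hY, hX⟩ := exists_local_fun i (δX := fun w => δ (i w))
    (Groth.L22.Cyc.isDimFun_closedImmersion i hδ) hδ hL (Groth.L18.Ample.isInvertible_pullback i hL) v (i ξ) (i w) hv
  rw [hY, hX w rfl ξ rfl, Scheme.residueFieldCongr_refl]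
  exact Groth.L22.Cyc.divFun_closedImmersion i hδ ξ g hg w

omit [IsClosedImmersion i] [IsLocallyNoetherian X] [IsLocallyNoetherian W] in
theorem finsum_eq_finsum_range {M : Type*} [AddCommMonoid M] (f : X → M) (hi : Function.Injective i)
    (hf : ∀ x, x ∉ Set.range i → f x = 0) : ∑ᶠ x, f x = ∑ᶠ w, f (i w) := by
  rw [← finsum_mem_range hi, finsum_mem_def, Set.indicator_eq_self.2]
  exact fun x h => by_contra fun hx => h (hf x hx)

include hδ hL in
/-- The cap on a closed subscheme. -/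
theorem c1CapFun_closedImmersion (F : X → ℤ) (hF : ∀ x, x ∉ Set.range i → F x = 0)
    (v : (ξ : X) → Cyc.secFibre L ξ) (hv : ∀ ξ, v ξ ≠ 0) (w : W) :
    Cyc.c1CapFun δ L F v (i w) =
      Cyc.c1CapFun (fun w => δ (i w)) ((Scheme.Modules.pullback i).obj L) (fun z => F (i z)) (pullSec i v) w := by
  refine (finsum_eq_finsum_range i (fun ξ => F ξ * Cyc.secDivFun δ L ξ (v ξ) (i w))
    i.isClosedEmbedding.injective fun x hx => by rw [hF x hx, zero_mul]).trans (finsum_congr fun ξ => ?_)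
  rw [secDivFun_pullSec i hδ hL v ξ w (hv _)]

omit [IsLocallyNoetherian X] [IsLocallyNoetherian W] in
theorem c1CapFun_eq_zero_of_notMem (F : X → ℤ) (hF : ∀ x, x ∉ Set.range i → F x = 0)
    (v : (ξ : X) → Cyc.secFibre L ξ) {x : X} (hx : x ∉ Set.range i) : Cyc.c1CapFun δ L F v x = 0 := by
  refine finsum_eq_zero_of_forall_eq_zero fun ξ => ?_
  by_contra h
  obtain ⟨h1, h2⟩ := mul_ne_zero_iff.1 h
  by_cases hξ : ξ ∈ Set.range i
  · exact hx ((secDivFun_ne_zero δ h2).1.mem_closed i.isClosedEmbedding.isClosed_range hξ)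
  · exact h1 (hF ξ hξ)

end Groth.L22.C1
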