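import Groth.Agent.L22.C1.GenRep
import Groth.Agent.L22.C1.RatOn
import Groth.Agent.L22.C1.Integral
import Groth.Agent.L15.Key.Reps

/-!
The key formula: the two ways of intersecting the divisors of two rational sections agree up to the
divisors of tame symbols.
-/

set_option autoImplicit false
set_option linter.style.haveILetI false
set_option backward.isDefEq.respectTransparency false

universe u

open CategoryTheory AlgebraicGeometry TopologicalSpace

noncomputable section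

namespace Groth.L22.C1

variable {X : Scheme.{u}} {δ : X → ℤ}

/-- The families of two rational equivalences can be combined. -/
theorem ratEquivZero_add [IsLocallyNoetherian X] (k : ℤ) {α β : AlgebraicCycle X ℤ}
    (hα : Cyc.RatEquivZero δ k α) (hβ : Cyc.RatEquivZero δ k β) : Cyc.RatEquivZero δ k (α + β) := by
  obtain ⟨ι, ξ, f, h1, h2, h3, h4⟩ := hα
  obtain ⟨ι', ξ', f', h1', h2', h3', h4'⟩ := hβ
  refine ⟨ι ⊕ ι', Sum.elim ξ ξ', fun i => match i with | .inl i => f i | .inr i => f' i,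
    ?_, ?_, fun x => ?_, fun x => ?_⟩
  · rintro (i | i) <;> simp [h1, h1']
  · rintro (i | i)
    · exact h2 i
    · exact h2' i
  · obtain ⟨U, hU, hxU, hfin⟩ := h3 x
    obtain ⟨U', hU', hxU', hfin'⟩ := h3' x
    refine ⟨U ∩ U', hU.inter hU', ⟨hxU, hxU'⟩,
      ((hfin.image Sum.inl).union (hfin'.image Sum.inr)).subset ?_⟩
    rintro (i | i) ⟨z, hz, hzU, hzU'⟩
    · exact Or.inl ⟨i, ⟨z, hz, hzU⟩, rfl⟩
    · exact Or.inr ⟨i, ⟨z, hz, hzU'⟩, rfl⟩
  · have hs : ∀ {κ : Type u} (ζ : κ → X) (g : (i : κ) → X.residueField (ζ i)),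
        (∀ x : X, ∃ U : Set X, IsOpen U ∧ x ∈ U ∧ {i | (closure {ζ i} ∩ U).Nonempty}.Finite) →
        (Function.support fun i => Cyc.divFun δ (ζ i) (g i) x).Finite := fun ζ g hloc => by
      obtain ⟨U, hU, hxU, hfin⟩ := hloc x
      refine hfin.subset fun i hi => ⟨x, ?_, hxU⟩
      rw [Function.mem_support, Cyc.divFun] at hi
      split_ifs at hi with h
      · exact specializes_iff_mem_closure.1 h.1
      · exact absurd rfl hi
    have e1 := hs ξ f h3
    have e2 := hs ξ' f' h3'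
    rw [Function.locallyFinsuppWithin.coe_add, Pi.add_apply, h4 x, h4' x]
    have hA : ((Function.support fun i : ι ⊕ ι' => Cyc.divFun δ (Sum.elim ξ ξ' i)
        (match i with | .inl i => f i | .inr i => f' i) x)) ⊆
        ↑(e1.toFinset.disjSum e2.toFinset) := by
      rintro (i | i) hi
      · exact Finset.mem_coe.2 (Finset.inl_mem_disjSum.2 (e1.mem_toFinset.2 hi))
      · exact Finset.mem_coe.2 (Finset.inr_mem_disjSum.2 (e2.mem_toFinset.2 hi))
    rw [finsum_eq_sum_of_support_subset _ hA, Finset.sum_disjSum,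
      finsum_eq_sum_of_support_subset _ (e1.coe_toFinset.symm.subset),
      finsum_eq_sum_of_support_subset _ (e2.coe_toFinset.symm.subset)]
    rfl

theorem ratEquiv_trans [IsLocallyNoetherian X] (k : ℤ) {α β γ : AlgebraicCycle X ℤ}
    (h₁ : Cyc.RatEquiv δ k α β) (h₂ : Cyc.RatEquiv δ k β γ) : Cyc.RatEquiv δ k α γ := by
  have h := ratEquivZero_add k h₁ h₂
  rwa [sub_add_sub_cancel] at h

variable [IsIntegral X] [IsLocallyNoetherian X] (hδ : Cyc.IsDimFun X δ)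

include hδ in
theorem ordAt_quad {x ξ : X} (h : ξ ⤳ x) (hx : δ x + 1 = δ ξ) (hξ : δ ξ + 1 = δ (genericPoint X))
    {a b a' b' : X.presheaf.stalk x} (ha : a ≠ 0) (hb : b ≠ 0) (ha' : a' ≠ 0) (hb' : b' ≠ 0) :
    Cyc.ordAt x ξ h (Tame.quad (X.presheaf.stalkSpecializes h a) (X.presheaf.stalkSpecializes h b)
      (X.presheaf.stalkSpecializes h a') (X.presheaf.stalkSpecializes h b')) =
      Groth.L15.Key.phi (qOf h) a a' + Groth.L15.Key.phi (qOf h) b b' -
        Groth.L15.Key.phi (qOf h) a b' - Groth.L15.Key.phi (qOf h) b a' := by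
  have hd : ringKrullDim (X.presheaf.stalk ξ) = 1 := dim_stalk hδ (k := 1) (by exact_mod_cast hξ)
  have n0 : ∀ {z : X.presheaf.stalk x}, z ≠ 0 → X.presheaf.stalkSpecializes h z ≠ 0 :=
    fun hz => (map_ne_zero_iff _ (spec_injective h)).2 hz
  have e1 := Tame.sym_ne_zero hd (n0 ha) (n0 ha')
  have e2 := Tame.sym_ne_zero hd (n0 hb) (n0 hb')
  have e3 := Tame.sym_ne_zero hd (n0 ha) (n0 hb')
  have e4 := Tame.sym_ne_zero hd (n0 hb) (n0 ha')
  have hq := Tame.quad_ne_zero hd (n0 ha) (n0 hb) (n0 ha') (n0 hb')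
  have hm := ordAt_mul hδ x ξ h hx hq (mul_ne_zero e3 e4)
  have hq' := div_mul_cancel₀ (CycAlg.tameSymbol (X.presheaf.stalk ξ) (X.presheaf.stalkSpecializes h a)
      (X.presheaf.stalkSpecializes h a') * CycAlg.tameSymbol (X.presheaf.stalk ξ)
      (X.presheaf.stalkSpecializes h b) (X.presheaf.stalkSpecializes h b')) (mul_ne_zero e3 e4)
  rw [show Tame.quad _ _ _ _ * _ = _ from hq'] at hm
  have hn : ∀ {z w : IsLocalRing.ResidueField (X.presheaf.stalk ξ)}, z ≠ 0 → w ≠ 0 →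
      Cyc.ordAt x ξ h (z * w) = Cyc.ordAt x ξ h z + Cyc.ordAt x ξ h w :=
    fun hz hw => ordAt_mul hδ x ξ h hx hz hw
  rw [hn e1 e2, hn e3 e4, ordAt_tameSymbol hδ h hx hξ ha ha', ordAt_tameSymbol hδ h hx hξ hb hb',
    ordAt_tameSymbol hδ h hx hξ ha hb', ordAt_tameSymbol hδ h hx hξ hb ha'] at hm
  linarith

include hδ in
theorem delta_of_ht1 {x : X} {q : PrimeSpectrum (X.presheaf.stalk x)}
    (hq : q ∈ Groth.L15.Key.ht1 (X.presheaf.stalk x)) :
    δ (X.fromSpecStalk x q) + 1 = δ (genericPoint X) := by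
  have hs := Groth.L22.Cyc.specializes_fromSpecStalk x q
  have hq' : qOf hs = q := (X.fromSpecStalk x).isEmbedding.injective (fromSpecStalk_qOf hs)
  have h1 := height_qOf hs
  rw [hq', show q.asIdeal.height = 1 from hq] at h1
  obtain ⟨D, hD, hD'⟩ := exists_dim_stalk hδ (X.fromSpecStalk x q)
  rw [hD] at h1
  have : ((1 : ℕ) : WithBot ℕ∞) = (D : WithBot ℕ∞) := by simpa using h1
  have := Nat.cast_inj.1 this
  omega

include hδ in
/-- The key lemma, summed over the points of codimension one through `x`. -/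
theorem sum_quad_eq_zero {x : X} (hx : δ x + 2 = δ (genericPoint X)) (S : Finset X)
    (hS : ∀ ξ ∈ S, ξ ⤳ x ∧ δ ξ + 1 = δ (genericPoint X))
    {a b a' b' : X.presheaf.stalk x} (ha : a ≠ 0) (hb : b ≠ 0) (ha' : a' ≠ 0) (hb' : b' ≠ 0)
    (hsupp : ∀ q ∈ Groth.L15.Key.ht1 (X.presheaf.stalk x), a * b * (a' * b') ∈ q.asIdeal →
      X.fromSpecStalk x q ∈ S) (T : X → ℤ)
    (hT : ∀ ξ ∈ S, ∀ h : ξ ⤳ x, T ξ = Groth.L15.Key.phi (qOf h) a a' + Groth.L15.Key.phi (qOf h) b b' -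
        Groth.L15.Key.phi (qOf h) a b' - Groth.L15.Key.phi (qOf h) b a') :
    ∑ ξ ∈ S, T ξ = 0 := by
  classical
  have hA : ringKrullDim (X.presheaf.stalk x) = 2 := dim_stalk hδ (k := 2) (by exact_mod_cast hx)
  set P := S.preimage (X.fromSpecStalk x) (X.fromSpecStalk x).isEmbedding.injective.injOn with hP
  have hPS : ∀ q ∈ P, q ∈ Groth.L15.Key.ht1 (X.presheaf.stalk x) ∧
      T (X.fromSpecStalk x q) = Groth.L15.Key.phi q a a' + Groth.L15.Key.phi q b b' -
        Groth.L15.Key.phi q a b' - Groth.L15.Key.phi q b a' := fun q hq => by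
    rw [hP, Finset.mem_preimage] at hq
    obtain ⟨h1, h2⟩ := hS _ hq
    have hq' : qOf h1 = q := (X.fromSpecStalk x).isEmbedding.injective (fromSpecStalk_qOf h1)
    refine ⟨hq' ▸ qOf_mem_ht1 hδ h1 h2, ?_⟩
    have h3 := hT _ hq h1
    rwa [hq'] at h3
  have hsum : ∑ ξ ∈ S, T ξ = ∑ q ∈ P, T (X.fromSpecStalk x q) := by
    rw [hP, Finset.sum_preimage]
    intro ξ hξ hr
    refine absurd ?_ hr
    rw [Scheme.range_fromSpecStalk]
    exact (hS ξ hξ).1
  have hPhi : ∀ {u v : X.presheaf.stalk x}, u ≠ 0 → v ≠ 0 → (∀ q : PrimeSpectrum (X.presheaf.stalk x),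
      (u ∈ q.asIdeal ∨ v ∈ q.asIdeal) → a * b * (a' * b') ∈ q.asIdeal) →
      ∑ q ∈ P, Groth.L15.Key.phi q u v = 0 := fun {u v} hu hv hsub => by
    rw [← Groth.L15.Key.Phi_eq_zero hA u v (mem_nonZeroDivisors_of_ne_zero hu) (mem_nonZeroDivisors_of_ne_zero hv),
      Groth.L15.Key.Phi]
    refine (finsum_mem_eq_sum_of_inter_support_eq _ ?_).symm
    ext q
    simp only [Set.mem_inter_iff, Function.mem_support, Finset.mem_coe]
    refine ⟨fun h => ⟨?_, h.2⟩, fun h => ⟨(hPS q h.1).1, h.2⟩⟩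
    rw [hP, Finset.mem_preimage]
    refine hsupp q h.1 (hsub q ?_)
    by_contra hc
    push Not at hc
    exact h.2 (Groth.L15.Key.phi_eq_zero hA h.1 (mem_nonZeroDivisors_of_ne_zero hv) hc.1 hc.2)
  rw [hsum, Finset.sum_congr rfl fun q hq => (hPS q hq).2, Finset.sum_sub_distrib, Finset.sum_sub_distrib,
    Finset.sum_add_distrib,
    hPhi ha ha' fun q h => h.elim (fun h => Ideal.mul_mem_right _ _ (Ideal.mul_mem_right _ _ h))
      (fun h => Ideal.mul_mem_left _ _ (Ideal.mul_mem_right _ _ h)),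
    hPhi hb hb' fun q h => h.elim (fun h => Ideal.mul_mem_right _ _ (Ideal.mul_mem_left _ _ h))
      (fun h => Ideal.mul_mem_left _ _ (Ideal.mul_mem_left _ _ h)),
    hPhi ha hb' fun q h => h.elim (fun h => Ideal.mul_mem_right _ _ (Ideal.mul_mem_right _ _ h))
      (fun h => Ideal.mul_mem_left _ _ (Ideal.mul_mem_left _ _ h)),
    hPhi hb ha' fun q h => h.elim (fun h => Ideal.mul_mem_right _ _ (Ideal.mul_mem_left _ _ h))
      (fun h => Ideal.mul_mem_left _ _ (Ideal.mul_mem_right _ _ h))]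
  rfl

/-- A rational section is a fraction of sections near every point. -/
theorem exists_rep_section {L : X.Modules} (hL : PicF.IsInvertible L) (s : Cyc.secFibre L (genericPoint X))
    {U : X.Opens} {e : Γ(L, U)} (he : Groth.L18.Frame.IsFrame L U e) {V : X.Opens} (hV : IsAffineOpen V)
    (hVU : V ≤ U) (hne : Nonempty V) :
    ∃ a b : Γ(X, V), ∀ z (hz : z ∈ V),
      Rep L s (L.presheaf.germ U z (hVU hz) e) (X.presheaf.germ V z hz a) (X.presheaf.germ V z hz b) := by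
  haveI := hne
  obtain ⟨z0, hz0⟩ := hne
  have hη : genericPoint X ∈ V := (gs z0).mem_open V.2 hz0
  obtain ⟨φ, hφ⟩ := exists_smul_mk (isGen_germ he (hVU hη)) s
  haveI := functionField_isFractionRing_of_isAffineOpen X V hV
  obtain ⟨⟨a, b⟩, hab⟩ := IsLocalization.surj (M := nonZeroDivisors Γ(X, V)) (S := X.functionField) φ
  refine ⟨a, b.1, fun z hz => ⟨fun h0 => nonZeroDivisors.ne_zero b.2
    (germ_injective_of_isIntegral X z hz (h0.trans (map_zero _).symm)), ?_⟩⟩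
  rw [TopCat.Presheaf.germ_stalkSpecializes_apply, TopCat.Presheaf.germ_stalkSpecializes_apply,
    TopCat.Presheaf.germ_stalkSpecializes_apply, hφ, smul_smul, mul_comm]
  exact congrArg (· • _) hab

include hδ in
theorem divFun_one (ξ x : X) : Cyc.divFun δ ξ 1 x = 0 := by
  simpa using divFun_zpow hδ ξ (one_ne_zero (α := X.residueField ξ)) x 0

include hδ in
omit [IsIntegral X] in
theorem exists_cycle_secDiv {M : X.Modules} (hM : PicF.IsInvertible M) {ξ : X} (r : Cyc.secFibre M ξ)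
    (hr : r ≠ 0) : ∃ α : AlgebraicCycle X ℤ, ⇑α = Cyc.secDivFun δ M ξ r ∧
      α ∈ Cyc.Zk X δ (δ ξ - 2 + 1) := by
  obtain ⟨α, hα⟩ := exists_cycle (Cyc.secDivFun δ M ξ r) fun x => by
    obtain ⟨U, e, hxU, he⟩ := Groth.L18.Frame.exists_frame hM x
    obtain ⟨V, hV, hxV, hVU⟩ := exists_isAffineOpen_mem_and_subset (x := x) (U := U) hxU
    exact ⟨V, hxV, finite_support_secDivFun_inter hδ hM he hV hVU _ r hr⟩
  refine ⟨α, hα, fun x hx => ?_⟩
  rw [hα]
  by_contra h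
  have := (secDivFun_ne_zero δ h).2
  omega

include hδ in
/-- The two ways of capping differ by divisors of tame symbols living on `S`, as soon as off `S` one
of the sections is the chosen generator. -/
theorem comm_exact {L N : X.Modules} (hL : PicF.IsInvertible L) (hN : PicF.IsInvertible N)
    (s : Cyc.secFibre L (genericPoint X)) (hs : s ≠ 0) (t : Cyc.secFibre N (genericPoint X)) (ht : t ≠ 0)
    (eL : (ξ : X) → L.presheaf.stalk ξ) (heL : ∀ ξ, IsGen L (eL ξ))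
    (eN : (ξ : X) → N.presheaf.stalk ξ) (heN : ∀ ξ, IsGen N (eN ξ)) (S : Set X)
    (hS₀ : ∀ ξ, ξ ∉ S → δ ξ + 1 = δ (genericPoint X) → s = mk L (L.presheaf.stalkSpecializes (gs ξ) (eL ξ)) ∨
      t = mk N (N.presheaf.stalkSpecializes (gs ξ) (eN ξ))) :
    RatOn δ (δ (genericPoint X) - 2) S (fun x =>
      Cyc.c1CapFun δ N (Cyc.secDivFun δ L (genericPoint X) s) (fun ξ => mk N (eN ξ)) x -
        Cyc.c1CapFun δ L (Cyc.secDivFun δ N (genericPoint X) t) (fun ξ => mk L (eL ξ)) x) := by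
  classical
  obtain ⟨α, hα, hαZ⟩ := exists_cycle_secDiv hδ hL s hs
  obtain ⟨β, hβ, hβZ⟩ := exists_cycle_secDiv hδ hN t ht
  choose a b hab using fun ξ : X => exists_rep hL s (heL ξ)
  choose a' b' hab' using fun ξ : X => exists_rep hN t (heN ξ)
  have hb0 : ∀ ξ, b ξ ≠ 0 := fun ξ => (hab ξ).1
  have hb0' : ∀ ξ, b' ξ ≠ 0 := fun ξ => (hab' ξ).1
  have ha0 : ∀ ξ, a ξ ≠ 0 := fun ξ => (hab ξ).ne_zero hs
  have ha0' : ∀ ξ, a' ξ ≠ 0 := fun ξ => (hab' ξ).ne_zero ht
  let R : (ξ : X) → X.residueField ξ := fun ξ =>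
    if δ ξ + 1 = δ (genericPoint X) then Tame.quad (a ξ) (b ξ) (a' ξ) (b' ξ) else 1
  have hR : ∀ ξ, R ξ ≠ 0 := fun ξ => by
    simp only [R]
    split_ifs with h
    · exact Tame.quad_ne_zero (dim_stalk hδ (k := 1) (by exact_mod_cast h)) (ha0 ξ) (hb0 ξ) (ha0' ξ) (hb0' ξ)
    · exact one_ne_zero
  let Good : X → Prop := fun ξ =>
    (∃ c, IsUnit c ∧ a ξ = b ξ * c) ∧ ∃ c, IsUnit c ∧ a' ξ = b' ξ * c
  let F : X → ℤ := fun ξ => if δ ξ + 1 = δ (genericPoint X) ∧ ¬ Good ξ ∧ ξ ∈ S then 1 else 0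
  obtain ⟨α₀, hα₀⟩ := exists_cycle F fun x => by
    obtain ⟨U₁, e₁, hxU₁, he₁⟩ := Groth.L18.Frame.exists_frame hL x
    obtain ⟨U₂, e₂, hxU₂, he₂⟩ := Groth.L18.Frame.exists_frame hN x
    obtain ⟨V, hV, hxV, hVU⟩ := exists_isAffineOpen_mem_and_subset (x := x) (U := U₁ ⊓ U₂) ⟨hxU₁, hxU₂⟩
    have hV₁ : V ≤ U₁ := fun z hz => (hVU hz).1
    have hV₂ : V ≤ U₂ := fun z hz => (hVU hz).2
    obtain ⟨A, B, hAB⟩ := exists_rep_section hL s he₁ hV hV₁ ⟨⟨x, hxV⟩⟩
    obtain ⟨A', B', hAB'⟩ := exists_rep_section hN t he₂ hV hV₂ ⟨⟨x, hxV⟩⟩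
    refine ⟨V, hxV, (Groth.L22.Cyc.finite_maximal hV
      (X.basicOpen (A * B * (A' * B'))).2.isClosed_compl).subset ?_⟩
    rintro z ⟨hz, hzV⟩
    simp only [Function.mem_support, F, ne_eq, ite_eq_right_iff, one_ne_zero, imp_false, not_not] at hz
    refine ⟨hzV, fun hzB => hz.2.1 ?_, fun y hy hyz => ?_⟩
    · have hunit := (X.mem_basicOpen _ z hzV).1 hzB
      rw [map_mul, map_mul, map_mul] at hunit
      obtain ⟨h12, h34⟩ := IsUnit.mul_iff.1 hunit
      obtain ⟨hA, hB⟩ := IsUnit.mul_iff.1 h12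
      obtain ⟨hA', hB'⟩ := IsUnit.mul_iff.1 h34
      constructor
      · obtain ⟨c, hc, hce⟩ := (isGen_germ he₁ (hV₁ hzV)).exists_unit hL (heL z)
        have hr := (hAB z hzV).spec (specializes_rfl : z ⤳ z) hc
        simp only [TopCat.Presheaf.stalkSpecializes_refl] at hr
        have hr' : Rep L s (eL z) (X.presheaf.germ V z hzV A) (X.presheaf.germ V z hzV B * c) := hce ▸ hr
        have := (hab z).cross hL (heL z) hr'
        obtain ⟨w, hw⟩ := (hB.mul hc).exists_right_inv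
        refine ⟨X.presheaf.germ V z hzV A * w, hA.mul (IsUnit.of_mul_eq_one _ ((mul_comm _ _).trans hw)), ?_⟩
        rw [← mul_assoc, ← this, mul_assoc, hw, mul_one]
      · obtain ⟨c, hc, hce⟩ := (isGen_germ he₂ (hV₂ hzV)).exists_unit hN (heN z)
        have hr := (hAB' z hzV).spec (specializes_rfl : z ⤳ z) hc
        simp only [TopCat.Presheaf.stalkSpecializes_refl] at hr
        have hr' : Rep N t (eN z) (X.presheaf.germ V z hzV A') (X.presheaf.germ V z hzV B' * c) := hce ▸ hr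
        have := (hab' z).cross hN (heN z) hr'
        obtain ⟨w, hw⟩ := (hB'.mul hc).exists_right_inv
        refine ⟨X.presheaf.germ V z hzV A' * w, hA'.mul (IsUnit.of_mul_eq_one _ ((mul_comm _ _).trans hw)), ?_⟩
        rw [← mul_assoc, ← this, mul_assoc, hw, mul_one]
    · by_contra hne
      refine hy ?_
      have h3 := (hδ y z hyz hne).1
      have hη : y = genericPoint X := by
        by_contra hη
        have := delta_lt_generic hδ hη
        omega
      subst hη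
      show genericPoint X ∈ X.basicOpen (A * B * (A' * B'))
      rw [X.mem_basicOpen _ _ (hyz.mem_open V.2 hzV)]
      letI : Field (X.presheaf.stalk (genericPoint X)) := inferInstanceAs (Field X.functionField)
      refine IsUnit.mk0 _ ((map_ne_zero_iff _ (germ_injective_of_isIntegral X _ _)).2 ?_)
      have hne0 : ∀ {C : Γ(X, V)}, X.presheaf.germ V x hxV C ≠ 0 → C ≠ 0 := fun h h0 => h (by rw [h0, map_zero])
      haveI : Nonempty V := ⟨⟨x, hxV⟩⟩
      exact mul_ne_zero (mul_ne_zero (hne0 ((hAB x hxV).ne_zero hs)) (hne0 (hAB x hxV).1))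
        (mul_ne_zero (hne0 ((hAB' x hxV).ne_zero ht)) (hne0 (hAB' x hxV).1))
  refine ratOn_of_sum hδ _ α₀ (fun z hz => ?_) (fun z hz => ?_) R hR fun x => ?_
  · rw [hα₀]
    simp only [F]
    rw [if_neg fun h => hz (by omega)]
  · rw [hα₀] at hz
    simp only [F, ne_eq, ite_eq_right_iff, one_ne_zero, imp_false, not_not] at hz
    exact hz.2.2
  rw [← hα, ← hβ, c1CapFun_eq_sum, c1CapFun_eq_sum]
  have hdiv : ∀ {ξ : X}, Cyc.divFun δ ξ (R ξ) x ≠ 0 → ξ ⤳ x ∧ δ x + 1 = δ ξ := fun h => by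
    unfold Cyc.divFun at h
    split_ifs at h with h'
    · exact h'
    · exact absurd rfl h
  have hmemα : ∀ {ξ : X}, α ξ ≠ 0 → δ ξ + 1 = δ (genericPoint X) := fun h => by
    rw [hα] at h
    exact (secDivFun_ne_zero δ h).2
  have hmemβ : ∀ {ξ : X}, β ξ ≠ 0 → δ ξ + 1 = δ (genericPoint X) := fun h => by
    rw [hβ] at h
    exact (secDivFun_ne_zero δ h).2
  have hmem₀ : ∀ {ξ : X}, α₀ ξ ≠ 0 → δ ξ + 1 = δ (genericPoint X) := fun h => by
    rw [hα₀] at h
    simp only [F, ne_eq, ite_eq_right_iff, one_ne_zero, imp_false, not_not] at h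
    exact h.1
  by_cases hx : δ x + 2 = δ (genericPoint X)
  swap
  · rw [Finset.sum_eq_zero (f := fun ξ => α ξ * Cyc.secDivFun δ N ξ (mk N (eN ξ)) x) fun ξ _ => ?z1,
      Finset.sum_eq_zero (f := fun ξ => β ξ * Cyc.secDivFun δ L ξ (mk L (eL ξ)) x) fun ξ _ => ?z2,
      Finset.sum_eq_zero (f := fun ξ => α₀ ξ * Cyc.divFun δ ξ (R ξ) x) fun ξ _ => ?z3]
    · rfl
    all_goals
      by_contra h
      obtain ⟨h1, h2⟩ := mul_ne_zero_iff.1 h
    case z1 =>
      have := (secDivFun_ne_zero δ h2).2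
      have := hmemα h1
      omega
    case z2 =>
      have := (secDivFun_ne_zero δ h2).2
      have := hmemβ h1
      omega
    case z3 =>
      have := (hdiv h2).2
      have := hmem₀ h1
      omega
  obtain ⟨sx, hsx⟩ := exists_isGen hL x
  obtain ⟨tx, htx⟩ := exists_isGen hN x
  obtain ⟨A, B, hAB⟩ := exists_rep hL s hsx
  obtain ⟨A', B', hAB'⟩ := exists_rep hN t htx
  have hA := hAB.ne_zero hs
  have hB := hAB.1
  have hA' := hAB'.ne_zero ht
  have hB' := hAB'.1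
  have hP : {q ∈ Groth.L15.Key.ht1 (X.presheaf.stalk x) | A * B * (A' * B') ∈ q.asIdeal}.Finite :=
    Groth.L15.Key.finite_ht1 (mem_nonZeroDivisors_of_ne_zero (mul_ne_zero (mul_ne_zero hA hB) (mul_ne_zero hA' hB')))
  set S' := (finite_gen α x).toFinset ∪ (finite_gen β x).toFinset ∪ (finite_gen α₀ x).toFinset ∪
    (hP.image (X.fromSpecStalk x)).toFinset with hSdef
  have hS : ∀ ξ ∈ S', ξ ⤳ x ∧ δ ξ + 1 = δ (genericPoint X) := fun ξ hξ => by
    simp only [hSdef, Finset.mem_union, Set.Finite.mem_toFinset, Set.mem_ofPred_eq, Set.mem_image] at hξ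
    rcases hξ with ((h | h) | h) | ⟨q, ⟨hq, -⟩, rfl⟩
    · exact ⟨h.1, hmemα h.2⟩
    · exact ⟨h.1, hmemβ h.2⟩
    · exact ⟨h.1, hmem₀ h.2⟩
    · exact ⟨Groth.L22.Cyc.specializes_fromSpecStalk x q, delta_of_ht1 hδ hq⟩
  let T : X → ℤ := fun ξ => if h : ξ ⤳ x then
    Groth.L15.Key.phi (qOf h) A A' + Groth.L15.Key.phi (qOf h) B B' -
      Groth.L15.Key.phi (qOf h) A B' - Groth.L15.Key.phi (qOf h) B A' else 0
  have hT0 := sum_quad_eq_zero hδ hx S' hS hA hB hA' hB'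
    (fun q hq h => Finset.mem_union_right _ ((Set.Finite.mem_toFinset _).2 ⟨q, ⟨hq, h⟩, rfl⟩))
    T (fun ξ _ h => dif_pos h)
  have hpt : ∀ ξ ∈ S', α ξ * Cyc.secDivFun δ N ξ (mk N (eN ξ)) x - β ξ * Cyc.secDivFun δ L ξ (mk L (eL ξ)) x =
      α₀ ξ * Cyc.divFun δ ξ (R ξ) x - T ξ := fun ξ hξ => by
    obtain ⟨hsp, hd⟩ := hS ξ hξ
    have hxξ : δ x + 1 = δ ξ := by omega
    have hdim : ringKrullDim (X.presheaf.stalk ξ) = 1 := dim_stalk hδ (k := 1) (by exact_mod_cast hd)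
    have n0 : ∀ {z : X.presheaf.stalk x}, z ≠ 0 → X.presheaf.stalkSpecializes hsp z ≠ 0 :=
      fun hz => (map_ne_zero_iff _ (spec_injective hsp)).2 hz
    obtain ⟨c, hc, hce⟩ := (hsx.specializes hL hsp).exists_unit hL (heL ξ)
    obtain ⟨d, hd', hde⟩ := (htx.specializes hN hsp).exists_unit hN (heN ξ)
    have hr : Rep L s (eL ξ) (X.presheaf.stalkSpecializes hsp A) (X.presheaf.stalkSpecializes hsp B * c) :=
      hce ▸ hAB.spec hsp hc
    have hr' : Rep N t (eN ξ) (X.presheaf.stalkSpecializes hsp A') (X.presheaf.stalkSpecializes hsp B' * d) :=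
      hde ▸ hAB'.spec hsp hd'
    have e1 : Cyc.secDivFun δ L ξ (mk L (eL ξ)) x = Cyc.ordAt x ξ hsp (X.residue ξ c) := by
      rw [Cyc.secDivFun, dif_pos ⟨hsp, hxξ⟩, ← hce, show mk L (c • _) = c • mk L _ from Submodule.Quotient.mk_smul _ _ _,
        secOrdAt_gen hδ hL hsp hxξ hsx]
    have e2 : Cyc.secDivFun δ N ξ (mk N (eN ξ)) x = Cyc.ordAt x ξ hsp (X.residue ξ d) := by
      rw [Cyc.secDivFun, dif_pos ⟨hsp, hxξ⟩, ← hde, show mk N (d • _) = d • mk N _ from Submodule.Quotient.mk_smul _ _ _,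
        secOrdAt_gen hδ hN hsp hxξ htx]
    have e3 : α ξ = (Tame.len (X.presheaf.stalkSpecializes hsp A) : ℤ) - Tame.len (X.presheaf.stalkSpecializes hsp B) := by
      rw [hα, hr.secDivFun_eq hL hδ (heL ξ) hs hd, mul_comm _ c, Tame.len_mul_unit hc]
    have e4 : β ξ = (Tame.len (X.presheaf.stalkSpecializes hsp A') : ℤ) - Tame.len (X.presheaf.stalkSpecializes hsp B') := by
      rw [hβ, hr'.secDivFun_eq hN hδ (heN ξ) ht hd, mul_comm _ d, Tame.len_mul_unit hd']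
    have e5 : α₀ ξ * Cyc.divFun δ ξ (R ξ) x = Cyc.divFun δ ξ (R ξ) x := by
      rw [hα₀]
      simp only [F]
      split_ifs with h
      · rw [one_mul]
      · have hR1 : R ξ = 1 := by
          simp only [R, if_pos hd]
          by_cases hξS : ξ ∈ S
          · obtain ⟨⟨c₁, hc₁, ec₁⟩, c₂, hc₂, ec₂⟩ : Good ξ := by_contra fun hg => h ⟨hd, hg, hξS⟩
            rw [ec₁, ec₂]
            exact Tame.quad_units hdim (hb0 ξ) (hb0' ξ) hc₁ hc₂
          · rcases hS₀ ξ hξS hd with h₀ | h₀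
            · have hrep : Rep L s (eL ξ) 1 1 := ⟨one_ne_zero, by rw [map_one, one_smul, one_smul]; exact h₀⟩
              rw [Tame.quad_congr_left hdim (ha0 ξ) (hb0 ξ) one_ne_zero one_ne_zero (ha0' ξ) (hb0' ξ)
                ((hab ξ).cross hL (heL ξ) hrep)]
              exact Tame.quad_one_left hdim (ha0' ξ) (hb0' ξ)
            · have hrep : Rep N t (eN ξ) 1 1 := ⟨one_ne_zero, by rw [map_one, one_smul, one_smul]; exact h₀⟩
              rw [Tame.quad_congr_right hdim (ha0 ξ) (hb0 ξ) (ha0' ξ) (hb0' ξ) one_ne_zero one_ne_zero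
                ((hab' ξ).cross hN (heN ξ) hrep)]
              exact Tame.quad_one_right hdim (ha0 ξ) (hb0 ξ)
        rw [zero_mul, hR1, divFun_one hδ]
    have hrc : IsLocalRing.residue (X.presheaf.stalk ξ) c ≠ 0 := (hc.map _).ne_zero
    have hrd : IsLocalRing.residue (X.presheaf.stalk ξ) d ≠ 0 := (hd'.map _).ne_zero
    have hq := Tame.quad_ne_zero hdim (n0 hA) (n0 hB) (n0 hA') (n0 hB')
    have e6 : R ξ = Tame.quad (X.presheaf.stalkSpecializes hsp A) (X.presheaf.stalkSpecializes hsp B)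
          (X.presheaf.stalkSpecializes hsp A') (X.presheaf.stalkSpecializes hsp B') *
        IsLocalRing.residue _ c ^ ((Tame.len (X.presheaf.stalkSpecializes hsp B') : ℤ) -
          Tame.len (X.presheaf.stalkSpecializes hsp A')) *
        IsLocalRing.residue _ d ^ ((Tame.len (X.presheaf.stalkSpecializes hsp A) : ℤ) -
          Tame.len (X.presheaf.stalkSpecializes hsp B)) := by
      simp only [R, if_pos hd]
      rw [Tame.quad_congr_left hdim (ha0 ξ) (hb0 ξ) (n0 hA) (mul_ne_zero (n0 hB) hc.ne_zero) (ha0' ξ) (hb0' ξ)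
          ((hab ξ).cross hL (heL ξ) hr),
        Tame.quad_congr_right hdim (n0 hA) (mul_ne_zero (n0 hB) hc.ne_zero) (ha0' ξ) (hb0' ξ) (n0 hA')
          (mul_ne_zero (n0 hB') hd'.ne_zero) ((hab' ξ).cross hN (heN ξ) hr'),
        Tame.quad_twist hdim (n0 hA) (n0 hB) (n0 hA') (n0 hB') hc hd']
    have e7 : Cyc.divFun δ ξ (R ξ) x = T ξ +
        ((Tame.len (X.presheaf.stalkSpecializes hsp B') : ℤ) - Tame.len (X.presheaf.stalkSpecializes hsp A')) *
          Cyc.ordAt x ξ hsp (X.residue ξ c) +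
        ((Tame.len (X.presheaf.stalkSpecializes hsp A) : ℤ) - Tame.len (X.presheaf.stalkSpecializes hsp B)) *
          Cyc.ordAt x ξ hsp (X.residue ξ d) := by
      have hz : ∀ {g : X.residueField ξ}, g ≠ 0 → ∀ m : ℤ,
          Cyc.divFun δ ξ (g ^ m) x = m * Cyc.divFun δ ξ g x := fun hg m => divFun_zpow hδ ξ hg x m
      have hv : ∀ g : X.residueField ξ, Cyc.divFun δ ξ g x = Cyc.ordAt x ξ hsp g :=
        fun g => dif_pos ⟨hsp, hxξ⟩
      rw [e6]
      refine (divFun_mul hδ ξ (mul_ne_zero hq (zpow_ne_zero _ hrc)) (zpow_ne_zero _ hrd) x).trans ?_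
      refine congrArg₂ (· + ·) ((divFun_mul hδ ξ hq (zpow_ne_zero _ hrc) x).trans ?_) ((hz hrd _).trans ?_)
      · refine congrArg₂ (· + ·) ?_ ((hz hrc _).trans ?_)
        · rw [hv, show T ξ = _ from dif_pos hsp]
          exact ordAt_quad hδ hsp hxξ hd hA hB hA' hB'
        · rw [hv]
          rfl
      · rw [hv]
        rfl
    rw [e5, e7, e1, e2, e3, e4]
    ring
  have hfin : ∀ {γ : AlgebraicCycle X ℤ} {f : X → ℤ}, (finite_gen γ x).toFinset ⊆ S' →
      (∀ ξ, f ξ ≠ 0 → ξ ⤳ x) → ∑ ξ ∈ (finite_gen γ x).toFinset, γ ξ * f ξ = ∑ ξ ∈ S', γ ξ * f ξ :=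
    fun {γ f} hsub hf => Finset.sum_subset hsub fun ξ _ h => by
      by_contra h0
      obtain ⟨h1, h2⟩ := mul_ne_zero_iff.1 h0
      exact h ((Set.Finite.mem_toFinset _).2 ⟨hf ξ h2, h1⟩)
  rw [hfin (Finset.subset_union_left.trans (Finset.subset_union_left.trans Finset.subset_union_left))
      fun ξ h => (secDivFun_ne_zero δ h).1,
    hfin (Finset.subset_union_right.trans (Finset.subset_union_left.trans Finset.subset_union_left))
      fun ξ h => (secDivFun_ne_zero δ h).1,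
    hfin (Finset.subset_union_right.trans Finset.subset_union_left) fun ξ h => (hdiv h).1,
    ← Finset.sum_sub_distrib, Finset.sum_congr rfl hpt, Finset.sum_sub_distrib, hT0, sub_zero]

include hδ in
theorem c1Cap_divSec_comm (n : ℤ) (hn : δ (genericPoint X) = n) {L N : X.Modules}
    (hL : PicF.IsInvertible L) (hN : PicF.IsInvertible N) (s : Cyc.secFibre L (genericPoint X)) (hs : s ≠ 0)
    (t : Cyc.secFibre N (genericPoint X)) (ht : t ≠ 0) (u : (ξ : X) → Cyc.secFibre N ξ) (hu : ∀ ξ, u ξ ≠ 0)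
    (v : (ξ : X) → Cyc.secFibre L ξ) (hv : ∀ ξ, v ξ ≠ 0) (γ₁ γ₂ : AlgebraicCycle X ℤ)
    (h₁ : ⇑γ₁ = Cyc.c1CapFun δ N (Cyc.secDivFun δ L (genericPoint X) s) u)
    (h₂ : ⇑γ₂ = Cyc.c1CapFun δ L (Cyc.secDivFun δ N (genericPoint X) t) v) :
    Cyc.RatEquiv δ (n - 2) γ₁ γ₂ := by
  subst hn
  obtain ⟨α, hα, hαZ⟩ := exists_cycle_secDiv hδ hL s hs
  obtain ⟨β, hβ, hβZ⟩ := exists_cycle_secDiv hδ hN t ht
  choose eL heL using fun ξ : X => exists_isGen hL ξ
  choose eN heN using fun ξ : X => exists_isGen hN ξ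
  obtain ⟨γ₁', hγ₁'⟩ := exists_cycle_c1Cap hδ hN α (fun ξ => mk N (eN ξ)) fun ξ => mk_gen_ne_zero hN (heN ξ)
  obtain ⟨γ₂', hγ₂'⟩ := exists_cycle_c1Cap hδ hL β (fun ξ => mk L (eL ξ)) fun ξ => mk_gen_ne_zero hL (heL ξ)
  refine ratEquiv_trans _ (c1Cap_ratEquiv δ hδ hN _ α hαZ u (fun ξ => mk N (eN ξ)) hu
    (fun ξ => mk_gen_ne_zero hN (heN ξ)) γ₁ γ₁' (by rw [h₁, hα]) hγ₁') (ratEquiv_trans _ ?_
    (c1Cap_ratEquiv δ hδ hL _ β hβZ (fun ξ => mk L (eL ξ)) v
      (fun ξ => mk_gen_ne_zero hL (heL ξ)) hv γ₂' γ₂ hγ₂' (by rw [h₂, hβ])))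
  refine (comm_exact hδ hL hN s hs t ht eL heL eN heN Set.univ fun ξ h => absurd trivial h).ratEquivZero _ ?_
  funext x
  rw [Function.locallyFinsuppWithin.coe_sub, Pi.sub_apply, hγ₁', hγ₂', hα, hβ]

end Groth.L22.C1
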