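import Groth.Agent.S1848
import Mathlib.RingTheory.OrderOfVanishing.Basic

/-!
The tame symbol of two fractions over a one-dimensional local domain, written with representatives.
-/

set_option autoImplicit false

universe u

noncomputable section

namespace Groth.L22.C1.Tame

open IsLocalRing

variable {A : Type u} [CommRing A] [IsLocalRing A]

/-- The tame symbol of `a / b` and `a' / b'`. -/
def quad (a b a' b' : A) : ResidueField A :=
  CycAlg.tameSymbol A a a' * CycAlg.tameSymbol A b b' /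
    (CycAlg.tameSymbol A a b' * CycAlg.tameSymbol A b a')

/-- The length of `A / (a)`. -/
def len (a : A) : ℕ := (Ring.ord A a).toNat

variable [IsDomain A] [IsNoetherianRing A] (hA : ringKrullDim A = 1)
include hA

omit [IsNoetherianRing A] hA in
theorem mem_nzd {a : A} (ha : a ≠ 0) : a ∈ nonZeroDivisors A := mem_nonZeroDivisors_of_ne_zero ha

theorem sym_ne_zero {a b : A} (ha : a ≠ 0) (hb : b ≠ 0) : CycAlg.tameSymbol A a b ≠ 0 :=
  Groth.Agent.S1848.symbol_ne_zero hA a b (mem_nzd ha) (mem_nzd hb)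

theorem sym_mul_left {a a' b : A} (ha : a ≠ 0) (ha' : a' ≠ 0) (hb : b ≠ 0) :
    CycAlg.tameSymbol A (a * a') b = CycAlg.tameSymbol A a b * CycAlg.tameSymbol A a' b :=
  (Groth.Agent.S1848.symbol_mul hA a a' b (mem_nzd ha) (mem_nzd ha') (mem_nzd hb)).1

theorem sym_mul_right {a a' b : A} (ha : a ≠ 0) (ha' : a' ≠ 0) (hb : b ≠ 0) :
    CycAlg.tameSymbol A b (a * a') = CycAlg.tameSymbol A b a * CycAlg.tameSymbol A b a' :=
  (Groth.Agent.S1848.symbol_mul hA a a' b (mem_nzd ha) (mem_nzd ha') (mem_nzd hb)).2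

theorem sym_unit_left {c : A} (hc : IsUnit c) {b : A} (hb : b ≠ 0) :
    CycAlg.tameSymbol A c b = residue A c ^ len b := by
  obtain ⟨c, rfl⟩ := hc
  exact Groth.Agent.S1848.symbol_unit hA c b (mem_nzd hb)

theorem sym_self {b : A} (hb : b ≠ 0) : CycAlg.tameSymbol A b b = (-1) ^ len b :=
  Groth.Agent.S1848.symbol_self hA b (mem_nzd hb)

omit [IsDomain A] [IsNoetherianRing A] hA in
theorem len_unit {c : A} (hc : IsUnit c) : len c = 0 := by
  rw [len, Ring.ord_of_isUnit hc]
  rfl

omit [IsDomain A] [IsNoetherianRing A] hA in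
theorem len_mul_unit {c : A} (hc : IsUnit c) (b : A) : len (c * b) = len b := by
  rw [len, len, Ring.ord_mul_of_isUnit_left hc]

theorem sym_swap_unit {c : A} (hc : IsUnit c) {b : A} (hb : b ≠ 0) :
    CycAlg.tameSymbol A b c = (residue A c ^ len b)⁻¹ := by
  have hc0 := hc.ne_zero
  have h := sym_self hA (mul_ne_zero hc0 hb)
  rw [sym_mul_left hA hc0 hb (mul_ne_zero hc0 hb), sym_mul_right hA hc0 hb hc0, sym_mul_right hA hc0 hb hb,
    sym_self hA hc0, sym_self hA hb, len_unit hc, len_mul_unit hc, sym_unit_left hA hc hb, pow_zero, one_mul,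
    ← mul_assoc] at h
  exact eq_inv_of_mul_eq_one_right
    (mul_right_cancel₀ (pow_ne_zero _ (neg_ne_zero.2 (one_ne_zero (α := ResidueField A))))
      (by rw [one_mul]; exact h))

theorem quad_congr_left {a b c d a' b' : A} (ha : a ≠ 0) (hb : b ≠ 0) (hc : c ≠ 0) (hd : d ≠ 0)
    (ha' : a' ≠ 0) (hb' : b' ≠ 0) (h : a * d = b * c) : quad a b a' b' = quad c d a' b' := by
  have key : ∀ z : A, z ≠ 0 → CycAlg.tameSymbol A a z * CycAlg.tameSymbol A d z =
      CycAlg.tameSymbol A b z * CycAlg.tameSymbol A c z := fun z hz => by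
    rw [← sym_mul_left hA ha hd hz, ← sym_mul_left hA hb hc hz, h]
  have h1 := key a' ha'
  have h2 := key b' hb'
  unfold quad
  rw [div_eq_div_iff (mul_ne_zero (sym_ne_zero hA ha hb') (sym_ne_zero hA hb ha'))
    (mul_ne_zero (sym_ne_zero hA hc hb') (sym_ne_zero hA hd ha'))]
  calc _ = CycAlg.tameSymbol A a a' * CycAlg.tameSymbol A d a' *
        (CycAlg.tameSymbol A b b' * CycAlg.tameSymbol A c b') := by ring
    _ = CycAlg.tameSymbol A b a' * CycAlg.tameSymbol A c a' *
        (CycAlg.tameSymbol A a b' * CycAlg.tameSymbol A d b') := by rw [h1, h2]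
    _ = _ := by ring

theorem quad_congr_right {a b a' b' c' d' : A} (ha : a ≠ 0) (hb : b ≠ 0)
    (ha' : a' ≠ 0) (hb' : b' ≠ 0) (hc' : c' ≠ 0) (hd' : d' ≠ 0) (h : a' * d' = b' * c') :
    quad a b a' b' = quad a b c' d' := by
  have key : ∀ z : A, z ≠ 0 → CycAlg.tameSymbol A z a' * CycAlg.tameSymbol A z d' =
      CycAlg.tameSymbol A z b' * CycAlg.tameSymbol A z c' := fun z hz => by
    rw [← sym_mul_right hA ha' hd' hz, ← sym_mul_right hA hb' hc' hz, h]
  have h1 := key a ha
  have h2 := key b hb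
  unfold quad
  rw [div_eq_div_iff (mul_ne_zero (sym_ne_zero hA ha hb') (sym_ne_zero hA hb ha'))
    (mul_ne_zero (sym_ne_zero hA ha hd') (sym_ne_zero hA hb hc'))]
  calc _ = CycAlg.tameSymbol A a a' * CycAlg.tameSymbol A a d' *
        (CycAlg.tameSymbol A b b' * CycAlg.tameSymbol A b c') := by ring
    _ = CycAlg.tameSymbol A a b' * CycAlg.tameSymbol A a c' *
        (CycAlg.tameSymbol A b a' * CycAlg.tameSymbol A b d') := by rw [h1, h2]
    _ = _ := by ring

theorem quad_ne_zero {a b a' b' : A} (ha : a ≠ 0) (hb : b ≠ 0) (ha' : a' ≠ 0) (hb' : b' ≠ 0) :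
    quad a b a' b' ≠ 0 :=
  div_ne_zero (mul_ne_zero (sym_ne_zero hA ha ha') (sym_ne_zero hA hb hb'))
    (mul_ne_zero (sym_ne_zero hA ha hb') (sym_ne_zero hA hb ha'))

/-- Changing both fractions by units. -/
theorem quad_twist {a b a' b' c d : A} (ha : a ≠ 0) (hb : b ≠ 0) (ha' : a' ≠ 0) (hb' : b' ≠ 0)
    (hc : IsUnit c) (hd : IsUnit d) :
    quad a (b * c) a' (b' * d) = quad a b a' b' * residue A c ^ ((len b' : ℤ) - len a') *
      residue A d ^ ((len a : ℤ) - len b) := by
  have hrc : residue A c ≠ 0 := (hc.map _).ne_zero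
  have hrd : residue A d ≠ 0 := (hd.map _).ne_zero
  have hc0 := hc.ne_zero
  have hd0 := hd.ne_zero
  have hcd : CycAlg.tameSymbol A c d = 1 := by rw [sym_unit_left hA hc hd0, len_unit hd, pow_zero]
  unfold quad
  rw [sym_mul_right hA hb' hd0 ha, sym_swap_unit hA hd ha, sym_mul_left hA hb hc0 ha',
    sym_unit_left hA hc ha', sym_mul_left hA hb hc0 (mul_ne_zero hb' hd0), sym_mul_right hA hb' hd0 hb,
    sym_mul_right hA hb' hd0 hc0, sym_swap_unit hA hd hb, sym_unit_left hA hc hb', hcd, mul_one,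
    zpow_sub₀ hrc, zpow_sub₀ hrd, zpow_natCast, zpow_natCast, zpow_natCast, zpow_natCast]
  have h1 := sym_ne_zero hA ha hb'
  have h2 := sym_ne_zero hA hb ha'
  field_simp

/-- Two unit fractions have trivial symbol. -/
theorem quad_units {b c b' d : A} (hb : b ≠ 0) (hb' : b' ≠ 0) (hc : IsUnit c) (hd : IsUnit d) :
    quad (b * c) b (b' * d) b' = 1 := by
  rw [quad_congr_left hA (mul_ne_zero hb hc.ne_zero) hb hc.ne_zero one_ne_zero
      (mul_ne_zero hb' hd.ne_zero) hb' (mul_one _),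
    quad_congr_right hA hc.ne_zero one_ne_zero (mul_ne_zero hb' hd.ne_zero) hb' hd.ne_zero one_ne_zero
      (mul_one _)]
  simp [quad, sym_unit_left hA hc, sym_unit_left hA isUnit_one, hd.ne_zero, len_unit hd, len_unit isUnit_one]

/-- A symbol with a trivial fraction. -/
theorem quad_one_left {a' b' : A} (ha' : a' ≠ 0) (hb' : b' ≠ 0) : quad 1 1 a' b' = 1 := by
  simp [quad, sym_unit_left hA isUnit_one ha', sym_unit_left hA isUnit_one hb']

/-- A symbol with a trivial second fraction. -/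
theorem quad_one_right {a b : A} (ha : a ≠ 0) (hb : b ≠ 0) : quad a b 1 1 = 1 := by
  simp [quad, sym_swap_unit hA isUnit_one ha, sym_swap_unit hA isUnit_one hb]

end Groth.L22.C1.Tame
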