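import Groth.Agent.L22.C1.PullCap
import Groth.Agent.L22.C1.TameFrac
import Groth.Agent.L15.Key.Phi
import Groth.Agent.S1850
import Groth.Agent.L22.LocQuotDim

/-!
Rational sections at the generic point as fractions at any point, and transport of tame symbols.
-/

set_option autoImplicit false
set_option linter.style.haveILetI false
set_option backward.isDefEq.respectTransparency false

universe u

open CategoryTheory AlgebraicGeometry TopologicalSpace

noncomputable section

namespace Groth.L22.C1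

variable {X : Scheme.{u}}

theorem stalkSpecializes_comp_apply' (F : TopCat.Presheaf Ab.{u} X) {x y z : X} (h : x ⤳ y) (h' : y ⤳ z)
    (a : F.stalk z) : F.stalkSpecializes h (F.stalkSpecializes h' a) = F.stalkSpecializes (h.trans h') a := by
  rw [← ConcreteCategory.comp_apply, TopCat.Presheaf.stalkSpecializes_comp]

theorem stalkSpecializes_comp_ring {x y z : X} (h : x ⤳ y) (h' : y ⤳ z) (a : X.presheaf.stalk z) :
    X.presheaf.stalkSpecializes h (X.presheaf.stalkSpecializes h' a) =
      X.presheaf.stalkSpecializes (h.trans h') a := by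
  rw [← ConcreteCategory.comp_apply, TopCat.Presheaf.stalkSpecializes_comp]

variable [IsIntegral X] {L : X.Modules}

/-- The specialization from the generic point. -/
theorem gs (y : X) : genericPoint X ⤳ y := Groth.L22.Cyc.genericPoint_specializes' y

theorem sp_injective (y : X) : Function.Injective (X.presheaf.stalkSpecializes (gs y)).hom :=
  IsFractionRing.injective (X.presheaf.stalk y) X.functionField

theorem spec_injective {x ξ : X} (h : ξ ⤳ x) : Function.Injective (X.presheaf.stalkSpecializes h).hom := by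
  intro a b hab
  refine sp_injective x ?_
  have := congrArg (X.presheaf.stalkSpecializes (gs ξ)) hab
  rwa [stalkSpecializes_comp_ring, stalkSpecializes_comp_ring] at this

/-- `s = (a / b) e` at the generic point. -/
def Rep (L : X.Modules) (s : Cyc.secFibre L (genericPoint X)) {y : X} (e : L.presheaf.stalk y)
    (a b : X.presheaf.stalk y) : Prop :=
  b ≠ 0 ∧ X.presheaf.stalkSpecializes (gs y) b • s =
    X.presheaf.stalkSpecializes (gs y) a • mk L (L.presheaf.stalkSpecializes (gs y) e)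

variable (hL : PicF.IsInvertible L) {s : Cyc.secFibre L (genericPoint X)}

include hL in
theorem exists_rep (s : Cyc.secFibre L (genericPoint X)) {y : X} {e : L.presheaf.stalk y} (he : IsGen L e) :
    ∃ a b, Rep L s e a b := by
  obtain ⟨φ, rfl⟩ := exists_smul_mk (he.specializes hL (gs y)) s
  obtain ⟨a, b, hb, hab⟩ := Groth.L22.Cyc.exists_specMap_div_gen y (genericPoint X) (gs y) (X.residue _ φ)
  refine ⟨a, b, fun h => hb (by rw [h, map_zero]), ?_⟩
  rw [smul_smul]
  congr 1
  refine Groth.L22.Cyc.residue_generic_bijective.1 ?_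
  rw [map_mul]
  show Cyc.specMap y _ (gs y) b * _ = Cyc.specMap y _ (gs y) a
  rw [hab, mul_div_cancel₀ _ hb]

variable {y : X} {e : L.presheaf.stalk y} {a b : X.presheaf.stalk y}

theorem Rep.ne_zero (h : Rep L s e a b) (hs : s ≠ 0) : a ≠ 0 := by
  rintro rfl
  obtain ⟨hb, h⟩ := h
  rw [map_zero, zero_smul] at h
  have hu : IsUnit (X.presheaf.stalkSpecializes (gs y) b) :=
    (Groth.L22.Cyc.isUnit_iff_residue_ne_zero _ _).2 fun h0 => hb (Groth.L22.Cyc.specMap_injective y (gs y)
      (h0.trans (map_zero _).symm))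
  obtain ⟨v, hv⟩ := hu.exists_left_inv
  exact hs (by rw [← one_smul (X.presheaf.stalk (genericPoint X)) s, ← hv, mul_smul, h, smul_zero])

include hL in
theorem Rep.cross (he : IsGen L e) (h : Rep L s e a b) {c d : X.presheaf.stalk y} (h' : Rep L s e c d) :
    a * d = b * c := by
  refine sp_injective y (Groth.L22.Cyc.residue_generic_bijective.1 (smul_mk_inj hL (he.specializes hL (gs y)) ?_))
  show (X.presheaf.stalkSpecializes (gs y)) (a * d) • _ = (X.presheaf.stalkSpecializes (gs y)) (b * c) • _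
  rw [map_mul, map_mul, mul_comm, mul_smul, ← h.2, mul_smul, ← h'.2, smul_comm]

/-- A fraction at `x` gives one at a generization, for a generator changed by a unit. -/
theorem Rep.spec {x ξ : X} (hξ : ξ ⤳ x) {t : L.presheaf.stalk x} {A B : X.presheaf.stalk x}
    (h : Rep L s t A B) {c : X.presheaf.stalk ξ} (hc : IsUnit c) :
    Rep L s (c • L.presheaf.stalkSpecializes hξ t) (X.presheaf.stalkSpecializes hξ A)
      (X.presheaf.stalkSpecializes hξ B * c) := by
  refine ⟨mul_ne_zero ((map_ne_zero_iff _ (spec_injective hξ)).2 h.1) hc.ne_zero, ?_⟩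
  rw [map_mul, stalkSpecializes_comp_ring, stalkSpecializes_comp_ring, Groth.L15.SecOrd.stalkSpecializes_smul,
    stalkSpecializes_comp_apply']
  rw [mul_comm, mul_smul]
  exact ((congrArg (X.presheaf.stalkSpecializes (gs ξ) c • ·) h.2).trans (smul_comm _ _ _)).trans
    (congrArg (X.presheaf.stalkSpecializes (gs x) A • ·) (Submodule.Quotient.mk_smul _ _ _).symm)

variable [IsLocallyNoetherian X] {δ : X → ℤ} (hδ : Cyc.IsDimFun X δ)

include hδ hL in
/-- The divisor of a section from a fraction. -/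
theorem Rep.secDivFun_eq (he : IsGen L e) (h : Rep L s e a b) (hs : s ≠ 0) (hy : δ y + 1 = δ (genericPoint X)) :
    Cyc.secDivFun δ L (genericPoint X) s y = (Tame.len a : ℤ) - Tame.len b := by
  have ha := h.ne_zero hs
  rw [Cyc.secDivFun, dif_pos ⟨gs y, hy⟩]
  obtain ⟨φ, hφ⟩ := exists_smul_mk (he.specializes hL (gs y)) s
  have h2 := h.2
  rw [hφ, smul_smul] at h2
  have e1 := smul_mk_inj hL (he.specializes hL (gs y)) h2
  rw [map_mul] at e1
  haveI := Groth.L22.Cyc.krullDimLE_one_stalk hδ y hy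
  have hb : Cyc.specMap y _ (gs y) b ≠ 0 := fun h0 => h.1 (Groth.L22.Cyc.specMap_injective y (gs y)
      (h0.trans (map_zero _).symm))
  have e2 : X.residue (genericPoint X) φ = Cyc.specMap y _ (gs y) a / Cyc.specMap y _ (gs y) b := by
    rw [eq_div_iff hb, mul_comm]
    exact e1
  rw [hφ, secOrdAt_gen hδ hL (gs y) hy he φ, e2, Groth.L22.Cyc.ordAt_div y (gs y) ha h.1]
  rfl

omit [IsLocallyNoetherian X] in
/-- The kernel at the generic point is trivial. -/
theorem ker_specMap_generic (y : X) : RingHom.ker (Cyc.specMap y (genericPoint X) (gs y)) = ⊥ :=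
  (RingHom.injective_iff_ker_eq_bot _).1 (Groth.L22.Cyc.specMap_injective y (gs y))

include hδ in
theorem exists_dim_stalk (y : X) :
    ∃ D : ℕ, ringKrullDim (X.presheaf.stalk y) = (D : WithBot ℕ∞) ∧ δ (genericPoint X) = δ y + D := by
  obtain ⟨D, hD, -, -, h4⟩ := Groth.L22.LocQuotDim.exists_dim_locQuot y (genericPoint X) (gs y)
  refine ⟨D, ?_, h4 δ hδ⟩
  rw [← hD]
  exact (ringKrullDim_eq_of_ringEquiv
    ((Ideal.quotEquivOfEq (ker_specMap_generic y)).trans (RingEquiv.quotientBot _))).symm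

include hδ in
theorem dim_stalk {y : X} {k : ℕ} (hy : δ y + k = δ (genericPoint X)) :
    ringKrullDim (X.presheaf.stalk y) = (k : WithBot ℕ∞) := by
  obtain ⟨D, hD, hD'⟩ := exists_dim_stalk hδ y
  rw [hD, show D = k by omega]

/-- The prime of a generization. -/
def qOf {x ξ : X} (h : ξ ⤳ x) : PrimeSpectrum (X.presheaf.stalk x) :=
  ⟨RingHom.ker (Cyc.specMap x ξ h), RingHom.ker_isPrime _⟩

omit [IsIntegral X] [IsLocallyNoetherian X] in
theorem fromSpecStalk_qOf {x ξ : X} (h : ξ ⤳ x) : X.fromSpecStalk x (qOf h) = ξ :=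
  (congrArg (X.fromSpecStalk x) (PrimeSpectrum.ext (show RingHom.ker (Cyc.specMap x ξ h) =
    Ideal.comap (Cyc.specMap x ξ h) ⊥ from rfl))).trans
    (Groth.L22.LocQuotDim.fromSpecStalk_ker_specMap x ξ h ⟨⊥, Ideal.isPrime_bot⟩)

omit [IsLocallyNoetherian X] [IsIntegral X] in
theorem height_qOf {x ξ : X} (h : ξ ⤳ x) : (qOf h).asIdeal.height = ringKrullDim (X.presheaf.stalk ξ) := by
  letI := (X.presheaf.stalkSpecializes h).hom.toAlgebra
  haveI : (RingHom.ker (Cyc.specMap x ξ h)).IsPrime := RingHom.ker_isPrime _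
  haveI := Groth.L22.Cyc.isLocalization_stalkSpecializes h
  exact (IsLocalization.AtPrime.ringKrullDim_eq_height (RingHom.ker (Cyc.specMap x ξ h)) (X.presheaf.stalk ξ)).symm

include hδ in
theorem qOf_mem_ht1 {x ξ : X} (h : ξ ⤳ x) (hξ : δ ξ + 1 = δ (genericPoint X)) :
    qOf h ∈ Groth.L15.Key.ht1 (X.presheaf.stalk x) := by
  have h1 := (height_qOf h).trans (dim_stalk hδ (k := 1) (by exact_mod_cast hξ))
  exact WithBot.coe_inj.1 h1

include hδ in
/-- The local term of the key lemma, computed at the generization. -/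
theorem ordAt_tameSymbol {x ξ : X} (h : ξ ⤳ x) (hx : δ x + 1 = δ ξ) (hξ : δ ξ + 1 = δ (genericPoint X))
    {u v : X.presheaf.stalk x} (hu : u ≠ 0) (hv : v ≠ 0) :
    Cyc.ordAt x ξ h (CycAlg.tameSymbol (X.presheaf.stalk ξ) (X.presheaf.stalkSpecializes h u)
      (X.presheaf.stalkSpecializes h v)) = Groth.L15.Key.phi (qOf h) u v := by
  letI := (X.presheaf.stalkSpecializes h).hom.toAlgebra
  haveI : (qOf h).asIdeal.IsPrime := (qOf h).isPrime
  haveI : IsLocalization.AtPrime (X.presheaf.stalk ξ) (qOf h).asIdeal :=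
    Groth.L22.Cyc.isLocalization_stalkSpecializes h
  let e := IsLocalization.algEquiv (qOf h).asIdeal.primeCompl (Localization.AtPrime (qOf h).asIdeal)
    (X.presheaf.stalk ξ)
  letI : Algebra (Localization.AtPrime (qOf h).asIdeal) (X.presheaf.stalk ξ) := e.toRingHom.toAlgebra
  have he : ∀ z, algebraMap (Localization.AtPrime (qOf h).asIdeal) (X.presheaf.stalk ξ) z = e z := fun z => rfl
  haveI : IsLocalHom (algebraMap (Localization.AtPrime (qOf h).asIdeal) (X.presheaf.stalk ξ)) :=
    ⟨fun z hz => (MulEquiv.isUnit_map e).1 (by simpa [he] using hz)⟩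
  let el : Localization.AtPrime (qOf h).asIdeal ≃ₗ[Localization.AtPrime (qOf h).asIdeal] X.presheaf.stalk ξ :=
    { e.toAddEquiv with map_smul' := fun r z => map_mul e r z }
  haveI : Module.Flat (Localization.AtPrime (qOf h).asIdeal) (X.presheaf.stalk ξ) :=
    Module.Flat.of_linearEquiv el.symm
  have hd : ringKrullDim (Localization.AtPrime (qOf h).asIdeal) = 1 :=
    Groth.L15.Key.dim_loc (qOf_mem_ht1 hδ h hξ)
  have hd' : ringKrullDim (X.presheaf.stalk ξ) = 1 := dim_stalk hδ (k := 1) (by exact_mod_cast hξ)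
  have hu' := Groth.L15.Key.map_nzd_loc (qOf h) (mem_nonZeroDivisors_of_ne_zero hu)
  have hv' := Groth.L15.Key.map_nzd_loc (qOf h) (mem_nonZeroDivisors_of_ne_zero hv)
  have key := Groth.Agent.S1850.result _ (X.presheaf.stalk ξ) hd hd' _ _ hu' hv'
  have hmax : Ideal.map (algebraMap (Localization.AtPrime (qOf h).asIdeal) (X.presheaf.stalk ξ))
      (IsLocalRing.maximalIdeal _) = IsLocalRing.maximalIdeal (X.presheaf.stalk ξ) :=
    IsLocalRing.map_maximalIdeal_of_surjective _ e.surjective
  haveI : IsSimpleModule (X.presheaf.stalk ξ) (X.presheaf.stalk ξ ⧸ IsLocalRing.maximalIdeal (X.presheaf.stalk ξ)) :=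
    isSimpleModule_iff_isCoatom.2 (IsLocalRing.maximalIdeal.isMaximal _).out
  rw [hmax, Module.length_eq_one] at key
  rw [show (1 : ℕ∞).toNat = 1 from rfl, pow_one, he, he, e.commutes, e.commutes] at key
  change Cyc.ordAt x ξ h (CycAlg.tameSymbol (X.presheaf.stalk ξ) (algebraMap (X.presheaf.stalk x) _ u)
    (algebraMap (X.presheaf.stalk x) _ v)) = _
  rw [← key, Groth.L15.Key.phi]
  have hz := Groth.Agent.S1848.symbol_ne_zero hd _ _ hu' hv'
  generalize CycAlg.tameSymbol (Localization.AtPrime (qOf h).asIdeal) _ _ = z at hz ⊢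
  obtain ⟨a, b, hb, rfl⟩ := IsFractionRing.div_surjective (A := X.presheaf.stalk x ⧸ (qOf h).asIdeal) z
  obtain ⟨a, rfl⟩ := Ideal.Quotient.mk_surjective a
  obtain ⟨b, rfl⟩ := Ideal.Quotient.mk_surjective b
  have hb0 : (Ideal.Quotient.mk (qOf h).asIdeal b) ≠ 0 := nonZeroDivisors.ne_zero hb
  have ha0 : (Ideal.Quotient.mk (qOf h).asIdeal a) ≠ 0 := fun h0 => hz (by rw [h0, map_zero, zero_div])
  haveI : Ring.KrullDimLE 1 (X.presheaf.stalk x ⧸ (qOf h).asIdeal) :=
    Groth.L22.Cyc.krullDimLE_one_locQuot hδ x ξ h hx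
  have hm : ∀ c, IsLocalRing.ResidueField.map (algebraMap (Localization.AtPrime (qOf h).asIdeal) (X.presheaf.stalk ξ))
      (algebraMap (X.presheaf.stalk x ⧸ (qOf h).asIdeal) (qOf h).asIdeal.ResidueField (Ideal.Quotient.mk _ c)) =
        Cyc.specMap x ξ h c := fun c => by
    rw [Ideal.algebraMap_quotient_residueField_mk]
    show IsLocalRing.residue _ (e (algebraMap _ _ c)) = _
    rw [e.commutes]
    rfl
  have hne : ∀ c, (Ideal.Quotient.mk (qOf h).asIdeal c) ≠ 0 → Cyc.specMap x ξ h c ≠ 0 := fun c hc h0 =>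
    hc (Ideal.Quotient.eq_zero_iff_mem.2 h0)
  rw [map_div₀, hm, hm, Groth.L22.OrdDet.ordFrac_div ha0 hb0,
    Groth.L22.Cyc.ordAt_div_gen hδ x ξ h hx (hne a ha0) (hne b hb0)]
  rfl

end Groth.L22.C1
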