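import Groth.Agent.L22.C1.Gysin
import Groth.Agent.L22.C1.Integral

/-!
The Gysin pullback of the divisor of a rational section along an effective Cartier divisor.
-/

set_option autoImplicit false
set_option linter.style.haveILetI false
set_option backward.isDefEq.respectTransparency false

universe u

open CategoryTheory AlgebraicGeometry TopologicalSpace

noncomputable section

namespace Groth.L22.C1

variable {X D : Scheme.{u}} {L : X.Modules}

theorem zeroSectionFun_apply (δ : X → ℤ) (k : ℤ) (hL : PicF.IsInvertible L) (s : L.presheaf.obj (Opposite.op ⊤))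
    {x : X} {t : L.presheaf.stalk x} (ht : IsGen L t) {f : X.presheaf.stalk x}
    (hf : L.presheaf.germ ⊤ x trivial s = f • t) :
    Cyc.zeroSectionFun δ k L s x = if δ x = k then
      ((Module.length (X.presheaf.stalk x) (↥(X.presheaf.stalk x) ⧸ Ideal.span {f})).toNat : ℤ) else 0 := by
  classical
  unfold Cyc.zeroSectionFun
  split_ifs with h h1 h2
  · obtain ⟨c, hc, hct⟩ := ht.exists_unit hL (show IsGen L (Classical.choose h1) from Classical.choose_spec h1)
    have h3 := Classical.choose_spec h2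
    have h4 : f • t = (Classical.choose h2 * c) • t :=
      hf.symm.trans (h3.trans ((congrArg (Classical.choose h2 • ·) hct.symm).trans (smul_smul _ _ _)))
    rw [show Ideal.span {f} = Ideal.span {Classical.choose h2} by
      rw [ht.injective hL h4]
      exact Ideal.span_singleton_mul_right_unit hc _]
  · exact absurd (((show IsGen L (Classical.choose h1) from Classical.choose_spec h1).exists_smul _).imp
      fun f h => h.symm) h2
  · exact absurd ⟨t, ht⟩ h1
  · rfl

variable (i : D ⟶ X) [IsClosedImmersion i]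

/-- The multiplicity of the zero scheme is the length of its local ring. -/
theorem zeroSectionFun_zeroScheme (δ : X → ℤ) (k : ℤ) (hL : PicF.IsInvertible L)
    (s : L.presheaf.obj (Opposite.op ⊤)) (hD : Cyc.IsZeroSchemeOf i L s) (d : D) :
    Cyc.zeroSectionFun δ k L s (i d) = Cyc.subschemeFun (fun d => δ (i d)) k (𝟙 D) d := by
  obtain ⟨t, f, ht, hf, hker⟩ := hD.2 d
  rw [zeroSectionFun_apply δ k hL s ht hf, subschemeFun_id]
  refine if_congr Iff.rfl ?_ rfl
  letI := (i.stalkMap d).hom.toAlgebra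
  have hsurj : Function.Surjective (algebraMap (X.presheaf.stalk (i d)) (D.presheaf.stalk d)) :=
    i.stalkMap_surjective d
  have e : (↥(X.presheaf.stalk (i d)) ⧸ Ideal.span {f}) ≃ₗ[X.presheaf.stalk (i d)] D.presheaf.stalk d :=
    (Submodule.quotEquivOfEq _ _ (by rw [← hker]; rfl)).trans
      ((Algebra.linearMap (X.presheaf.stalk (i d)) (D.presheaf.stalk d)).quotKerEquivOfSurjective hsurj)
  rw [e.length_eq, Module.length_eq_of_surjective (R := D.presheaf.stalk d) (S := X.presheaf.stalk (i d)) hsurj]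

variable [IsIntegral X] [IsLocallyNoetherian X] {δ : X → ℤ} (hδ : Cyc.IsDimFun X δ) {N : X.Modules}

open Classical in
include hδ in
theorem gysin_secDiv (n : ℤ) (hn : δ (genericPoint X) = n) (hL : PicF.IsInvertible L)
    (hN : PicF.IsInvertible N) (s : L.presheaf.obj (Opposite.op ⊤))
    (hreg : ∀ x : X, Function.Injective (fun a : X.presheaf.stalk x => a • (L.presheaf.germ ⊤ x trivial) s))
    (hD : Cyc.IsZeroSchemeOf i L s) (t : Cyc.secFibre N (genericPoint X)) (ht : t ≠ 0)
    (w : (ξ : X) → Cyc.secFibre L ξ) (hw : ∀ ξ, w ξ ≠ 0)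
    (u : (d : D) → Cyc.secFibre ((Scheme.Modules.pullback i).obj N) d) (hu : ∀ d, u d ≠ 0)
    (γ₁ γ₂ : AlgebraicCycle D ℤ)
    (h₁ : ∀ d : D, γ₁ d =
      Cyc.c1CapFun δ L (Cyc.secDivFun δ N (genericPoint X) t) (Cyc.gysinChoice L s w) (i d))
    (h₂ : ⇑γ₂ = Cyc.c1CapFun (fun d => δ (i d)) ((Scheme.Modules.pullback i).obj N)
      (Cyc.subschemeFun (fun d => δ (i d)) (n - 1) (𝟙 D)) u) :
    Cyc.RatEquiv (fun d => δ (i d)) (n - 2) γ₁ γ₂ := by
  haveI : IsLocallyNoetherian D := LocallyOfFiniteType.isLocallyNoetherian i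
  have hdD := Groth.L22.Cyc.isDimFun_closedImmersion i hδ
  have hN' := Groth.L18.Ample.isInvertible_pullback i hN
  have hgne : L.presheaf.germ ⊤ (genericPoint X) trivial s ≠ 0 := fun h0 => one_ne_zero (hreg (genericPoint X) (a₁ := 1) (a₂ := 0) (by simp [h0]))
  have hmk : mk L (L.presheaf.germ ⊤ (genericPoint X) trivial s) ≠ 0 := fun h0 =>
    hgne ((Groth.L15.SecOrd.mk_bijective L).1 (h0.trans (Submodule.Quotient.mk_zero _).symm))
  have hη : Cyc.gysinChoice L s w (genericPoint X) = mk L (L.presheaf.germ ⊤ (genericPoint X) trivial s) :=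
    if_pos hmk
  choose eN heN using fun ξ : X => exists_isGen hN ξ
  let v : (ξ : X) → Cyc.secFibre N ξ := fun ξ => mk N (eN ξ)
  have hv : ∀ ξ, v ξ ≠ 0 := fun ξ => mk_gen_ne_zero hN (heN ξ)
  have hG := gysinChoice_ne_zero s w hw
  let tN : (ξ : X) → Cyc.secFibre N ξ := Function.update v (genericPoint X) t
  have htN : ∀ ξ, tN ξ ≠ 0 := fun ξ => by
    by_cases h : ξ = genericPoint X
    · subst h; simp only [tN, Function.update_self]; exact ht
    · simp only [tN, Function.update_of_ne h]; exact hv ξ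
  obtain ⟨α, hα, hαZ⟩ := exists_cycle_secDiv hδ hL (mk L (L.presheaf.germ ⊤ (genericPoint X) trivial s)) hmk
  have hout : ∀ ξ, ξ ∉ Set.range i → α ξ = 0 := fun ξ hξ => by
    rw [hα, ← hη]
    exact secDivFun_gysin_eq_zero s i hδ hL hD w _ hξ
  have hαD : ∀ d, α (i d) = Cyc.subschemeFun (fun d => δ (i d)) (n - 1) (𝟙 D) d := fun d => by
    rw [hα, secDivFun_generic hδ hL n hn s hgne, zeroSectionFun_zeroScheme i δ (n - 1) hL s hD]
  obtain ⟨α', hα'⟩ : ∃ α' : AlgebraicCycle D ℤ, ⇑α' = Cyc.subschemeFun (fun d => δ (i d)) (n - 1) (𝟙 D) := by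
    refine exists_cycle _ fun d => ?_
    obtain ⟨W, hW, hdW, -⟩ := exists_isAffineOpen_mem_and_subset (x := i d) (U := ⊤) trivial
    exact ⟨i ⁻¹ᵁ W, hdW, ((α.locallyFiniteSupport.finite_inter_support_of_isCompact hW.isCompact).preimage
      i.isClosedEmbedding.injective.injOn).subset fun z hz => ⟨hz.2, by
        show α (i z) ≠ 0
        rw [hαD]; exact hz.1⟩⟩
  have hα'Z : α' ∈ Cyc.Zk D (fun d => δ (i d)) (n - 2 + 1) := fun d hd => by
    rw [hα', subschemeFun_id, if_neg fun h => hd (show δ (i d) = n - 2 + 1 by omega)]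
  obtain ⟨γ₂', hγ₂'⟩ := exists_cycle_c1Cap hdD hN' α' (pullSec i v)
    fun d => pullSec_ne_zero i hN hN' v d (hv _)
  refine ratEquiv_trans _ ?_ (c1Cap_ratEquiv _ hdD hN' (n - 2) α' hα'Z (pullSec i v) u
    (fun d => pullSec_ne_zero i hN hN' v d (hv _)) hu γ₂' γ₂ hγ₂' (by rw [h₂, hα']))
  have h := (ratOn_comm hδ (genericPoint X) hL hN (Cyc.gysinChoice L s w) (Cyc.gysinChoice L s w) tN v
    hG hG htN hv (Set.range i) fun ξ hξ h _ => Or.inl (gysinChoice_spec s i hL hD w h hξ))
  rw [hn] at h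
  refine h.comap i hδ Set.inter_subset_right _ fun d => ?_
  rw [Function.locallyFinsuppWithin.coe_sub, Pi.sub_apply, h₁ d, hγ₂', hη, ← hα,
    c1CapFun_closedImmersion i hδ hN _ hout v hv d]
  congr 2
  · simp only [tN, Function.update_self]
  · rw [hα']
    exact funext fun z => (hαD z).symm

end Groth.L22.C1
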