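import Groth.Agent.L22.C1.GysinDiv
import Groth.Agent.L07.AssFibreProd
import Groth.Agent.L15.Ref.Reflexive
import Mathlib.LinearAlgebra.TensorProduct.Quotient
import Mathlib.RingTheory.Artinian.Module

/-!
The Gysin pullback of the cycle of a coherent module.
-/

set_option autoImplicit false
set_option linter.style.haveILetI false
set_option maxSynthPendingDepth 3
set_option synthInstance.maxHeartbeats 400000
set_option backward.isDefEq.respectTransparency false
set_option backward.isDefEq.respectTransparency.types false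

universe u

open CategoryTheory AlgebraicGeometry TopologicalSpace IsLocalRing Groth.L22.QuotLength TensorProduct

noncomputable section

namespace Groth.L22.C1

open Groth.L22.IntMult (ptPrime ptPrime_asIdeal specializes_fromSpecStalk eq_ptPrime fromSpecStalk_ptPrime
  mem_support_iff_nontrivial locLen_stalk sheafFun_ne_zero)

variable {X D : Scheme.{u}} (i : D ⟶ X) [IsClosedImmersion i]

/-- The stalk of a restriction to a hypersurface. -/
theorem length_stalk_pullback_hyper (F : X.Modules) (d : D) (f : X.presheaf.stalk (i d))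
    (hker : RingHom.ker (i.stalkMap d).hom = Ideal.span {f}) :
    Module.length (D.presheaf.stalk d) (((Scheme.Modules.pullback i).obj F).presheaf.stalk d) =
      Module.length (X.presheaf.stalk (i d)) (↥(F.presheaf.stalk (i d)) ⧸
        LinearMap.range (LinearMap.lsmul (X.presheaf.stalk (i d)) (F.presheaf.stalk (i d)) f)) := by
  letI := (i.stalkMap d).hom.toAlgebra
  have hsurj : Function.Surjective (algebraMap (X.presheaf.stalk (i d)) (D.presheaf.stalk d)) :=
    i.stalkMap_surjective d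
  let el : ((Scheme.Modules.pullback i).obj F).presheaf.stalk d ≃ₗ[D.presheaf.stalk d]
      D.presheaf.stalk d ⊗[X.presheaf.stalk (i d)] F.presheaf.stalk (i d) :=
    ((Groth.L00.PullStalk.stalkIso i d).app F).toLinearEquiv
  have e1 : (↥(X.presheaf.stalk (i d)) ⧸ Ideal.span {f}) ≃ₗ[X.presheaf.stalk (i d)] D.presheaf.stalk d :=
    (Submodule.quotEquivOfEq _ _ (by rw [← hker]; rfl)).trans
      ((Algebra.linearMap (X.presheaf.stalk (i d)) (D.presheaf.stalk d)).quotKerEquivOfSurjective hsurj)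
  have hrange : LinearMap.range (LinearMap.lsmul (X.presheaf.stalk (i d)) (F.presheaf.stalk (i d)) f) =
      Ideal.span {f} • (⊤ : Submodule (X.presheaf.stalk (i d)) (F.presheaf.stalk (i d))) := by
    rw [Submodule.ideal_span_singleton_smul]
    exact Submodule.ext fun v => ⟨fun ⟨w, hw⟩ => ⟨w, trivial, hw⟩, fun ⟨w, _, hw⟩ => ⟨w, hw⟩⟩
  rw [el.length_eq, ← Module.length_eq_of_surjective (R := D.presheaf.stalk d) (S := X.presheaf.stalk (i d)) hsurj]
  exact ((TensorProduct.congr e1.symm (LinearEquiv.refl _ _)).trans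
    ((TensorProduct.quotTensorEquivQuotSMul (F.presheaf.stalk (i d)) (Ideal.span {f})).trans
      (Submodule.quotEquivOfEq _ _ hrange.symm))).length_eq

variable [IsLocallyNoetherian X] {δ : X → ℤ} (hδ : Cyc.IsDimFun X δ) {L : X.Modules}

include hδ in
/-- A regular multiplier does not vanish at the top dimensional points of the support. -/
theorem residue_ne_zero_of_regular {F : X.Modules} (hF : Coh.IsCoh F) (k : ℤ)
    (hdim : ∀ x : X, Nontrivial (F.presheaf.stalk x) → δ x ≤ k + 1) {ξ : X} (hξ : δ ξ = k + 1)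
    (hnt : Nontrivial (F.presheaf.stalk ξ)) {a : X.presheaf.stalk ξ}
    (hinj : Function.Injective fun m : F.presheaf.stalk ξ => a • m) : X.residue ξ a ≠ 0 := by
  haveI := hnt
  haveI := Groth.L15.Ref.finite_stalk hF ξ
  haveI : IsNoetherianRing (X.presheaf.stalk ξ) := inferInstance
  have hl : Module.length (X.presheaf.stalk ξ) (F.presheaf.stalk ξ) ≠ ⊤ := by
    refine length_ne_top_of_support _ fun q hq => ?_
    by_contra hq'
    have h1 := delta_lt_of_lt hδ (show q < closedPoint (X.presheaf.stalk ξ) from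
      lt_of_le_of_ne (le_maximalIdeal q.2.ne_top) fun e => hq' (congrArg PrimeSpectrum.asIdeal e))
    rw [Scheme.fromSpecStalk_closedPoint, hξ] at h1
    have := hdim _ ((mem_support_iff_nontrivial hF q).1 hq)
    omega
  haveI : IsFiniteLength (X.presheaf.stalk ξ) (F.presheaf.stalk ξ) := Module.length_ne_top_iff.1 hl
  haveI : IsArtinian (X.presheaf.stalk ξ) (F.presheaf.stalk ξ) :=
    (isFiniteLength_iff_isNoetherian_isArtinian.1 ‹IsFiniteLength _ _›).2
  intro h0
  have hsurj := IsArtinian.surjective_of_injective_endomorphism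
    (LinearMap.lsmul (X.presheaf.stalk ξ) (F.presheaf.stalk ξ) a) hinj
  have htop : (⊤ : Submodule (X.presheaf.stalk ξ) (F.presheaf.stalk ξ)) ≤ maximalIdeal (X.presheaf.stalk ξ) • ⊤ :=
    fun v _ => by
      obtain ⟨w, rfl⟩ := hsurj v
      exact Submodule.smul_mem_smul ((IsLocalRing.residue_eq_zero_iff a).1 h0) trivial
  exact top_ne_bot (Submodule.eq_bot_of_le_smul_of_le_jacobson_bot _ _ Module.Finite.fg_top htop
    (IsLocalRing.jacobson_eq_maximalIdeal ⊥ bot_ne_top).ge)

variable (hL : PicF.IsInvertible L)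

include hδ hL in
/-- Only the top dimensional points and those of dimension `k` on the zero scheme need regularity. -/
theorem gysin_sheafFun' (s : L.presheaf.obj (Opposite.op ⊤)) (hD : Cyc.IsZeroSchemeOf i L s) (k : ℤ)
    (F : X.Modules) (hF : Coh.IsCoh F) (hdim : ∀ x : X, Nontrivial (F.presheaf.stalk x) → δ x ≤ k + 1)
    (hout : ∀ ξ : X, δ ξ = k + 1 → Nontrivial (F.presheaf.stalk ξ) → ξ ∉ Set.range i)
    (hreg : ∀ d : D, δ (i d) = k → ∀ (t : L.presheaf.stalk (i d)) (f : X.presheaf.stalk (i d)),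
      Submodule.span (X.presheaf.stalk (i d)) {t} = ⊤ → (L.presheaf.germ ⊤ (i d) trivial) s = f • t →
        Function.Injective (fun m : F.presheaf.stalk (i d) => f • m))
    (w : (ξ : X) → Cyc.secFibre L ξ) (d : D) :
    Cyc.c1CapFun δ L (Cyc.sheafFun δ (k + 1) F) (Cyc.gysinChoice L s w) (i d) =
      Cyc.sheafFun (fun d => δ (i d)) k ((Scheme.Modules.pullback i).obj F) d := by
  classical
  by_cases hy : δ (i d) = k
  swap
  · rw [Cyc.sheafFun, if_neg hy]
    refine finsum_eq_zero_of_forall_eq_zero fun ξ => ?_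
    by_contra h
    obtain ⟨h1, h2⟩ := mul_ne_zero_iff.1 h
    exact hy (by have := (sheafFun_ne_zero h1).1; have := (secDivFun_ne_zero δ h2).2; omega)
  set y := i d with hyd
  obtain ⟨t, f, ht, hf, hker⟩ := hD.2 d
  conv_rhs => rw [Cyc.sheafFun, if_pos (show δ (i d) = k from hy), length_stalk_pullback_hyper i F d f hker]
  haveI := Groth.L15.Ref.finite_stalk hF y
  have hpt : ∀ p : PrimeSpectrum (X.presheaf.stalk y), X.fromSpecStalk y p ⤳ y := fun p => specializes_fromSpecStalk p
  have htop : ∀ p ∈ Module.support (X.presheaf.stalk y) (F.presheaf.stalk y),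
      p.asIdeal ≠ maximalIdeal (X.presheaf.stalk y) → δ (X.fromSpecStalk y p) = k + 1 := fun p hps hp => by
    have h1 := delta_lt_of_lt hδ (show p < closedPoint (X.presheaf.stalk y) from
      lt_of_le_of_ne (le_maximalIdeal p.2.ne_top) fun h => hp (congrArg PrimeSpectrum.asIdeal h))
    rw [Scheme.fromSpecStalk_closedPoint, hy] at h1
    have := hdim _ ((mem_support_iff_nontrivial hF p).1 hps)
    omega
  have hsd : Module.supportDim (X.presheaf.stalk y) (F.presheaf.stalk y) ≤ 1 := by
    rw [Module.supportDim, Order.krullDim]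
    refine iSup_le fun l => ?_
    rw [show ((1 : WithBot ℕ∞)) = ((1 : ℕ) : WithBot ℕ∞) from rfl, Nat.cast_le]
    by_contra hl
    have h01 : (l ⟨0, by omega⟩).1 < (l ⟨1, by omega⟩).1 := l.strictMono (Fin.mk_lt_mk.2 Nat.zero_lt_one)
    have h12 : (l ⟨1, by omega⟩).1 < (l ⟨2, by omega⟩).1 := l.strictMono (Fin.mk_lt_mk.2 Nat.one_lt_two)
    have h3 := delta_lt_of_lt hδ h01
    have h4 := delta_lt_of_lt hδ h12
    have h5 := hdim _ ((mem_support_iff_nontrivial hF _).1 (l ⟨0, by omega⟩).2)
    have h6 := htop _ (l ⟨1, by omega⟩).2 fun h => absurd ((le_maximalIdeal (l ⟨2, by omega⟩).1.2.ne_top).trans h.ge) h12.not_ge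
    omega
  have hsec : ∀ (ξ : X) (h : ξ ⤳ y), mk L (L.presheaf.germ ⊤ ξ trivial s) =
      (X.presheaf.stalkSpecializes h f) • mk L (L.presheaf.stalkSpecializes h t) := fun ξ h => by
    rw [← TopCat.Presheaf.germ_stalkSpecializes_apply L.presheaf (U := ⊤) (y := y) trivial h s, hf,
      Groth.L15.SecOrd.stalkSpecializes_smul]
    exact Submodule.Quotient.mk_smul _ _ _
  have hgen : IsGen L t := ht
  have hne : ∀ (ξ : X) (h : ξ ⤳ y), δ ξ = k + 1 → Nontrivial (F.presheaf.stalk ξ) →
      Cyc.specMap y ξ h f ≠ 0 := fun ξ h hξ hnt h0 => by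
    refine hout ξ hξ hnt (hD.1.ge ?_)
    show mk L _ = 0
    rw [hsec ξ h, ← Submodule.Quotient.mk_smul]
    exact (mk_smul_eq_zero_iff hL (hgen.specializes hL h) _).2 h0
  have hu : ∀ (ξ : X) (h : ξ ⤳ y), δ ξ = k + 1 → Nontrivial (F.presheaf.stalk ξ) →
      Cyc.gysinChoice L s w ξ = (X.presheaf.stalkSpecializes h f) • mk L (L.presheaf.stalkSpecializes h t) :=
    fun ξ h hξ hnt => by
      rw [← hsec ξ h]
      refine if_pos fun h0 => hne ξ h hξ hnt ?_
      have h1 : mk L (L.presheaf.germ ⊤ ξ trivial s) = 0 := h0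
      rw [hsec ξ h, ← Submodule.Quotient.mk_smul] at h1
      exact (mk_smul_eq_zero_iff hL (hgen.specializes hL h) _).1 h1
  have h0 : ∀ p ∈ Module.support (X.presheaf.stalk y) (F.presheaf.stalk y), f ∈ p.asIdeal →
      p.asIdeal = maximalIdeal (X.presheaf.stalk y) := fun p hps hfp => by
    by_contra hp
    refine hne _ (hpt p) (htop p hps hp) ((mem_support_iff_nontrivial hF p).1 hps) ?_
    rw [eq_ptPrime rfl (hpt p), ptPrime_asIdeal] at hfp
    exact hfp
  have hkerM : LinearMap.ker (LinearMap.lsmul (X.presheaf.stalk y) (F.presheaf.stalk y) f) = ⊥ :=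
    LinearMap.ker_eq_bot.2 (hreg d hy t f ht hf)
  have hterm : ∀ p ∈ supp' (R := X.presheaf.stalk y) (F.presheaf.stalk y), term f (F.presheaf.stalk y) p ≠ ⊤ ∧
      (((term f (F.presheaf.stalk y) p).toNat : ℤ) = Cyc.sheafFun δ (k + 1) F (X.fromSpecStalk y p) *
        Cyc.secDivFun δ L (X.fromSpecStalk y p) (Cyc.gysinChoice L s w _) y) := by
    intro p hp
    have hnt := (mem_support_iff_nontrivial hF p).1 hp.1
    obtain ⟨ξ, hξd⟩ : ∃ ξ, X.fromSpecStalk y p = ξ := ⟨_, rfl⟩
    rw [hξd] at hnt ⊢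
    have h : ξ ⤳ y := hξd ▸ hpt p
    have hξ : δ ξ = k + 1 := hξd ▸ htop p hp.1 hp.2
    have hpp : p = ptPrime h := eq_ptPrime hξd h
    have hord : Ring.ord ((X.presheaf.stalk y) ⧸ p.asIdeal) (Ideal.Quotient.mk p.asIdeal f) =
        Ring.ord (Cyc.LocQuot y ξ h) (Ideal.Quotient.mk _ f) :=
      ord_quot_congr (by rw [hpp]; exact ptPrime_asIdeal h) f
    have hlen : locLen (F.presheaf.stalk y) p = Module.length (X.presheaf.stalk ξ) (F.presheaf.stalk ξ) := by
      conv_lhs => rw [hpp]
      exact locLen_stalk hF h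
    have ho := Groth.L22.Cyc.ord_locQuot_ne_top hδ (h := h) (by omega) (hne ξ h hξ hnt)
    haveI := Groth.L15.Ref.finite_stalk hF ξ
    have hfl : Module.length (X.presheaf.stalk ξ) (F.presheaf.stalk ξ) ≠ ⊤ := by
      refine length_ne_top_of_support _ fun q hq => ?_
      by_contra hq'
      have h1 := delta_lt_of_lt hδ (show q < closedPoint (X.presheaf.stalk ξ) from
        lt_of_le_of_ne (le_maximalIdeal q.2.ne_top) fun e => hq' (congrArg PrimeSpectrum.asIdeal e))
      rw [Scheme.fromSpecStalk_closedPoint, hξ] at h1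
      have := hdim _ ((mem_support_iff_nontrivial hF q).1 hq)
      omega
    refine ⟨?_, ?_⟩
    · rw [term, hord, hlen]
      exact WithTop.mul_ne_top ho hfl
    · rw [term, hord, hlen, Cyc.sheafFun, if_pos hξ, Cyc.secDivFun, dif_pos ⟨h, by omega⟩, hu ξ h hξ hnt,
        secOrdAt_gen hδ hL h (by omega) hgen, ← Groth.L22.Cyc.specMap_eq_residue]
      have h5 := Groth.L22.Cyc.ordAt_div_gen hδ y ξ h (by omega) (a := f) (b := 1) (hne ξ h hξ hnt)
        (by rw [map_one]; exact one_ne_zero)
      rw [map_one, div_one, map_one, Ring.ord_one] at h5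
      rw [h5, ENat.toNat_mul, Nat.cast_mul]
      rw [ENat.toNat_zero]
      push_cast
      ring
  have hfin := finite_supp' (R := X.presheaf.stalk y) (F.presheaf.stalk y) hsd
  have main := length_quot_eq (R := X.presheaf.stalk y) (F.presheaf.stalk y) f hsd h0
  rw [hkerM, Module.length_bot, zero_add] at main
  rw [main, finsum_mem_eq_finite_toFinset_sum _ hfin,
    ENat.toNat_sum fun p hp => (hterm p (hfin.mem_toFinset.1 hp)).1, Nat.cast_sum,
    Finset.sum_congr rfl fun p hp => (hterm p (hfin.mem_toFinset.1 hp)).2]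
  refine (finsum_eq_sum_of_support_subset (fun ξ => Cyc.sheafFun δ (k + 1) F ξ *
      Cyc.secDivFun δ L ξ (Cyc.gysinChoice L s w ξ) y)
      (s := hfin.toFinset.image (fun p => X.fromSpecStalk y p)) fun ξ hξ => ?_).trans
    (Finset.sum_image fun a _ b _ e => (X.fromSpecStalk y).isEmbedding.injective e)
  obtain ⟨h1, h2⟩ := mul_ne_zero_iff.1 hξ
  obtain ⟨h, hd⟩ := secDivFun_ne_zero δ h2
  refine Finset.mem_coe.2 (Finset.mem_image.2 ⟨ptPrime h, hfin.mem_toFinset.2
    ⟨(mem_support_iff_nontrivial hF _).2 (by rw [fromSpecStalk_ptPrime]; exact (sheafFun_ne_zero h1).2),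
      fun hm => ?_⟩, fromSpecStalk_ptPrime h⟩)
  have hpm : ptPrime h = closedPoint (X.presheaf.stalk y) := PrimeSpectrum.ext hm
  have he := fromSpecStalk_ptPrime h
  rw [hpm, Scheme.fromSpecStalk_closedPoint] at he
  rw [← he] at hd
  omega


include hδ hL in
theorem gysin_sheafFun (s : L.presheaf.obj (Opposite.op ⊤)) (hD : Cyc.IsZeroSchemeOf i L s) (k : ℤ)
    (F : X.Modules) (hF : Coh.IsCoh F) (hdim : ∀ x : X, Nontrivial (F.presheaf.stalk x) → δ x ≤ k + 1)
    (hreg : ∀ (x : X) (t : L.presheaf.stalk x) (f : X.presheaf.stalk x),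
      Submodule.span (X.presheaf.stalk x) {t} = ⊤ → (L.presheaf.germ ⊤ x trivial) s = f • t →
        Function.Injective (fun m : F.presheaf.stalk x => f • m))
    (w : (ξ : X) → Cyc.secFibre L ξ) (d : D) :
    Cyc.c1CapFun δ L (Cyc.sheafFun δ (k + 1) F) (Cyc.gysinChoice L s w) (i d) =
      Cyc.sheafFun (fun d => δ (i d)) k ((Scheme.Modules.pullback i).obj F) d := by
  refine gysin_sheafFun' i hδ hL s hD k F hF hdim (fun ξ hξ hnt hr => ?_) (fun d _ => hreg (i d)) w d
  obtain ⟨t, ht⟩ := exists_isGen hL ξ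
  obtain ⟨f, hf⟩ := ht.exists_smul (L.presheaf.germ ⊤ ξ trivial s)
  refine residue_ne_zero_of_regular hδ hF k hdim hξ hnt (hreg ξ t f ht hf.symm) ?_
  have h0 : mk L (L.presheaf.germ ⊤ ξ trivial s) = 0 := hD.1.le hr
  rw [← hf] at h0
  exact (mk_smul_eq_zero_iff hL ht f).1 h0

end Groth.L22.C1
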