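import Groth.Agent.L22.C1.Basic
import Groth.Agent.L18.Ample
import Groth.Agent.L19.AmpleAffineLocus

/-!
The cap with the first Chern class of the structure sheaf.
-/

set_option autoImplicit false
set_option linter.style.haveILetI false
set_option backward.isDefEq.respectTransparency false

universe u

open CategoryTheory AlgebraicGeometry TopologicalSpace

noncomputable section

namespace Groth.L22.C1

variable {X : Scheme.{u}} {L : X.Modules}

/-- A global frame gives sections with empty divisors. -/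
theorem secDivFun_frame [IsLocallyNoetherian X] {δ : X → ℤ} (hδ : Cyc.IsDimFun X δ) (hL : PicF.IsInvertible L)
    {e : Γ(L, (⊤ : X.Opens))} (he : Groth.L18.Frame.IsFrame L ⊤ e) (ξ x : X) :
    Cyc.secDivFun δ L ξ (mk L (L.presheaf.germ ⊤ ξ trivial e)) x = 0 := by
  unfold Cyc.secDivFun
  split_ifs with h
  · have h1 := secOrdAt_gen hδ hL h.1 h.2 (isGen_germ he (x := x) trivial) 1
    rw [one_smul, TopCat.Presheaf.germ_stalkSpecializes_apply, map_one] at h1
    rw [h1]
    have h2 := Groth.L22.Cyc.ordAt_of_isUnit hδ x ξ h.1 h.2 (a := 1) isUnit_one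
    rwa [map_one] at h2
  · rfl

theorem c1Cap_frame [IsLocallyNoetherian X] (δ : X → ℤ) (hδ : Cyc.IsDimFun X δ) (hL : PicF.IsInvertible L)
    {e : Γ(L, (⊤ : X.Opens))} (he : Groth.L18.Frame.IsFrame L ⊤ e) (k : ℤ) (α : AlgebraicCycle X ℤ)
    (hα : α ∈ Cyc.Zk X δ (k + 1)) (s : (ξ : X) → Cyc.secFibre L ξ) (hs : ∀ ξ, s ξ ≠ 0) (γ : AlgebraicCycle X ℤ)
    (hγ : ⇑γ = Cyc.c1CapFun δ L ⇑α s) : Cyc.RatEquivZero δ k γ := by
  have h := c1Cap_ratEquiv δ hδ hL k α hα s (fun ξ => mk L (L.presheaf.germ ⊤ ξ trivial e)) hs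
    (fun ξ => mk_gen_ne_zero hL (isGen_germ he trivial)) γ 0 hγ (funext fun x => by
      rw [c1CapFun_eq_sum, Finset.sum_eq_zero fun ξ _ => by rw [secDivFun_frame hδ hL he ξ x, mul_zero]]
      rfl)
  rwa [Cyc.RatEquiv, sub_zero] at h

end Groth.L22.C1
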