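import Groth.Agent.L22.C1.Comm
import Groth.Agent.L22.C1.Trivial

/-!
The commutation formula on the closure of a point, with the rational functions supported away from
where the section is the chosen generator.
-/

set_option autoImplicit false
set_option linter.style.haveILetI false
set_option backward.isDefEq.respectTransparency false

universe u

open CategoryTheory AlgebraicGeometry TopologicalSpace

noncomputable section

namespace Groth.L22.C1

variable {X : Scheme.{u}} [IsLocallyNoetherian X] {δ : X → ℤ} (hδ : Cyc.IsDimFun X δ)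

/-- A cycle cut down to a subset. -/
theorem exists_cycle_restrict (α : AlgebraicCycle X ℤ) (P : X → Prop) :
    ∃ β : AlgebraicCycle X ℤ, (∀ ξ, P ξ → β ξ = α ξ) ∧ ∀ ξ, ¬ P ξ → β ξ = 0 := by
  classical
  obtain ⟨β, hβ⟩ := exists_cycle (fun ξ => if P ξ then α ξ else 0) fun x => by
    obtain ⟨V, hV, hxV, -⟩ := exists_isAffineOpen_mem_and_subset (x := x) (U := ⊤) trivial
    refine ⟨V, hxV, (α.locallyFiniteSupport.finite_inter_support_of_isCompact hV.isCompact).subset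
      fun z hz => ⟨hz.2, fun h => hz.1 ?_⟩⟩
    show (if P z then α z else 0) = 0
    rw [show α z = 0 from h, ite_self]
  exact ⟨β, fun ξ h => by rw [hβ]; exact if_pos h, fun ξ h => by rw [hβ]; exact if_neg h⟩

include hδ in
/-- Changing sections only on `S` changes the cap by divisors living on `S`. -/
theorem ratOn_change {L : X.Modules} (hL : PicF.IsInvertible L) (k : ℤ) (α : AlgebraicCycle X ℤ)
    (hα : α ∈ Cyc.Zk X δ (k + 1)) (S : Set X) (u v : (ξ : X) → Cyc.secFibre L ξ) (hu : ∀ ξ, u ξ ≠ 0)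
    (hv : ∀ ξ, v ξ ≠ 0) (hS : ∀ ξ, α ξ ≠ 0 → ξ ∈ S ∨ u ξ = v ξ) :
    RatOn δ k S (fun x => Cyc.c1CapFun δ L ⇑α u x - Cyc.c1CapFun δ L ⇑α v x) := by
  classical
  choose φ hφ using fun ξ => exists_ratio hL ξ (v ξ) (u ξ) (hv ξ)
  have hφ0 : ∀ ξ, X.residue ξ (φ ξ) ≠ 0 := fun ξ h => hu ξ (by
    obtain ⟨e, he⟩ := exists_isGen hL ξ
    obtain ⟨a, ha⟩ := exists_smul_mk he (v ξ)
    rw [hφ ξ, ha, smul_smul, ← Submodule.Quotient.mk_smul]
    exact (mk_smul_eq_zero_iff hL he _).2 (by rw [map_mul, h, zero_mul]))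
  obtain ⟨β, hβ1, hβ2⟩ := exists_cycle_restrict α fun ξ => u ξ ≠ v ξ
  refine ratOn_of_sum hδ k β (fun ξ hξ => ?_) (fun ξ hξ => ?_) (fun ξ => X.residue ξ (φ ξ)) hφ0 fun x => ?_
  · by_cases h : u ξ ≠ v ξ
    · rw [hβ1 ξ h]; exact hα ξ hξ
    · exact hβ2 ξ h
  · by_cases h : u ξ ≠ v ξ
    · rw [hβ1 ξ h] at hξ
      exact (hS ξ hξ).resolve_right h
    · exact absurd (hβ2 ξ h) hξ
  rw [c1CapFun_eq_sum, c1CapFun_eq_sum, ← Finset.sum_sub_distrib]
  have hsub : (finite_gen β x).toFinset ⊆ (finite_gen α x).toFinset := fun ξ hξ => by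
    rw [Set.Finite.mem_toFinset] at hξ ⊢
    refine ⟨hξ.1, fun h => hξ.2 ?_⟩
    by_cases h' : u ξ ≠ v ξ
    · rw [hβ1 ξ h', h]
    · exact hβ2 ξ h'
  rw [Finset.sum_subset (f := fun ξ => β ξ * Cyc.divFun δ ξ (X.residue ξ (φ ξ)) x) hsub fun ξ hξ h => by
    rw [Set.Finite.mem_toFinset] at h hξ
    rw [show β ξ = 0 from by_contra fun h' => h ⟨hξ.1, h'⟩, zero_mul]]
  refine Finset.sum_congr rfl fun ξ _ => ?_
  by_cases h : u ξ ≠ v ξ
  · rw [hβ1 ξ h, hφ ξ, secDivFun_smul hδ hL ξ _ (hv ξ) _ (hφ0 ξ)]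
    ring
  · rw [not_not.1 h, hβ2 ξ fun h' => h' (not_not.1 h)]
    simp

include hδ in
theorem ratOn_comm_integral [IsIntegral X] {L N : X.Modules} (hL : PicF.IsInvertible L)
    (hN : PicF.IsInvertible N) (s : Cyc.secFibre L (genericPoint X)) (hs : s ≠ 0)
    (t : Cyc.secFibre N (genericPoint X)) (ht : t ≠ 0) (u : (ξ : X) → Cyc.secFibre L ξ) (hu : ∀ ξ, u ξ ≠ 0)
    (u' : (ξ : X) → Cyc.secFibre N ξ) (hu' : ∀ ξ, u' ξ ≠ 0) (S : Set X)
    (hS : ∀ ξ, ξ ∉ S → δ ξ + 1 = δ (genericPoint X) → (∃ e : L.presheaf.stalk ξ, IsGen L e ∧ u ξ = mk L e ∧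
      s = mk L (L.presheaf.stalkSpecializes (gs ξ) e)) ∨ ∃ e : N.presheaf.stalk ξ, IsGen N e ∧ u' ξ = mk N e ∧
      t = mk N (N.presheaf.stalkSpecializes (gs ξ) e)) :
    RatOn δ (δ (genericPoint X) - 2) S (fun x =>
      Cyc.c1CapFun δ L (Cyc.secDivFun δ N (genericPoint X) t) u x -
        Cyc.c1CapFun δ N (Cyc.secDivFun δ L (genericPoint X) s) u' x) := by
  classical
  let PL : X → Prop := fun ξ => ∃ e : L.presheaf.stalk ξ, IsGen L e ∧ u ξ = mk L e ∧
      s = mk L (L.presheaf.stalkSpecializes (gs ξ) e)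
  let PN : X → Prop := fun ξ => ∃ e : N.presheaf.stalk ξ, IsGen N e ∧ u' ξ = mk N e ∧
      t = mk N (N.presheaf.stalkSpecializes (gs ξ) e)
  have hexL : ∀ ξ : X, ∃ e : L.presheaf.stalk ξ, IsGen L e ∧ (PL ξ →
      u ξ = mk L e ∧ s = mk L (L.presheaf.stalkSpecializes (gs ξ) e)) := fun ξ => by
    by_cases h : PL ξ
    · obtain ⟨e, he, h1⟩ := h
      exact ⟨e, he, fun _ => h1⟩
    · obtain ⟨e, he⟩ := exists_isGen hL ξ
      exact ⟨e, he, fun h1 => absurd h1 h⟩
  have hexN : ∀ ξ : X, ∃ e : N.presheaf.stalk ξ, IsGen N e ∧ (PN ξ →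
      u' ξ = mk N e ∧ t = mk N (N.presheaf.stalkSpecializes (gs ξ) e)) := fun ξ => by
    by_cases h : PN ξ
    · obtain ⟨e, he, h1⟩ := h
      exact ⟨e, he, fun _ => h1⟩
    · obtain ⟨e, he⟩ := exists_isGen hN ξ
      exact ⟨e, he, fun h1 => absurd h1 h⟩
  choose eL heL heL' using hexL
  choose eN heN heN' using hexN
  have hzero : ∀ {M : X.Modules} (_ : PicF.IsInvertible M) (r : Cyc.secFibre M (genericPoint X)) (_ : r ≠ 0) {ξ : X}
      {e : M.presheaf.stalk ξ}, IsGen M e → δ ξ + 1 = δ (genericPoint X) →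
      r = mk M (M.presheaf.stalkSpecializes (gs ξ) e) → Cyc.secDivFun δ M (genericPoint X) r ξ = 0 :=
    fun {M} hM r hr {ξ e} he hd h => by
      have hrep : Rep M r e 1 1 := ⟨one_ne_zero, by rw [map_one, one_smul, one_smul]; exact h⟩
      rw [hrep.secDivFun_eq hM hδ he hr hd, sub_self]
  obtain ⟨α, hα, hαZ⟩ := exists_cycle_secDiv hδ hN t ht
  obtain ⟨β, hβ, hβZ⟩ := exists_cycle_secDiv hδ hL s hs
  have h1 := ratOn_change hδ hL _ α hαZ S u (fun ξ => mk L (eL ξ)) hu (fun ξ => mk_gen_ne_zero hL (heL ξ))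
    fun ξ hξ => by
      by_cases h : ξ ∈ S
      · exact Or.inl h
      · rw [hα] at hξ
        have hd := (secDivFun_ne_zero δ hξ).2
        rcases hS ξ h hd with h' | h'
        · exact Or.inr (heL' ξ h').1
        · exact absurd (hzero hN t ht (heN ξ) hd (heN' ξ h').2) hξ
  have h2 := ratOn_change hδ hN _ β hβZ S u' (fun ξ => mk N (eN ξ)) hu' (fun ξ => mk_gen_ne_zero hN (heN ξ))
    fun ξ hξ => by
      by_cases h : ξ ∈ S
      · exact Or.inl h
      · rw [hβ] at hξ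
        have hd := (secDivFun_ne_zero δ hξ).2
        rcases hS ξ h hd with h' | h'
        · exact absurd (hzero hL s hs (heL ξ) hd (heL' ξ h').2) hξ
        · exact Or.inr (heN' ξ h').1
  have h3 := comm_exact hδ hL hN s hs t ht eL heL eN heN S fun ξ hξ hd =>
    (hS ξ hξ hd).imp (fun h => (heL' ξ h).2) fun h => (heN' ξ h).2
  refine ((h1.sub hδ h2).sub hδ h3).congr fun x => ?_
  rw [hα, hβ]
  ring

end Groth.L22.C1

namespace Groth.L22.C1

variable {X W : Scheme.{u}}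

theorem pullSec_eq_mk (f : W ⟶ X) {L : X.Modules} (hL : PicF.IsInvertible L)
    (hL' : PicF.IsInvertible ((Scheme.Modules.pullback f).obj L)) (v : (ξ : X) → Cyc.secFibre L ξ) (t : W)
    {e : L.presheaf.stalk (f t)} (he : IsGen L e) (hv : v (f t) = mk L e) :
    pullSec f v t = mk _ (pm f L t rfl e) := by
  obtain ⟨a, ha, h2⟩ := exists_pullSec_eq f hL hL' v (specializes_refl (f t)) he
  rw [h2 t rfl, TopCat.Presheaf.stalkSpecializes_refl]
  rw [hv, TopCat.Presheaf.stalkSpecializes_refl] at ha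
  have h1 : X.residue (f t) a = X.residue (f t) 1 :=
    smul_mk_inj hL he (ha.symm.trans (one_smul _ (mk L e)).symm)
  show Groth.L22.Cyc.fibMap f t rfl a • mk _ (pm f L t rfl e) = mk _ (pm f L t rfl e)
  rw [← sub_eq_zero]
  conv_lhs => arg 2; rw [← one_smul (W.presheaf.stalk t) (mk _ (pm f L t rfl e))]
  rw [← sub_smul, ← Submodule.Quotient.mk_smul]
  refine (mk_smul_eq_zero_iff hL' (isGen_pm f hL t rfl he) _).2 ?_
  rw [map_sub, residue_fibMap, h1, map_one, map_one, map_one, map_one, sub_self]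

variable [IsLocallyNoetherian X] [IsLocallyNoetherian W] [IsIntegral W] (i : W ⟶ X) [IsClosedImmersion i]
  {δ : X → ℤ} (hδ : Cyc.IsDimFun X δ)

include hδ in
theorem ratOn_comm_aux {L N : X.Modules} (hL : PicF.IsInvertible L) (hN : PicF.IsInvertible N)
    {p : X} (hp : i (genericPoint W) = p) (sL u : (ξ : X) → Cyc.secFibre L ξ) (tN u' : (ξ : X) → Cyc.secFibre N ξ)
    (hs : ∀ ξ, sL ξ ≠ 0) (hu : ∀ ξ, u ξ ≠ 0) (ht : ∀ ξ, tN ξ ≠ 0) (hu' : ∀ ξ, u' ξ ≠ 0) (S : Set X)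
    (hS : ∀ ξ, ξ ∉ S → ∀ h : p ⤳ ξ, δ ξ + 1 = δ p →
      (∃ e : L.presheaf.stalk ξ, IsGen L e ∧ u ξ = mk L e ∧ sL p = mk L (L.presheaf.stalkSpecializes h e)) ∨
      ∃ e : N.presheaf.stalk ξ, IsGen N e ∧ u' ξ = mk N e ∧ tN p = mk N (N.presheaf.stalkSpecializes h e)) :
    RatOn δ (δ p - 2) (Set.range i ∩ S) (fun x =>
      Cyc.c1CapFun δ L (Cyc.secDivFun δ N p (tN p)) u x -
        Cyc.c1CapFun δ N (Cyc.secDivFun δ L p (sL p)) u' x) := by
  subst hp
  have hdW := Groth.L22.Cyc.isDimFun_closedImmersion i hδ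
  have hL' := Groth.L18.Ample.isInvertible_pullback i hL
  have hN' := Groth.L18.Ample.isInvertible_pullback i hN
  have h := ratOn_comm_integral hdW hL' hN' (pullSec i sL (genericPoint W)) (pullSec_ne_zero i hL hL' sL _ (hs _))
    (pullSec i tN (genericPoint W)) (pullSec_ne_zero i hN hN' tN _ (ht _)) (pullSec i u)
    (fun w => pullSec_ne_zero i hL hL' u w (hu _)) (pullSec i u') (fun w => pullSec_ne_zero i hN hN' u' w (hu' _))
    {w | i w ∈ S} fun w hw hd => by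
      rcases hS (i w) hw ((gs w).map i.continuous) hd with ⟨e, he, e1, e2⟩ | ⟨e, he, e1, e2⟩
      · refine Or.inl ⟨pm i L w rfl e, isGen_pm i hL w rfl he, pullSec_eq_mk i hL hL' u w he e1, ?_⟩
        rw [pullSec_eq_mk i hL hL' sL _ (he.specializes hL _) e2]
        exact congrArg (mk _) (pm_specializes i L (gs w) rfl rfl ((gs w).map i.continuous) e).symm
      · refine Or.inr ⟨pm i N w rfl e, isGen_pm i hN w rfl he, pullSec_eq_mk i hN hN' u' w he e1, ?_⟩
        rw [pullSec_eq_mk i hN hN' tN _ (he.specializes hN _) e2]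
        exact congrArg (mk _) (pm_specializes i N (gs w) rfl rfl ((gs w).map i.continuous) e).symm
  have hout : ∀ {M : X.Modules} (r : Cyc.secFibre M (i (genericPoint W))) (x : X), x ∉ Set.range i →
      Cyc.secDivFun δ M (i (genericPoint W)) r x = 0 := fun {M} r x hx => by
    by_contra h0
    exact hx ((secDivFun_ne_zero δ h0).1.mem_closed i.isClosedEmbedding.isClosed_range ⟨_, rfl⟩)
  refine RatOn.map i hδ (S := Set.range i ∩ S) h (fun w hw => ⟨⟨w, rfl⟩, hw⟩) (fun w => ?_) fun x hx => ?_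
  · show _ = _ - _
    rw [c1CapFun_closedImmersion i hδ hL _ (hout _) u hu w, c1CapFun_closedImmersion i hδ hN _ (hout _) u' hu' w]
    have hz : ∀ {M : X.Modules} (hM : PicF.IsInvertible M) (v : (ξ : X) → Cyc.secFibre M ξ), (∀ ξ, v ξ ≠ 0) →
        (fun z => Cyc.secDivFun δ M (i (genericPoint W)) (v (i (genericPoint W))) (i z)) =
        Cyc.secDivFun (fun w => δ (i w)) ((Scheme.Modules.pullback i).obj M) (genericPoint W)
          (pullSec i v (genericPoint W)) :=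
      fun hM v hv => funext fun z => (secDivFun_pullSec i hδ hM v _ z (hv _)).symm
    rw [hz hN tN ht, hz hL sL hs]
  · show _ - _ = (0 : ℤ)
    rw [c1CapFun_eq_zero_of_notMem i _ (hout _) u hx, c1CapFun_eq_zero_of_notMem i _ (hout _) u' hx, sub_zero]

end Groth.L22.C1

namespace Groth.L22.C1

variable {X : Scheme.{u}} [IsLocallyNoetherian X] {δ : X → ℤ} (hδ : Cyc.IsDimFun X δ)

include hδ in
/-- The commutation formula at a point `p`. -/
theorem ratOn_comm (p : X) {L N : X.Modules} (hL : PicF.IsInvertible L) (hN : PicF.IsInvertible N)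
    (sL u : (ξ : X) → Cyc.secFibre L ξ) (tN u' : (ξ : X) → Cyc.secFibre N ξ)
    (hs : ∀ ξ, sL ξ ≠ 0) (hu : ∀ ξ, u ξ ≠ 0) (ht : ∀ ξ, tN ξ ≠ 0) (hu' : ∀ ξ, u' ξ ≠ 0) (S : Set X)
    (hS : ∀ ξ, ξ ∉ S → ∀ h : p ⤳ ξ, δ ξ + 1 = δ p →
      (∃ e : L.presheaf.stalk ξ, IsGen L e ∧ u ξ = mk L e ∧ sL p = mk L (L.presheaf.stalkSpecializes h e)) ∨
      ∃ e : N.presheaf.stalk ξ, IsGen N e ∧ u' ξ = mk N e ∧ tN p = mk N (N.presheaf.stalkSpecializes h e)) :
    RatOn δ (δ p - 2) (closure {p} ∩ S) (fun x =>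
      Cyc.c1CapFun δ L (Cyc.secDivFun δ N p (tN p)) u x - Cyc.c1CapFun δ N (Cyc.secDivFun δ L p (sL p)) u' x) := by
  haveI := Groth.L22.Cyc.isLocallyNoetherian_clSub p
  obtain ⟨i, hi⟩ : ∃ i : Groth.L22.Cyc.clSub p ⟶ X, i = Groth.L22.Cyc.clι p := ⟨_, rfl⟩
  haveI : IsClosedImmersion i := hi ▸ inferInstance
  have hp : i (genericPoint (Groth.L22.Cyc.clSub p)) = p := hi ▸ Groth.L22.Cyc.clι_genericPoint p
  have hr : Set.range i = closure {p} := hi ▸ Groth.L22.Cyc.range_clι p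
  rw [← hr]
  exact ratOn_comm_aux i hδ hL hN hp sL u tN u' hs hu ht hu' S hS

open Classical in
include hδ in
/-- Capping a principal divisor. -/
theorem ratOn_c1Cap_divFun (p : X) (f : X.residueField p) (hf : f ≠ 0) {L : X.Modules}
    (hL : PicF.IsInvertible L) (sL u : (ξ : X) → Cyc.secFibre L ξ) (hs : ∀ ξ, sL ξ ≠ 0) (hu : ∀ ξ, u ξ ≠ 0)
    (S : Set X) (hS : ∀ ξ, ξ ∉ S → ∀ h : p ⤳ ξ, δ ξ + 1 = δ p → ∃ e : L.presheaf.stalk ξ, IsGen L e ∧ u ξ = mk L e ∧
        sL p = mk L (L.presheaf.stalkSpecializes h e)) :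
    RatOn δ (δ p - 2) (closure {p} ∩ S) (fun x => Cyc.c1CapFun δ L (Cyc.divFun δ p f) u x) := by
  obtain ⟨φ, rfl⟩ := X.residue_surjective p f
  have hO : PicF.IsInvertible (Coh.structureModule X) := Groth.L18.Ample.isInvertible_structureModule X
  have he := Groth.L19.AmpleAffine.isFrame_one (⊤ : X.Opens)
  set one := fun ξ : X => mk (Coh.structureModule X) ((Coh.structureModule X).presheaf.germ ⊤ ξ trivial (1 : Γ(X, ⊤)))
    with hone
  have hone0 : ∀ ξ, one ξ ≠ 0 := fun ξ => mk_gen_ne_zero hO (isGen_germ he trivial)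
  have hdiv : Cyc.divFun δ p (X.residue p φ) = Cyc.secDivFun δ (Coh.structureModule X) p (φ • one p) :=
    funext fun x => by
      rw [secDivFun_smul hδ hO p _ (hone0 p) φ hf, hone, secDivFun_frame hδ hO he p x, add_zero]
  have hne : φ • one p ≠ 0 := by
    rw [hone, ← Submodule.Quotient.mk_smul]
    exact fun h => hf ((mk_smul_eq_zero_iff hO (isGen_germ he trivial) φ).1 h)
  have h := ratOn_comm hδ p hL hO sL u (Function.update one p (φ • one p)) one hs hu (fun ξ => by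
    by_cases hξ : ξ = p
    · subst hξ; rwa [Function.update_self]
    · rw [Function.update_of_ne hξ]; exact hone0 ξ) hone0 S fun ξ h1 h2 h3 => Or.inl (hS ξ h1 h2 h3)
  rw [Function.update_self, ← hdiv] at h
  refine h.congr fun x => ?_
  have h0 : Cyc.c1CapFun δ (Coh.structureModule X) (Cyc.secDivFun δ L p (sL p)) one x = 0 :=
    finsum_eq_zero_of_forall_eq_zero fun ξ => by rw [hone, secDivFun_frame hδ hO he ξ x, mul_zero]
  show _ = _ - _
  rw [h0, sub_zero]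

end Groth.L22.C1
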