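import Groth.Agent.L22.C1.Basic
import Groth.Agent.L22.Cyc.PushSheaf
import Groth.Agent.L22.Cyc.FlatDiv
import Groth.Agent.L18.Frame
import Groth.Agent.L18.AmpleComp

/-!
Rational sections of a pulled back invertible module.
-/

set_option autoImplicit false
set_option linter.style.haveILetI false
set_option backward.isDefEq.respectTransparency false

universe u

open CategoryTheory CategoryTheory.Limits AlgebraicGeometry TopologicalSpace Opposite

noncomputable section

namespace Groth.L22.C1

open Groth.L18.Frame (pull)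

variable {X Y : Scheme.{u}} (f : X ⟶ Y) (L : Y.Modules)

/-- Pullback of germs. -/
def pm (x : X) {y : Y} (hx : f x = y) :
    L.presheaf.stalk y →+ ((Scheme.Modules.pullback f).obj L).presheaf.stalk x :=
  (Groth.L22.Cyc.fibStalk f ((Scheme.Modules.pullback f).obj L) x hx).comp
    (((Groth.L00.Stk.F Y y).map
      ((Scheme.Modules.pullbackPushforwardAdjunction f).unit.app L)).hom.toAddMonoidHom)

theorem pm_germ (x : X) {y : Y} (hx : f x = y) {V : Y.Opens} (hy : y ∈ V) (m : Γ(L, V)) :
    pm f L x hx (L.presheaf.germ V y hy m) =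
      ((Scheme.Modules.pullback f).obj L).presheaf.germ (f ⁻¹ᵁ V) x (show f x ∈ V from hx ▸ hy)
        (pull f L V m) := by
  have h1 : ((Groth.L00.Stk.F Y y).map ((Scheme.Modules.pullbackPushforwardAdjunction f).unit.app L)).hom
      (L.presheaf.germ V y hy m) =
      ((Coh.push f).obj ((Scheme.Modules.pullback f).obj L)).presheaf.germ V y hy (pull f L V m) :=
    DerSch.stalkFunctor_map_germ y ((Scheme.Modules.pullbackPushforwardAdjunction f).unit.app L) V hy m
  exact (congrArg (Groth.L22.Cyc.fibStalk f ((Scheme.Modules.pullback f).obj L) x hx) h1).trans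
    (Groth.L22.Cyc.fibStalk_germ f _ x hx hy _)

theorem pm_smul (x : X) {y : Y} (hx : f x = y) (a : Y.presheaf.stalk y) (v : L.presheaf.stalk y) :
    pm f L x hx (a • v) = Groth.L22.Cyc.fibMap f x hx a • pm f L x hx v := by
  exact (congrArg (Groth.L22.Cyc.fibStalk f ((Scheme.Modules.pullback f).obj L) x hx)
    (((Groth.L00.Stk.F Y y).map ((Scheme.Modules.pullbackPushforwardAdjunction f).unit.app L)).hom.map_smul a v)).trans
    (Groth.L22.Cyc.fibStalk_smul f _ x hx a _)

theorem pm_specializes {x t : X} {y η : Y} (h : t ⤳ x) (hx : f x = y) (ht : f t = η) (h' : η ⤳ y)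
    (v : L.presheaf.stalk y) :
    ((Scheme.Modules.pullback f).obj L).presheaf.stalkSpecializes h (pm f L x hx v) =
      pm f L t ht (L.presheaf.stalkSpecializes h' v) := by
  obtain ⟨V, hy, m, rfl⟩ := TopCat.Presheaf.exists_germ_eq (F := L.presheaf) (x := y) v
  rw [pm_germ, TopCat.Presheaf.germ_stalkSpecializes_apply, TopCat.Presheaf.germ_stalkSpecializes_apply, pm_germ]

theorem fibMap_specializes {x t : X} {y η : Y} (h : t ⤳ x) (hx : f x = y) (ht : f t = η) (h' : η ⤳ y)
    (a : Y.presheaf.stalk y) :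
    X.presheaf.stalkSpecializes h (Groth.L22.Cyc.fibMap f x hx a) =
      Groth.L22.Cyc.fibMap f t ht (Y.presheaf.stalkSpecializes h' a) := by
  subst hx ht
  obtain ⟨V, hy, b, rfl⟩ := TopCat.Presheaf.exists_germ_eq (F := Y.presheaf) (x := f x) a
  show X.presheaf.stalkSpecializes h (f.stalkMap x (Y.presheaf.stalkSpecializes _ _)) =
    f.stalkMap t (Y.presheaf.stalkSpecializes _ _)
  rw [TopCat.Presheaf.germ_stalkSpecializes_apply, TopCat.Presheaf.germ_stalkSpecializes_apply,
    TopCat.Presheaf.germ_stalkSpecializes_apply, Scheme.Hom.germ_stalkMap_apply, Scheme.Hom.germ_stalkMap_apply,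
    TopCat.Presheaf.germ_stalkSpecializes_apply]

theorem residue_fibMap {t : X} {η : Y} (e : f t = η) (a : Y.presheaf.stalk η) :
    X.residue t (Groth.L22.Cyc.fibMap f t e a) =
      f.residueFieldMap t ((Y.residueFieldCongr e.symm).hom (Y.residue η a)) := by
  subst e
  show X.residue t (f.stalkMap t (Y.presheaf.stalkSpecializes _ a)) = _
  rw [TopCat.Presheaf.stalkSpecializes_refl, Scheme.residueFieldCongr_refl]
  exact (congrArg (fun k => (ConcreteCategory.hom k) a) (Scheme.residue_residueFieldMap f t)).symm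

variable {L}

theorem isGen_pm (hL : PicF.IsInvertible L) (x : X) {y : Y} (hx : f x = y) {t : L.presheaf.stalk y}
    (ht : IsGen L t) : IsGen ((Scheme.Modules.pullback f).obj L) (pm f L x hx t) := by
  obtain ⟨U, e, hyU, he⟩ := Groth.L18.Frame.exists_frame hL y
  obtain ⟨c, hc, rfl⟩ := (isGen_germ he hyU).exists_unit hL ht
  rw [pm_smul, pm_germ]
  exact (isGen_germ (Groth.L18.Frame.IsFrame.pullback f L he) (show f x ∈ U from hx ▸ hyU)).of_isUnit (hc.map _)

/-- The pullback of a rational section. -/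
def pullSec (v : (η : Y) → Cyc.secFibre L η) (t : X) : Cyc.secFibre ((Scheme.Modules.pullback f).obj L) t :=
  mk _ (pm f L t rfl (Submodule.Quotient.mk_surjective _ (v (f t))).choose)

/-- Near a specialization, a pulled back section is the image of the coefficient on a generator. -/
theorem exists_pullSec_eq (hL : PicF.IsInvertible L) (hL' : PicF.IsInvertible ((Scheme.Modules.pullback f).obj L))
    (v : (η : Y) → Cyc.secFibre L η) {ξ y : Y} (h : ξ ⤳ y) {t₀ : L.presheaf.stalk y} (ht₀ : IsGen L t₀) :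
    ∃ a : Y.presheaf.stalk ξ, v ξ = a • mk L (L.presheaf.stalkSpecializes h t₀) ∧
      ∀ (t : X) (e : f t = ξ), pullSec f v t =
        Groth.L22.Cyc.fibMap f t e a • mk _ (pm f L t e (L.presheaf.stalkSpecializes h t₀)) := by
  obtain ⟨a, ha⟩ := exists_smul_mk (ht₀.specializes hL h) (v ξ)
  refine ⟨a, ha, fun t e => ?_⟩
  subst e
  obtain ⟨b, hb⟩ := (ht₀.specializes hL h).exists_smul (Submodule.Quotient.mk_surjective _ (v (f t))).choose
  have hab : Y.residue (f t) b = Y.residue (f t) a := by
    refine smul_mk_inj hL (ht₀.specializes hL h) ?_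
    have h1 := (Submodule.Quotient.mk_surjective _ (v (f t))).choose_spec
    rw [← hb, Submodule.Quotient.mk_smul] at h1
    exact h1.trans ha
  have hgen := isGen_pm f hL t rfl (ht₀.specializes hL h)
  rw [pullSec, ← hb, pm_smul]
  show Submodule.Quotient.mk _ = _
  rw [Submodule.Quotient.mk_smul, ← sub_eq_zero, ← sub_smul, ← Submodule.Quotient.mk_smul]
  refine (mk_smul_eq_zero_iff hL' hgen _).2 ?_
  rw [map_sub, residue_fibMap, residue_fibMap, hab, sub_self]

theorem pullSec_ne_zero (hL : PicF.IsInvertible L) (hL' : PicF.IsInvertible ((Scheme.Modules.pullback f).obj L))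
    (v : (η : Y) → Cyc.secFibre L η) (t : X) (hv : v (f t) ≠ 0) : pullSec f v t ≠ 0 := by
  obtain ⟨t₀, ht₀⟩ := exists_isGen hL (f t)
  obtain ⟨a, ha, h2⟩ := exists_pullSec_eq f hL hL' v (specializes_refl (f t)) ht₀
  rw [h2 t rfl, ← Submodule.Quotient.mk_smul]
  intro h0
  rw [mk_smul_eq_zero_iff hL' (isGen_pm f hL t rfl (ht₀.specializes hL _)), residue_fibMap, map_eq_zero,
    map_eq_zero] at h0
  exact hv (by rw [ha, ← Submodule.Quotient.mk_smul]; exact (mk_smul_eq_zero_iff hL (ht₀.specializes hL _) a).2 h0)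

variable [IsLocallyNoetherian X] [IsLocallyNoetherian Y] {δX : X → ℤ} {δY : Y → ℤ}

/-- The local description of the divisor of a section and of its pullback by a rational function. -/
theorem exists_local_fun (hdX : Cyc.IsDimFun X δX) (hdY : Cyc.IsDimFun Y δY) (hL : PicF.IsInvertible L)
    (hL' : PicF.IsInvertible ((Scheme.Modules.pullback f).obj L)) (v : (η : Y) → Cyc.secFibre L η) (ξ y : Y)
    (hv : v ξ ≠ 0) : ∃ g : Y.residueField ξ, g ≠ 0 ∧ Cyc.secDivFun δY L ξ (v ξ) y = Cyc.divFun δY ξ g y ∧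
      ∀ (x : X), f x = y → ∀ (t : X) (e : f t = ξ),
        Cyc.secDivFun δX ((Scheme.Modules.pullback f).obj L) t (pullSec f v t) x =
          Cyc.divFun δX t (f.residueFieldMap t ((Y.residueFieldCongr e.symm).hom g)) x := by
  by_cases h : ξ ⤳ y
  · obtain ⟨t₀, ht₀⟩ := exists_isGen hL y
    obtain ⟨a, ha, h2⟩ := exists_pullSec_eq f hL hL' v h ht₀
    refine ⟨Y.residue ξ a, fun h0 => hv ?_, ?_, fun x hx t e => ?_⟩
    · rw [ha, ← Submodule.Quotient.mk_smul]
      exact (mk_smul_eq_zero_iff hL (ht₀.specializes hL h) a).2 h0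
    · unfold Cyc.secDivFun Cyc.divFun
      split_ifs with hc
      · rw [ha]
        exact secOrdAt_gen hdY hL h hc.2 ht₀ a
      · rfl
    · unfold Cyc.secDivFun Cyc.divFun
      split_ifs with hc
      · rw [h2 t e, ← pm_specializes f L hc.1 hx e h,
          secOrdAt_gen hdX hL' hc.1 hc.2 (isGen_pm f hL x hx ht₀), residue_fibMap]
      · rfl
  · refine ⟨1, one_ne_zero, ?_, fun x hx t e => ?_⟩
    · rw [Cyc.secDivFun, dif_neg fun hc => h hc.1, Cyc.divFun, dif_neg fun hc => h hc.1]
    · have h' : ¬ t ⤳ x := fun ht => h (e ▸ hx ▸ ht.map f.continuous)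
      rw [Cyc.secDivFun, dif_neg fun hc => h' hc.1, Cyc.divFun, dif_neg fun hc => h' hc.1]

end Groth.L22.C1
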